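import Mathlib
import Groth.Agent.RzLib.FlatFP

/-!
# Algebras over semivaluation rings

Let `P` be a prime of `O` with `O ⧸ P` a valuation ring, `P = t P` for `t ∉ P`, and `B` the localisation at `P`.
An `O`-algebra of finite type without torsion whose base change to `B` is flat and finitely presented is flat and
finitely presented.
-/

set_option autoImplicit false
set_option maxHeartbeats 800000

noncomputable section

universe u

open MvPolynomial TensorProduct

namespace RGFlatLib

variable {O : Type u} [CommRing O] {P : Ideal O}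

/-- An element of `PC` is a multiple of an element of `PC`, by any element outside `P`. -/
theorem exists_smul_map {C : Type u} [CommRing C] [Algebra O C]
    (hdiv : ∀ t ∉ P, ∀ p ∈ P, ∃ p' ∈ P, p = t * p') {t : O} (ht : t ∉ P) {x : C}
    (hx : x ∈ P.map (algebraMap O C)) : ∃ y ∈ P.map (algebraMap O C), x = t • y := by
  induction hx using Submodule.span_induction with
  | mem x hx =>
    obtain ⟨p, hp, rfl⟩ := hx
    obtain ⟨p', hp', rfl⟩ := hdiv t ht p hp
    exact ⟨_, Ideal.mem_map_of_mem _ hp', by rw [map_mul, Algebra.smul_def]⟩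
  | zero => exact ⟨0, zero_mem _, (smul_zero t).symm⟩
  | add x y _ _ hx hy =>
    obtain ⟨x', hx', rfl⟩ := hx
    obtain ⟨y', hy', rfl⟩ := hy
    exact ⟨_, add_mem hx' hy', (smul_add t x' y').symm⟩
  | smul c x _ hx =>
    obtain ⟨x', hx', rfl⟩ := hx
    exact ⟨c • x', Ideal.mul_mem_left _ c hx', smul_comm c t x'⟩

variable [P.IsPrime]

/-- A module flat over the localisation: relations become trivial after scaling. -/
theorem exists_relation {B : Type u} [CommRing B] [Algebra O B] [IsLocalization P.primeCompl B]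
    (hB : Function.Injective (algebraMap O B))
    {C C' : Type u} [AddCommGroup C] [Module O C] [AddCommGroup C'] [Module O C'] [Module B C']
    [IsScalarTower O B C'] [Module.Flat B C'] (φ : C →ₗ[O] C') [IsLocalizedModule P.primeCompl φ]
    {l : ℕ} (f : Fin l → O) (x : Fin l → C) (hx : ∑ i, f i • x i = 0) :
    ∃ (t : O) (_ : t ∉ P) (r : ℕ) (β : Fin l → Fin r → O) (d : Fin r → C),
      (∀ i, t • x i = ∑ j, β i j • d j) ∧ ∀ j, ∑ i, f i * β i j = 0 := by
  have h0 : ∑ i, algebraMap O B (f i) • φ (x i) = 0 := by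
    simp only [algebraMap_smul, ← map_smul, ← map_sum, hx, map_zero]
  obtain ⟨r, a, y, hy, ha⟩ := Module.Flat.isTrivialRelation_of_sum_smul_eq_zero h0
  obtain ⟨s, hs⟩ := IsLocalization.exist_integer_multiples_of_finite P.primeCompl
    (fun p : Fin l × Fin r => a p.1 p.2)
  choose β hβ using fun i j => hs (i, j)
  obtain ⟨s', hs'⟩ := IsLocalizedModule.exist_integer_multiples_of_finite P.primeCompl φ y
  choose d hd using hs'
  have e : ∀ i, φ (((s : O) * (s' : O)) • x i) = φ (∑ j, β i j • d j) := by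
    intro i
    rw [map_smul, map_sum, show φ (x i) = _ from hy i, Finset.smul_sum]
    refine Finset.sum_congr rfl fun j _ => ?_
    rw [map_smul]
    calc ((s : O) * (s' : O)) • (a i j • y j) = ((s : O) • a i j) • ((s' : O) • y j) := by
          rw [← algebraMap_smul B, ← algebraMap_smul B (s' : O), smul_smul, smul_smul, map_mul,
            Algebra.smul_def]
          ring_nf
      _ = β i j • φ (d j) := by rw [← hβ i j, algebraMap_smul, hd j]
  choose c hc using fun i => IsLocalizedModule.exists_of_eq (S := P.primeCompl) (e i)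
  refine ⟨(∏ i, (c i : O)) * ((s : O) * (s' : O)), ?_, r, fun i j => (∏ i, (c i : O)) * β i j, d, fun i => ?_,
    fun j => ?_⟩
  · exact mul_mem (prod_mem (S := P.primeCompl) fun i _ => (c i).2) (mul_mem s.2 s'.2)
  · obtain ⟨w, hw⟩ : (c i : O) ∣ ∏ i, (c i : O) := Finset.dvd_prod_of_mem _ (Finset.mem_univ i)
    have hci := hc i
    simp only [Submonoid.smul_def] at hci
    rw [hw, mul_comm (c i : O) w, mul_assoc, mul_smul, mul_smul (c i : O), hci, Finset.smul_sum, Finset.smul_sum]
    refine Finset.sum_congr rfl fun j _ => ?_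
    simp only [smul_smul, mul_assoc]
  · refine hB ?_
    rw [map_sum, map_zero]
    calc ∑ i, algebraMap O B (f i * ((∏ i, (c i : O)) * β i j))
        = algebraMap O B ((∏ i, (c i : O)) * s) * ∑ i, algebraMap O B (f i) * a i j := by
          rw [Finset.mul_sum]
          refine Finset.sum_congr rfl fun i _ => ?_
          rw [map_mul, map_mul, hβ i j, map_mul, Algebra.smul_def]
          ring
      _ = 0 := by rw [ha j, mul_zero]

variable (hdiv : ∀ t ∉ P, ∀ p ∈ P, ∃ p' ∈ P, p = t * p')
variable {B : Type u} [CommRing B] [Algebra O B] [IsLocalization P.primeCompl B]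
variable {C C' : Type u} [CommRing C] [Algebra O C] [CommRing C'] [Algebra O C'] [Algebra B C'] [IsScalarTower O B C']

include hdiv in
/-- The reduction of a torsion free algebra modulo `P` is torsion free. -/
theorem torsionFree_quotient (hC : ∀ t ∉ P, ∀ c : C, t • c = 0 → c = 0) {t : O} (ht : t ∉ P) {c : C}
    (h : t • c ∈ P.map (algebraMap O C)) : c ∈ P.map (algebraMap O C) := by
  obtain ⟨y, hy, e⟩ := exists_smul_map hdiv ht h
  rw [sub_eq_zero.1 (hC t ht (c - y) (by rw [smul_sub, e, sub_self]))]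
  exact hy

variable [ValuationRing (O ⧸ P)]

include hdiv in
/-- The flatness half. -/
theorem flat_of_semival (hB : Function.Injective (algebraMap O B))
    (hC : ∀ t ∉ P, ∀ c : C, t • c = 0 → c = 0) (φ : C →ₐ[O] C') [IsLocalizedModule P.primeCompl φ.toLinearMap]
    [Module.Flat B C'] : Module.Flat O C := by
  refine Module.Flat.iff_forall_isTrivialRelation.2 fun {l f x} hx => ?_
  obtain ⟨t, ht, r, β, d, htx, hβ⟩ := exists_relation (P := P) hB φ.toLinearMap f x hx
  letI : Algebra (O ⧸ P) (C ⧸ P.map (algebraMap O C)) := Ideal.Quotient.algebraQuotientOfLEComap Ideal.le_comap_map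
  haveI : IsScalarTower O (O ⧸ P) (C ⧸ P.map (algebraMap O C)) := IsScalarTower.of_algebraMap_eq fun _ => rfl
  let q : C →ₗ[O] C ⧸ P.map (algebraMap O C) := (Ideal.Quotient.mkₐ O _).toLinearMap
  have hq : ∀ (o : O) (z : C), q (o • z) = Ideal.Quotient.mk P o • q z := fun o z => by
    rw [map_smul]; exact (algebraMap_smul (O ⧸ P) o (q z)).symm
  haveI : Module.Flat (O ⧸ P) (C ⧸ P.map (algebraMap O C)) := by
    rw [Module.Flat.flat_iff_torsion_eq_bot_of_isBezout, eq_bot_iff]
    intro z hz
    obtain ⟨⟨o', ho'⟩, hz⟩ := hz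
    obtain ⟨o, rfl⟩ := Ideal.Quotient.mk_surjective o'
    obtain ⟨z, rfl⟩ := Ideal.Quotient.mk_surjective z
    have ho : o ∉ P := fun h => nonZeroDivisors.ne_zero ho' (Ideal.Quotient.eq_zero_iff_mem.2 h)
    have : q (o • z) = 0 := (hq o z).trans hz
    exact Ideal.Quotient.eq_zero_iff_mem.2 (torsionFree_quotient hdiv hC ho (Ideal.Quotient.eq_zero_iff_mem.1 this))
  let σ := Fin l ⊕ Fin r
  let rel : Fin l → σ → O ⧸ P := fun i => Sum.elim (fun i' => if i' = i then -Ideal.Quotient.mk P t else 0)
    fun j => Ideal.Quotient.mk P (β i j)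
  let X : σ → C ⧸ P.map (algebraMap O C) := Sum.elim (fun i => q (x i)) fun j => q (d j)
  let fK : (Fin l → O ⧸ P) →ₗ[O ⧸ P] (σ → O ⧸ P) := Fintype.linearCombination (O ⧸ P) rel
  let xN : (σ → O ⧸ P) →ₗ[O ⧸ P] C ⧸ P.map (algebraMap O C) := Fintype.linearCombination (O ⧸ P) X
  have hcomp : xN ∘ₗ fK = 0 := by
    refine LinearMap.pi_ext' fun i => LinearMap.ext_ring ?_
    simp only [LinearMap.comp_apply, LinearMap.single_apply, LinearMap.zero_apply, fK,
      Fintype.linearCombination_apply_single, one_smul]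
    simp only [xN, rel, X, Fintype.linearCombination_apply, σ, Fintype.sum_sum_type, Sum.elim_inl, Sum.elim_inr,
      ite_smul, zero_smul, Finset.sum_ite_eq', Finset.mem_univ, if_true, neg_smul, ← hq]
    rw [← map_sum, htx i, neg_add_cancel]
  obtain ⟨k, a, y, hay, haf⟩ := Module.Flat.exists_factorization_of_comp_eq_zero_of_free hcomp
  choose e he using fun m : Fin k => Ideal.Quotient.mk_surjective (y (Finsupp.single m 1))
  choose γ hγ using fun (j : σ) (m : Fin k) => Ideal.Quotient.mk_surjective (a (Pi.single j 1) m)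
  have hdj : ∀ j, q (d j - ∑ m, γ (Sum.inr j) m • e m) = 0 := fun j => by
    have h1 := LinearMap.congr_fun hay (Pi.single (Sum.inr j) 1)
    simp only [xN, Fintype.linearCombination_apply_single, one_smul, LinearMap.comp_apply, X, Sum.elim_inr] at h1
    rw [map_sub, sub_eq_zero, h1, map_sum, ← Finsupp.univ_sum_single (a (Pi.single (Sum.inr j) 1)), map_sum]
    refine Finset.sum_congr rfl fun m _ => ?_
    rw [hq, hγ, show q (e m) = y (Finsupp.single m 1) from he m, ← map_smul, Finsupp.smul_single, smul_eq_mul, mul_one]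
  have hπ : ∀ i m, ∃ δ, ∑ j, β i j * γ (Sum.inr j) m = t * δ := fun i m => by
    have h1 := congrArg (fun v => v m) (LinearMap.congr_fun haf (Pi.single i 1))
    simp only [LinearMap.comp_apply, fK, Fintype.linearCombination_apply_single, one_smul, LinearMap.zero_apply,
      Finsupp.coe_zero, Pi.zero_apply] at h1
    rw [pi_eq_sum_univ' (rel i), map_sum, Finsupp.finsetSum_apply] at h1
    simp only [map_smul, Finsupp.smul_apply, smul_eq_mul, ← hγ, rel, σ, Fintype.sum_sum_type, Sum.elim_inl,
      Sum.elim_inr, ite_mul, zero_mul, Finset.sum_ite_eq', Finset.mem_univ, if_true, ← map_mul, neg_mul, ← map_sum,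
      neg_add_eq_sub, ← map_sub] at h1
    obtain ⟨p', -, hp'⟩ := hdiv t ht _ (Ideal.Quotient.eq_zero_iff_mem.1 h1)
    exact ⟨γ (Sum.inl i) m + p', by linear_combination hp'⟩
  choose δ hδ using hπ
  choose h _ hh using fun j => exists_smul_map hdiv ht (Ideal.Quotient.eq_zero_iff_mem.1 (hdj j))
  have hxi : ∀ i, x i = (∑ m, δ i m • e m) + ∑ j, β i j • h j := fun i => by
    refine sub_eq_zero.1 (hC t ht _ ?_)
    rw [smul_sub, sub_eq_zero, htx i, smul_add, Finset.smul_sum, Finset.smul_sum]
    have : ∀ j, d j = (∑ m, γ (Sum.inr j) m • e m) + t • h j := fun j => by rw [← hh j]; abel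
    simp only [this, smul_add, Finset.sum_add_distrib, Finset.smul_sum, smul_smul]
    congr 1
    · rw [Finset.sum_comm]
      refine Finset.sum_congr rfl fun m _ => ?_
      rw [← Finset.sum_smul, hδ]
    · simp only [mul_comm t]
  refine ⟨k + r, fun i => Sum.elim (δ i) (β i) ∘ finSumFinEquiv.symm,
    Sum.elim e h ∘ finSumFinEquiv.symm, fun i => ?_, fun j => ?_⟩
  · rw [← finSumFinEquiv.sum_comp, Fintype.sum_sum_type]
    simpa using hxi i
  · obtain ⟨j, rfl⟩ := finSumFinEquiv.surjective j
    rcases j with m | j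
    · simp only [Function.comp_apply, Equiv.symm_apply_apply, Sum.elim_inl]
      refine hB ?_
      have hu := IsLocalization.map_units B (⟨t, ht⟩ : P.primeCompl)
      refine hu.mul_left_cancel ?_
      rw [map_zero, mul_zero, ← map_mul, Finset.mul_sum]
      have : ∑ i, t * (f i * δ i m) = 0 := by
        calc ∑ i, t * (f i * δ i m) = ∑ i, ∑ j, f i * β i j * γ (Sum.inr j) m := by
              refine Finset.sum_congr rfl fun i _ => ?_
              rw [mul_left_comm, ← hδ, Finset.mul_sum]
              simp only [mul_assoc]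
          _ = 0 := by
              rw [Finset.sum_comm]
              simp only [← Finset.sum_mul, hβ, zero_mul, Finset.sum_const_zero]
      rw [this, map_zero]
    · simpa using hβ j

include hdiv in
/-- The finite presentation half. -/
theorem finitePresentation_of_semival (hB : Function.Injective (algebraMap O B))
    (hC : ∀ t ∉ P, ∀ c : C, t • c = 0 → c = 0) (φ : C →ₐ[O] C')
    [IsLocalizedModule P.primeCompl φ.toLinearMap]
    [Algebra.FiniteType O C] [Module.Flat O C] [Algebra.FinitePresentation B C'] :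
    Algebra.FinitePresentation O C := by
  obtain ⟨n, π₀, hπ₀⟩ := Algebra.FiniteType.iff_quotient_mvPolynomial''.1 (inferInstance : Algebra.FiniteType O C)
  let σ := ULift.{u} (Fin n)
  let π : MvPolynomial σ O →ₐ[O] C := π₀.comp (rename Equiv.ulift)
  have hπ : Function.Surjective π := hπ₀.comp (rename_surjective _ Equiv.ulift.surjective)
  refine Algebra.FinitePresentation.of_surjective hπ ?_
  letI : Algebra (MvPolynomial σ O) (MvPolynomial σ B) := MvPolynomial.algebraMvPolynomial
  haveI := MvPolynomial.isLocalization (σ := σ) P.primeCompl B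
  have hfrac : ∀ z : MvPolynomial σ B, ∃ (t : O) (_ : t ∉ P) (w : MvPolynomial σ O),
      t • z = MvPolynomial.map (algebraMap O B) w := by
    intro z
    obtain ⟨⟨w, ⟨_, t, ht, rfl⟩⟩, e⟩ := IsLocalization.surj (P.primeCompl.map (MvPolynomial.C : O →+* MvPolynomial σ O)) z
    refine ⟨t, ht, w, ?_⟩
    rw [Algebra.smul_def, mul_comm]
    refine Eq.trans ?_ e
    simp only [MvPolynomial.algebraMap_eq, MvPolynomial.algebraMap_def, map_C]
    rfl
  let ψ : MvPolynomial σ B →ₐ[B] C' := aeval fun i => φ (π (X i))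
  have hψ : ∀ w, ψ (MvPolynomial.map (algebraMap O B) w) = φ (π w) := fun w => by
    rw [aeval_map_algebraMap]
    exact congrArg (fun f : MvPolynomial σ O →ₐ[O] C' => f w)
      (MvPolynomial.algHom_ext (f := aeval fun i => φ (π (X i))) (g := φ.comp π) fun i => by simp)
  have hψs : Function.Surjective ψ := fun y => by
    obtain ⟨⟨c, t⟩, hc⟩ := IsLocalizedModule.surj P.primeCompl φ.toLinearMap y
    obtain ⟨w, rfl⟩ := hπ c
    obtain ⟨b, hb⟩ := (IsLocalization.map_units B t).exists_left_inv
    refine ⟨b • MvPolynomial.map (algebraMap O B) w, ?_⟩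
    rw [map_smul, hψ, show φ (π w) = (t : O) • y from hc.symm, ← algebraMap_smul B (t : O) y, smul_smul, hb,
      one_smul]
  obtain ⟨G, hG⟩ := Algebra.FinitePresentation.ker_fG_of_surjective ψ hψs
  choose tG htG wG hwG using hfrac
  let H : Set (MvPolynomial σ O) := wG '' (G : Set (MvPolynomial σ B))
  have hmap : Function.Injective (MvPolynomial.map (σ := σ) (algebraMap O B)) := MvPolynomial.map_injective _ hB
  have hH : H ⊆ RingHom.ker π := by
    rintro _ ⟨g, hg, rfl⟩
    have hg0 : ψ g = 0 := RingHom.mem_ker.1 (hG.le (Ideal.subset_span hg))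
    have h0 : φ (π (wG g)) = 0 := by
      rw [← hψ, ← hwG, ← algebraMap_smul B (tG g) g, map_smul, hg0, smul_zero]
    obtain ⟨⟨c, hc⟩, e⟩ : ∃ c : P.primeCompl, (c : O) • π (wG g) = 0 := by
      exact (IsLocalizedModule.eq_zero_iff P.primeCompl φ.toLinearMap).1 h0
    exact RingHom.mem_ker.2 (hC c hc _ e)
  have hker : ∀ g ∈ RingHom.ker π, ∃ (t : O) (_ : t ∉ P), MvPolynomial.C t * g ∈ Ideal.span H := by
    intro g hg
    have h1 : MvPolynomial.map (algebraMap O B) g ∈ Ideal.span (G : Set (MvPolynomial σ B)) :=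
      hG.ge (RingHom.mem_ker.2 (show ψ _ = 0 by rw [hψ, show π g = 0 from RingHom.mem_ker.1 hg, map_zero]))
    have h2 : MvPolynomial.map (algebraMap O B) g ∈ (Ideal.span H).map (algebraMap (MvPolynomial σ O) (MvPolynomial σ B)) := by
      refine Ideal.span_le.2 (fun z hz => ?_) h1
      have hu : IsUnit (MvPolynomial.C (σ := σ) (algebraMap O B (tG z))) :=
        (IsLocalization.map_units B (⟨tG z, htG z⟩ : P.primeCompl)).map _
      have := Ideal.mem_map_of_mem (algebraMap (MvPolynomial σ O) (MvPolynomial σ B))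
        (Ideal.subset_span (α := MvPolynomial σ O) (Set.mem_image_of_mem wG hz))
      rw [MvPolynomial.algebraMap_def, ← hwG, Algebra.smul_def] at this
      exact (Ideal.unit_mul_mem_iff_mem _ hu).1 this
    obtain ⟨_, ⟨t, ht, rfl⟩, hm⟩ :=
      (IsLocalization.algebraMap_mem_map_algebraMap_iff (P.primeCompl.map (MvPolynomial.C : O →+* MvPolynomial σ O)) _ _ _).1 h2
    exact ⟨t, ht, hm⟩
  letI : Algebra (O ⧸ P) (C ⧸ P.map (algebraMap O C)) := Ideal.Quotient.algebraQuotientOfLEComap Ideal.le_comap_map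
  haveI : IsScalarTower O (O ⧸ P) (C ⧸ P.map (algebraMap O C)) := IsScalarTower.of_algebraMap_eq fun _ => rfl
  haveI : Algebra.FiniteType (O ⧸ P) (C ⧸ P.map (algebraMap O C)) :=
    Algebra.FiniteType.of_restrictScalars_finiteType O (O ⧸ P) _
  haveI := RzLib.finitePresentation_of_torsionFree (O := O ⧸ P) (S := C ⧸ P.map (algebraMap O C)) fun o' z ho hz => by
    obtain ⟨o, rfl⟩ := Ideal.Quotient.mk_surjective o'
    obtain ⟨z, rfl⟩ := Ideal.Quotient.mk_surjective z
    have hoP : o ∉ P := fun h => ho (Ideal.Quotient.eq_zero_iff_mem.2 h)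
    refine Ideal.Quotient.eq_zero_iff_mem.2 (torsionFree_quotient hdiv hC hoP (Ideal.Quotient.eq_zero_iff_mem.1 ?_))
    rw [← Ideal.Quotient.mkₐ_eq_mk O, map_smul]
    exact (algebraMap_smul (O ⧸ P) o _).symm.trans hz
  let ρ : MvPolynomial σ (O ⧸ P) →ₐ[O ⧸ P] C ⧸ P.map (algebraMap O C) :=
    aeval fun i => Ideal.Quotient.mk _ (π (X i))
  have hρ : ∀ w, ρ (MvPolynomial.map (Ideal.Quotient.mk P) w) = Ideal.Quotient.mk _ (π w) := fun w => by
    refine (aeval_map_algebraMap (O ⧸ P) (fun i => Ideal.Quotient.mk (P.map (algebraMap O C)) (π (X i))) w).trans ?_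
    exact congrArg (fun f : MvPolynomial σ O →ₐ[O] _ => f w)
      (MvPolynomial.algHom_ext (f := aeval fun i => Ideal.Quotient.mk _ (π (X i)))
        (g := (Ideal.Quotient.mkₐ O (P.map (algebraMap O C))).comp π) fun i => by simp)
  have hρs : Function.Surjective ρ := fun y => by
    obtain ⟨c, rfl⟩ := Ideal.Quotient.mk_surjective y
    obtain ⟨w, rfl⟩ := hπ c
    exact ⟨_, hρ w⟩
  obtain ⟨D, hD⟩ := Algebra.FinitePresentation.ker_fG_of_surjective ρ hρs
  have hlift : ∀ z ∈ RingHom.ker ρ, ∃ w ∈ RingHom.ker π, MvPolynomial.map (Ideal.Quotient.mk P) w = z := by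
    intro z hz
    obtain ⟨w, rfl⟩ := MvPolynomial.map_surjective _ Ideal.Quotient.mk_surjective z
    have h1 : π w ∈ ((P.map (algebraMap O (MvPolynomial σ O))).map π.toRingHom) := by
      rw [Ideal.map_map, AlgHom.toRingHom_eq_coe, AlgHom.comp_algebraMap]
      exact Ideal.Quotient.eq_zero_iff_mem.1 ((hρ w).symm.trans hz)
    obtain ⟨w', hw', e⟩ := (Ideal.mem_map_iff_of_surjective π.toRingHom hπ).1 h1
    refine ⟨w - w', RingHom.mem_ker.2 (show π (w - w') = 0 by rw [map_sub, show π w' = π w from e, sub_self]), ?_⟩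
    rw [map_sub, sub_eq_self]
    rw [← RingHom.mem_ker, MvPolynomial.ker_map, Ideal.mk_ker]
    exact hw'
  choose! wD hwD hwD' using hlift
  classical
  refine ⟨(G.image wG ∪ D.image wD : Finset (MvPolynomial σ O)), le_antisymm ?_ ?_⟩
  · rw [Ideal.span_le, Finset.coe_union, Finset.coe_image, Finset.coe_image]
    rintro z (hz | ⟨d, hd, rfl⟩)
    · exact hH hz
    · exact hwD d (hD.le (Ideal.subset_span hd))
  intro g hg
  rw [Finset.coe_union, Finset.coe_image, Finset.coe_image, Ideal.span_union]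
  have h1 : MvPolynomial.map (Ideal.Quotient.mk P) g ∈ (Ideal.span (wD '' (D : Set _))).map
      (MvPolynomial.map (Ideal.Quotient.mk P)) := by
    have hgD : MvPolynomial.map (Ideal.Quotient.mk P) g ∈ Ideal.span (D : Set (MvPolynomial σ (O ⧸ P))) :=
      hD.ge (RingHom.mem_ker.2 (show ρ _ = 0 by rw [hρ, show π g = 0 from RingHom.mem_ker.1 hg, map_zero]))
    refine Ideal.span_le.2 (fun d hd => ?_) hgD
    rw [← hwD' d (hD.le (Ideal.subset_span hd))]
    exact Ideal.mem_map_of_mem _ (Ideal.subset_span (Set.mem_image_of_mem _ hd))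
  obtain ⟨g', hg', e⟩ :=
    (Ideal.mem_map_iff_of_surjective _ (MvPolynomial.map_surjective _ Ideal.Quotient.mk_surjective)).1 h1
  rw [← sub_add_cancel g g']
  refine add_mem (Ideal.mem_sup_left ?_) (Ideal.mem_sup_right hg')
  set w := g - g' with hw
  have hw0 : π w = 0 := by
    have : Ideal.span (wD '' (D : Set _)) ≤ RingHom.ker π := by
      rw [Ideal.span_le]; rintro _ ⟨d, hd, rfl⟩; exact hwD d (hD.le (Ideal.subset_span hd))
    rw [hw, map_sub, show π g = 0 from RingHom.mem_ker.1 hg, show π g' = 0 from RingHom.mem_ker.1 (this hg'),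
      sub_zero]
  have hwP : ∀ α, w.coeff α ∈ P := fun α => by
    rw [← Ideal.Quotient.eq_zero_iff_mem, ← MvPolynomial.coeff_map, hw, map_sub, e, sub_self, coeff_zero]
  have hsum : ∑ α : w.support, w.coeff α.1 • π (monomial α.1 1) = 0 := by
    rw [← hw0]
    conv_rhs => rw [w.as_sum, map_sum, ← Finset.sum_coe_sort]
    exact Finset.sum_congr rfl fun α _ => by rw [← map_smul, smul_monomial, smul_eq_mul, mul_one]
  obtain ⟨k, a, y, hy, ha⟩ := Module.Flat.isTrivialRelation_of_sum_smul_eq_zero (R := O) (M := C)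
    (f := fun α : w.support => w.coeff α.1) (x := fun α : w.support => π (monomial α.1 1)) hsum
  choose E hE using fun m => hπ (y m)
  have hwa : w = ∑ α : w.support, MvPolynomial.C (w.coeff α.1) * (monomial α.1 1 - ∑ m, a α m • E m) := by
    simp only [mul_sub, Finset.sum_sub_distrib, Finset.mul_sum]
    conv_rhs => arg 2; rw [Finset.sum_comm]
    simp only [← smul_eq_C_mul, smul_smul, ← Finset.sum_smul, ha, zero_smul, Finset.sum_const_zero, sub_zero]
    conv_lhs => rw [w.as_sum, ← Finset.sum_coe_sort]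
    exact Finset.sum_congr rfl fun α _ => by rw [smul_monomial, smul_eq_mul, mul_one]
  rw [hwa]
  refine sum_mem fun α _ => ?_
  obtain ⟨t, ht, hm⟩ := hker (monomial α.1 1 - ∑ m, a α m • E m)
    (RingHom.mem_ker.2 (by simp only [map_sub, map_sum, map_smul, hE]; exact sub_eq_zero.2 (hy α)))
  obtain ⟨p', -, hp⟩ := hdiv t ht _ (hwP α.1)
  rw [hp, map_mul, mul_comm (MvPolynomial.C t), mul_assoc]
  exact Ideal.mul_mem_left _ _ hm

include hdiv in
/-- The two halves, for an injective map to the fibre at the prime. -/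
theorem flat_and_finitePresentation_of_injective (hB : Function.Injective (algebraMap O B)) (φ : C →ₐ[O] C')
    (hinj : Function.Injective φ) (hsurj : ∀ y : C', ∃ (t : O) (_ : t ∉ P) (c : C), algebraMap O C' t * y = φ c)
    [Algebra.FiniteType O C] [Module.Flat B C'] [Algebra.FinitePresentation B C'] :
    Module.Flat O C ∧ Algebra.FinitePresentation O C := by
  have hunit : ∀ t : P.primeCompl, IsUnit (algebraMap O C' t) := fun t => by
    rw [IsScalarTower.algebraMap_apply O B]
    exact (IsLocalization.map_units B t).map _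
  haveI : IsLocalizedModule P.primeCompl φ.toLinearMap := by
    refine ⟨fun t => ?_, fun y => ?_, fun {x₁ x₂} hx => ⟨1, ?_⟩⟩
    · rw [Module.End.isUnit_iff]
      obtain ⟨v, hv⟩ := hunit t
      refine Function.bijective_iff_has_inverse.mpr ⟨fun y => (↑v⁻¹ : _) * y, fun y => ?_, fun y => ?_⟩
      · show ↑v⁻¹ * ((t : O) • y) = y
        rw [Algebra.smul_def, ← hv, ← mul_assoc, Units.inv_mul, one_mul]
      · show (t : O) • (↑v⁻¹ * y) = y
        rw [Algebra.smul_def, ← hv, ← mul_assoc, Units.mul_inv, one_mul]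
    · obtain ⟨t, ht, c, hc⟩ := hsurj y
      exact ⟨(c, ⟨t, ht⟩), (Algebra.smul_def t y).trans hc⟩
    · rw [one_smul, one_smul]
      exact hinj hx
  have hC : ∀ t ∉ P, ∀ c : C, t • c = 0 → c = 0 := fun t ht c hc => hinj <| by
    have h := congrArg φ hc
    rw [map_smul, map_zero, Algebra.smul_def] at h
    rw [map_zero]
    exact (hunit ⟨t, ht⟩).mul_right_eq_zero.1 h
  haveI : Module.Flat O C := flat_of_semival (B := B) hdiv hB hC φ
  exact ⟨inferInstance, finitePresentation_of_semival (B := B) hdiv hB hC φ⟩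

end RGFlatLib
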