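import Mathlib
import Groth.Agent.RGFlatLib.Semival

/-!
# The semivaluation ring of a valuation and an element it does not kill
-/

set_option autoImplicit false

noncomputable section

universe u

namespace RGFlatLib

variable {A : Type u} [CommRing A] {V : Type u} [CommRing V] [IsDomain V] [ValuationRing V]
variable (φ : A →+* V) (f : A)

/-- The elements smaller than all powers of `f`. -/
def lowPrime : Ideal A where
  carrier := {x | ∀ n : ℕ, ¬ φ x ∣ φ f ^ n ∨ φ f = 0}
  zero_mem' := fun n => by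
    rw [map_zero, zero_dvd_iff]
    rcases eq_or_ne (φ f) 0 with h | h
    · exact Or.inr h
    · exact Or.inl (pow_ne_zero n h)
  add_mem' := fun {a b} ha hb n => by
    rcases ValuationRing.dvd_total (φ a) (φ b) with h | h
    · exact (ha n).imp (fun h' hd => h' ((dvd_add (dvd_refl _) h).trans (by rwa [← map_add]))) id
    · exact (hb n).imp (fun h' hd => h' ((dvd_add h (dvd_refl _)).trans (by rwa [← map_add]))) id
  smul_mem' := fun c a ha n => (ha n).imp
    (fun h' hd => h' ((dvd_mul_left (φ a) (φ c)).trans (by rwa [← map_mul]))) id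

variable {φ f}

theorem notMem_lowPrime_iff (hf : φ f ≠ 0) {x : A} : x ∉ lowPrime φ f ↔ ∃ n : ℕ, φ x ∣ φ f ^ n := by
  show ¬ (∀ n : ℕ, _ ∨ _) ↔ _
  simp [hf]

theorem isPrime_lowPrime (hf : φ f ≠ 0) : (lowPrime φ f).IsPrime := by
  refine ⟨fun h => ?_, fun {x y} hxy => ?_⟩
  · exact absurd (h ▸ Submodule.mem_top : (1 : A) ∈ lowPrime φ f)
      ((notMem_lowPrime_iff hf).2 ⟨0, by rw [map_one, pow_zero]⟩)
  · by_contra h
    simp only [not_or] at h
    obtain ⟨n, hn⟩ := (notMem_lowPrime_iff hf).1 h.1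
    obtain ⟨k, hk⟩ := (notMem_lowPrime_iff hf).1 h.2
    exact absurd hxy ((notMem_lowPrime_iff hf).2 ⟨n + k, by rw [map_mul, pow_add]; exact mul_dvd_mul hn hk⟩)

theorem self_notMem_lowPrime (hf : φ f ≠ 0) : f ∉ lowPrime φ f :=
  (notMem_lowPrime_iff hf).2 ⟨1, by rw [pow_one]⟩

theorem dvd_of_mem_lowPrime (hf : φ f ≠ 0) {a b : A} (ha : a ∈ lowPrime φ f) (hb : b ∉ lowPrime φ f) :
    φ b ∣ φ a := by
  rcases ValuationRing.dvd_total (φ b) (φ a) with h | h
  · exact h
  · obtain ⟨n, hn⟩ := (notMem_lowPrime_iff hf).1 hb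
    exact absurd ha ((notMem_lowPrime_iff hf).2 ⟨n, h.trans hn⟩)

variable {L : Type u} [CommRing L] [Algebra A L]

variable (φ f L) in
/-- The semivaluation ring in the localisation at the prime. -/
def semiRing (hf : φ f ≠ 0) : Subalgebra A L where
  carrier := {z | ∃ a b : A, b ∉ lowPrime φ f ∧ φ b ∣ φ a ∧ z * algebraMap A L b = algebraMap A L a}
  algebraMap_mem' := fun r =>
    ⟨r, 1, (notMem_lowPrime_iff hf).2 ⟨0, by rw [map_one, pow_zero]⟩, by rw [map_one φ]; exact one_dvd _,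
      by rw [map_one, mul_one]⟩
  mul_mem' := by
    rintro z w ⟨a, b, hb, hba, hz⟩ ⟨c, d, hd, hdc, hw⟩
    refine ⟨a * c, b * d, fun h => ((isPrime_lowPrime hf).mem_or_mem h).elim hb hd, ?_, ?_⟩
    · rw [map_mul, map_mul]; exact mul_dvd_mul hba hdc
    · rw [map_mul, map_mul, ← hz, ← hw]; ring
  add_mem' := by
    rintro z w ⟨a, b, hb, hba, hz⟩ ⟨c, d, hd, hdc, hw⟩
    refine ⟨a * d + c * b, b * d, fun h => ((isPrime_lowPrime hf).mem_or_mem h).elim hb hd, ?_, ?_⟩
    · rw [map_add, map_mul, map_mul, map_mul]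
      exact dvd_add (mul_dvd_mul hba (dvd_refl _)) (by rw [mul_comm (φ b)]; exact mul_dvd_mul hdc (dvd_refl _))
    · rw [map_add, map_mul, map_mul, map_mul, ← hz, ← hw]; ring

variable {hf : φ f ≠ 0}

theorem mem_semiRing {z : L} : z ∈ semiRing φ f L hf ↔
    ∃ a b : A, b ∉ lowPrime φ f ∧ φ b ∣ φ a ∧ z * algebraMap A L b = algebraMap A L a := Iff.rfl

variable [(lowPrime φ f).IsPrime] [IsLocalization (lowPrime φ f).primeCompl L]

variable (hf) (L) in
/-- The prime of the semivaluation ring. -/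
def semiPrime : Ideal (semiRing φ f L hf) :=
  ((lowPrime φ f).map (algebraMap A L)).comap (semiRing φ f L hf).val.toRingHom

theorem mem_semiPrime {z : semiRing φ f L hf} {a b : A} (hb : b ∉ lowPrime φ f)
    (h : (z : L) * algebraMap A L b = algebraMap A L a) : z ∈ semiPrime L hf ↔ a ∈ lowPrime φ f := by
  have hu := IsLocalization.map_units L (⟨b, hb⟩ : (lowPrime φ f).primeCompl)
  show (z : L) ∈ (lowPrime φ f).map (algebraMap A L) ↔ _
  constructor
  · intro hz
    have : algebraMap A L a ∈ (lowPrime φ f).map (algebraMap A L) := h ▸ Ideal.mul_mem_right _ _ hz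
    obtain ⟨s, hs, hsa⟩ :=
      (IsLocalization.algebraMap_mem_map_algebraMap_iff (lowPrime φ f).primeCompl L _ _).1 this
    exact ((isPrime_lowPrime hf).mem_or_mem hsa).resolve_left hs
  · intro ha
    refine (Ideal.mul_unit_mem_iff_mem _ hu).1 ?_
    rw [h]
    exact Ideal.mem_map_of_mem _ ha

theorem mem_semiRing_of_mem_prime {z : L} {a b : A} (hb : b ∉ lowPrime φ f) (ha : a ∈ lowPrime φ f)
    (h : z * algebraMap A L b = algebraMap A L a) : z ∈ semiRing φ f L hf :=
  ⟨a, b, hb, dvd_of_mem_lowPrime hf ha hb, h⟩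

instance isPrime_semiPrime : (semiPrime L hf).IsPrime := by
  refine ⟨fun h => ?_, fun {z w} hzw => ?_⟩
  · have h1 : (1 : semiRing φ f L hf) ∈ semiPrime L hf := h ▸ Submodule.mem_top
    have hone : (1 : A) ∉ lowPrime φ f := (isPrime_lowPrime hf).ne_top ∘ (Ideal.eq_top_iff_one _).2
    exact hone ((mem_semiPrime hone (by rw [OneMemClass.coe_one, one_mul])).1 h1)
  · obtain ⟨a, b, hb, -, hz⟩ := z.2
    obtain ⟨c, d, hd, -, hw⟩ := w.2
    have hbd : b * d ∉ lowPrime φ f := fun h => ((isPrime_lowPrime hf).mem_or_mem h).elim hb hd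
    have := (mem_semiPrime (z := z * w) (a := a * c) hbd
      (by rw [map_mul, map_mul, ← hz, ← hw, MulMemClass.coe_mul]; ring)).1 hzw
    exact ((isPrime_lowPrime hf).mem_or_mem this).imp (fun h => (mem_semiPrime hb hz).2 h)
      fun h => (mem_semiPrime hd hw).2 h

/-- An element off the prime has numerator off the prime. -/
theorem exists_frac {z : semiRing φ f L hf} (hz : z ∉ semiPrime L hf) :
    ∃ a b : A, a ∉ lowPrime φ f ∧ b ∉ lowPrime φ f ∧ φ b ∣ φ a ∧ (z : L) * algebraMap A L b = algebraMap A L a := by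
  obtain ⟨a, b, hb, hba, h⟩ := z.2
  exact ⟨a, b, fun ha => hz ((mem_semiPrime hb h).2 ha), hb, hba, h⟩

theorem div_semiPrime : ∀ t ∉ semiPrime L hf, ∀ p ∈ semiPrime L hf, ∃ p' ∈ semiPrime L hf, p = t * p' := by
  intro t ht p hp
  obtain ⟨a, b, ha, hb, -, h⟩ := exists_frac ht
  obtain ⟨c, d, hd, -, h'⟩ := p.2
  have hc := (mem_semiPrime hd h').1 hp
  have hda : d * a ∉ lowPrime φ f := fun h => ((isPrime_lowPrime hf).mem_or_mem h).elim hd ha
  obtain ⟨u, hu⟩ := IsLocalization.map_units L (⟨_, hda⟩ : (lowPrime φ f).primeCompl)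
  have hq : (algebraMap A L (c * b) * ↑u⁻¹) * algebraMap A L (d * a) = algebraMap A L (c * b) := by
    rw [mul_assoc, show algebraMap A L (d * a) = (u : L) from hu.symm, Units.inv_mul, mul_one]
  let p' : semiRing φ f L hf := ⟨_, mem_semiRing_of_mem_prime hda (Ideal.mul_mem_right b _ hc) hq⟩
  refine ⟨p', (mem_semiPrime hda hq).2 (Ideal.mul_mem_right b _ hc), Subtype.ext ?_⟩
  refine (IsLocalization.map_units L (⟨_, hda⟩ : (lowPrime φ f).primeCompl)).mul_left_injective ?_
  show (p : L) * algebraMap A L (d * a) = (t : L) * (algebraMap A L (c * b) * ↑u⁻¹) * algebraMap A L (d * a)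
  rw [mul_assoc (t : L), hq, map_mul, map_mul, ← h', ← h]
  ring

instance isLocalization_semiPrime : IsLocalization (semiPrime L hf).primeCompl L := by
  refine (isLocalization_iff _ L).2 ⟨fun t => ?_, fun z => ?_, fun {x y} e => ⟨1, by rw [Subtype.ext e]⟩⟩
  · obtain ⟨a, b, ha, hb, -, h⟩ := exists_frac t.2
    refine isUnit_of_mul_isUnit_left (y := algebraMap A L b) ?_
    show IsUnit ((t.1 : L) * algebraMap A L b)
    rw [h]
    exact IsLocalization.map_units L (⟨a, ha⟩ : (lowPrime φ f).primeCompl)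
  · obtain ⟨⟨a, b, hb⟩, h⟩ := IsLocalization.surj (lowPrime φ f).primeCompl z
    have hone : (1 : A) ∉ lowPrime φ f := (isPrime_lowPrime hf).ne_top ∘ (Ideal.eq_top_iff_one _).2
    exact ⟨(algebraMap A _ a, ⟨algebraMap A _ b, fun hm => hb
      ((mem_semiPrime (z := algebraMap A (semiRing φ f L hf) b) hone
        (by rw [map_one, mul_one]; rfl)).1 hm)⟩), h⟩

theorem valuationRing_semiPrime : ValuationRing (semiRing φ f L hf ⧸ semiPrime L hf) := by
  haveI : IsDomain (semiRing φ f L hf ⧸ semiPrime L hf) := Ideal.Quotient.isDomain _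
  refine ValuationRing.iff_dvd_total.2 ⟨fun x y => ?_⟩
  obtain ⟨z, rfl⟩ := Ideal.Quotient.mk_surjective x
  obtain ⟨w, rfl⟩ := Ideal.Quotient.mk_surjective y
  by_cases hz : z ∈ semiPrime L hf
  · exact Or.inr ((Ideal.Quotient.eq_zero_iff_mem.2 hz).symm ▸ dvd_zero _)
  by_cases hw : w ∈ semiPrime L hf
  · exact Or.inl ((Ideal.Quotient.eq_zero_iff_mem.2 hw).symm ▸ dvd_zero _)
  obtain ⟨a, b, ha, hb, -, h⟩ := exists_frac hz
  obtain ⟨c, d, hc, hd, -, h'⟩ := exists_frac hw
  have key : ∀ {z w : semiRing φ f L hf} {a b c d : A}, a ∉ lowPrime φ f → d ∉ lowPrime φ f →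
      (z : L) * algebraMap A L b = algebraMap A L a → (w : L) * algebraMap A L d = algebraMap A L c →
      φ (d * a) ∣ φ (c * b) → z ∣ w := by
    intro z w a b c d ha hd h h' hdvd
    have hda : d * a ∉ lowPrime φ f := fun h => ((isPrime_lowPrime hf).mem_or_mem h).elim hd ha
    obtain ⟨u, hu⟩ := IsLocalization.map_units L (⟨_, hda⟩ : (lowPrime φ f).primeCompl)
    have hq : (algebraMap A L (c * b) * ↑u⁻¹) * algebraMap A L (d * a) = algebraMap A L (c * b) := by
      rw [mul_assoc, show algebraMap A L (d * a) = (u : L) from hu.symm, Units.inv_mul, mul_one]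
    refine ⟨⟨_, _, _, hda, hdvd, hq⟩, Subtype.ext ?_⟩
    refine (IsLocalization.map_units L (⟨_, hda⟩ : (lowPrime φ f).primeCompl)).mul_left_injective ?_
    show (w : L) * algebraMap A L (d * a) = (z : L) * (algebraMap A L (c * b) * ↑u⁻¹) * algebraMap A L (d * a)
    rw [mul_assoc (z : L), hq, map_mul, map_mul, ← h', ← h]
    ring
  rcases ValuationRing.dvd_total (φ (d * a)) (φ (c * b)) with hdvd | hdvd
  · exact Or.inl (map_dvd _ (key ha hd h h' hdvd))
  · exact Or.inr (map_dvd _ (key hc hb h' h (by rw [mul_comm b c, mul_comm a d]; exact hdvd)))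

end RGFlatLib
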