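import Mathlib
import Groth.Prelude.Def_FlatCA
import Groth.Prelude.Def_BlowUp2
import Groth.Agent.RGFlatLib.Semipoint

/-!
# A semivaluation ring as the colimit of admissible affine blow-up algebras
-/

set_option autoImplicit false

noncomputable section

universe u

namespace RGFlatLib

variable {A : Type u} [CommRing A] {V : Type u} [CommRing V] [IsDomain V] [ValuationRing V]
variable {φ : A →+* V} {f : A} {s : Finset A}
variable {L : Type u} [CommRing L] [Algebra A L] [(lowPrime φ f).IsPrime] [IsLocalization (lowPrime φ f).primeCompl L]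

variable (φ f s) in
/-- An admissible chart through the valuation. -/
structure Dat where
  /-- denominator -/
  b : A
  /-- cofactor of `f` -/
  c : A
  hb : b = c * f
  hbP : b ∉ lowPrime φ f
  /-- centre -/
  I : Ideal A
  fg : I.FG
  mem : b ∈ I
  dvd : ∀ x ∈ I, φ b ∣ φ x
  cmem : ∀ j ∈ s, c * j ∈ I
  rad : ∀ j ∈ s, j ∈ I.radical

namespace Dat

variable (d d' : Dat φ f s)

instance : Preorder (Dat φ f s) where
  le d d' := ∃ e : A, d'.b = d.b * e ∧ ∀ x ∈ d.I, x * e ∈ d'.I
  le_refl d := ⟨1, (mul_one _).symm, fun x hx => by rwa [mul_one]⟩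
  le_trans d₁ d₂ d₃ := by
    rintro ⟨e, he, he'⟩ ⟨e₂, he₂, he₂'⟩
    exact ⟨e * e₂, by rw [he₂, he, mul_assoc], fun x hx => by rw [← mul_assoc]; exact he₂' _ (he' x hx)⟩

/-- The chart algebra. -/
abbrev stage : Subalgebra A (Localization.Away d.b) := BlowUp.affineAlgebra A d.I d.b

variable (L) in
/-- The chart algebra maps to the local ring at the prime. -/
def toL : Localization.Away d.b →ₐ[A] L :=
  IsLocalization.liftAlgHom (M := Submonoid.powers d.b) (f := Algebra.ofId A L) (fun y => by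
    obtain ⟨n, hn⟩ := y.2
    rw [← hn]
    exact (map_pow (algebraMap A L) d.b n).symm ▸
      (IsLocalization.map_units L (⟨d.b, d.hbP⟩ : (lowPrime φ f).primeCompl)).pow n)

theorem stage_le (hf : φ f ≠ 0) : d.stage ≤ (semiRing φ f L hf).comap (d.toL L) := by
  refine Algebra.adjoin_le ?_
  rintro _ ⟨x, hx, rfl⟩
  refine ⟨x, d.b, d.hbP, d.dvd x hx, ?_⟩
  show d.toL L _ * algebraMap A L d.b = _
  rw [← (d.toL L).commutes d.b, ← map_mul, IsLocalization.mk'_spec (Localization.Away d.b) x
    ⟨d.b, Submonoid.mem_powers d.b⟩, AlgHom.commutes]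

variable (L) in
/-- The chart algebra maps to the semivaluation ring. -/
def toSemi (hf : φ f ≠ 0) : d.stage →ₐ[A] semiRing φ f L hf :=
  ((d.toL L).comp d.stage.val).codRestrict (semiRing φ f L hf) fun x => d.stage_le hf x.2

variable {d d'}

theorem isUnit_b (h : d ≤ d') : IsUnit (algebraMap A (Localization.Away d'.b) d.b) := by
  obtain ⟨e, he, -⟩ := h
  have h1 : IsUnit (algebraMap A (Localization.Away d'.b) d'.b) :=
    IsLocalization.map_units (Localization.Away d'.b) (⟨d'.b, Submonoid.mem_powers _⟩ : Submonoid.powers d'.b)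
  have h2 := congrArg (algebraMap A (Localization.Away d'.b)) he
  rw [map_mul] at h2
  rw [h2] at h1
  exact isUnit_of_mul_isUnit_left h1

/-- Transition between localisations. -/
def tr (h : d ≤ d') : Localization.Away d.b →ₐ[A] Localization.Away d'.b :=
  IsLocalization.liftAlgHom (M := Submonoid.powers d.b) (f := Algebra.ofId A _) (fun y => by
    obtain ⟨n, hn⟩ := y.2
    rw [← hn]
    exact (map_pow (algebraMap A (Localization.Away d'.b)) d.b n).symm ▸ (isUnit_b h).pow n)

theorem stage_le_tr (h : d ≤ d') : d.stage ≤ d'.stage.comap (tr h) := by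
  refine Algebra.adjoin_le ?_
  rintro _ ⟨x, hx, rfl⟩
  have hh := h
  obtain ⟨e, he, he'⟩ := hh
  refine Algebra.subset_adjoin ⟨x * e, he' x hx, ?_⟩
  rw [IsLocalization.eq_mk'_iff_mul_eq]
  show tr h _ * algebraMap A _ d'.b = _
  calc tr h (IsLocalization.mk' (Localization.Away d.b) x ⟨d.b, Submonoid.mem_powers d.b⟩) * algebraMap A _ d'.b
      = tr h (IsLocalization.mk' (Localization.Away d.b) x ⟨d.b, Submonoid.mem_powers d.b⟩) *
          (algebraMap A _ d.b * algebraMap A _ e) := by rw [← map_mul]; exact congrArg (fun z => _ * algebraMap A _ z) he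
    _ = algebraMap A _ (x * e) := by
        rw [← mul_assoc, ← (tr h).commutes d.b, ← map_mul, IsLocalization.mk'_spec, AlgHom.commutes, map_mul]

/-- Transition between chart algebras. -/
def stageMap (h : d ≤ d') : d.stage →ₐ[A] d'.stage :=
  ((tr h).comp d.stage.val).codRestrict d'.stage fun x => stage_le_tr h x.2

variable (d d') in
/-- The product chart. -/
def mul (hf : φ f ≠ 0) : Dat φ f s where
  b := d.b * d'.b
  c := d.c * d'.b
  hb := by rw [d.hb]; ring
  hbP := fun h => ((isPrime_lowPrime hf).mem_or_mem h).elim d.hbP d'.hbP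
  I := d.I * d'.I
  fg := d.fg.mul d'.fg
  mem := Ideal.mul_mem_mul d.mem d'.mem
  dvd := fun x hx => by
    induction hx using Submodule.mul_induction_on' with
    | mem_mul_mem y hy z hz =>
      rw [map_mul, map_mul]
      exact mul_dvd_mul (d.dvd y hy) (d'.dvd z hz)
    | add y _ z _ hy hz => rw [map_add]; exact dvd_add hy hz
  cmem := fun j hj => by rw [mul_right_comm]; exact Ideal.mul_mem_mul (d.cmem j hj) d'.mem
  rad := fun j hj => by rw [Ideal.radical_mul]; exact ⟨d.rad j hj, d'.rad j hj⟩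

theorem le_mul_left (hf : φ f ≠ 0) : d ≤ d.mul d' hf :=
  ⟨d'.b, rfl, fun _ hx => Ideal.mul_mem_mul hx d'.mem⟩

theorem le_mul_right (hf : φ f ≠ 0) : d' ≤ d.mul d' hf :=
  ⟨d.b, mul_comm _ _, fun x hx => by rw [mul_comm x]; exact Ideal.mul_mem_mul d.mem hx⟩

theorem exists_pow_dvd (hf : φ f ≠ 0) (hfs : ∀ j ∈ s, φ f ∣ φ j) {b : A} (hb : b ∉ lowPrime φ f) :
    ∃ N : ℕ, ∀ j ∈ s, φ (b * f) ∣ φ (j ^ N) := by
  obtain ⟨n, hn⟩ := (notMem_lowPrime_iff hf).1 hb
  refine ⟨n + 1, fun j hj => ?_⟩
  rw [map_mul, map_pow, pow_succ]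
  exact mul_dvd_mul (hn.trans (pow_dvd_pow_of_dvd (hfs j hj) n)) (hfs j hj)

open Classical in
/-- The chart of a fraction `a / b`. -/
theorem exists_chart (hf : φ f ≠ 0) (hfs : ∀ j ∈ s, φ f ∣ φ j) {a b : A} (hb : b ∉ lowPrime φ f)
    (hba : φ b ∣ φ a) : ∃ d : Dat φ f s, d.b = b * f ∧ a * f ∈ d.I := by
  obtain ⟨N, hN⟩ := exists_pow_dvd hf hfs hb
  let S : Finset A := {b * f, a * f} ∪ (s.image (b * ·) ∪ s.image (· ^ N))
  refine ⟨{ b := b * f, c := b, hb := rfl, hbP := fun h => ((isPrime_lowPrime hf).mem_or_mem h).elim hb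
              (self_notMem_lowPrime hf),
            I := Ideal.span S, fg := ⟨S, rfl⟩, mem := Ideal.subset_span (by simp [S]), dvd := fun x hx => ?_,
            cmem := fun j hj => Ideal.subset_span (by simp only [S, Finset.coe_union, Finset.coe_image]; exact Or.inr (Or.inl ⟨j, hj, rfl⟩)),
            rad := fun j hj => ⟨N, Ideal.subset_span (by simp only [S, Finset.coe_union, Finset.coe_image]; exact Or.inr (Or.inr ⟨j, hj, rfl⟩))⟩ }, rfl,
          Ideal.subset_span (by simp [S])⟩
  induction hx using Submodule.span_induction with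
  | mem x hx =>
    simp only [S, Finset.coe_union, Finset.coe_insert, Finset.coe_singleton, Finset.coe_image] at hx
    rcases hx with (rfl | rfl) | ⟨j, hj, rfl⟩ | ⟨j, hj, rfl⟩
    · exact dvd_rfl
    · rw [map_mul, map_mul]; exact mul_dvd_mul hba dvd_rfl
    · rw [map_mul, map_mul]; exact mul_dvd_mul dvd_rfl (hfs j hj)
    · exact hN j hj
  | zero => rw [map_zero]; exact dvd_zero _
  | add x y _ _ hx hy => rw [map_add]; exact dvd_add hx hy
  | smul r x _ hx => rw [smul_eq_mul, map_mul φ r x]; exact hx.mul_left _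

/-- Scaling a chart by an element off the prime. -/
theorem exists_scale (hf : φ f ≠ 0) (hfs : ∀ j ∈ s, φ f ∣ φ j) (d : Dat φ f s) {t : A}
    (ht : t ∉ lowPrime φ f) : ∃ d' : Dat φ f s, d ≤ d' ∧ t ∣ d'.b := by
  obtain ⟨d₁, hb₁, -⟩ := exists_chart hf hfs ht (dvd_refl (φ t))
  exact ⟨d.mul d₁ hf, le_mul_left hf, ⟨d.b * f, by show d.b * d₁.b = _; rw [hb₁]; ring⟩⟩

theorem isDirectedColimitRing (hf : φ f ≠ 0) (hfs : ∀ j ∈ s, φ f ∣ φ j) :
    letI : ∀ d : Dat φ f s, Algebra d.stage (semiRing φ f L hf) := fun d => (d.toSemi L hf).toRingHom.toAlgebra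
    FlatCA.IsDirectedColimitRing (fun d : Dat φ f s => d.stage)
      (fun _ _ h => (stageMap h).toRingHom) (semiRing φ f L hf) := by
  letI : ∀ d : Dat φ f s, Algebra d.stage (semiRing φ f L hf) := fun d => (d.toSemi L hf).toRingHom.toAlgebra
  refine ⟨⟨fun d d' => ⟨d.mul d' hf, le_mul_left hf, le_mul_right hf⟩⟩, ?_, fun d => ?_, fun d d' d'' h h' => ?_,
    fun d d' h => ?_, fun z => ?_, fun d x hx => ?_⟩
  · obtain ⟨d, -, -⟩ := exists_chart hf hfs (s := s) (a := f) (b := 1)
      ((notMem_lowPrime_iff hf).2 ⟨0, by rw [map_one, pow_zero]⟩) (by rw [map_one]; exact one_dvd _)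
    exact ⟨d⟩
  · refine RingHom.ext fun x => Subtype.ext ?_
    exact AlgHom.congr_fun (IsLocalization.algHom_ext (Submonoid.powers d.b) (Algebra.ext_id _ _ _) :
      tr (le_refl d) = AlgHom.id A _) x.1
  · refine RingHom.ext fun x => Subtype.ext ?_
    exact AlgHom.congr_fun (IsLocalization.algHom_ext (Submonoid.powers d.b) (Algebra.ext_id _ _ _) :
      (tr h').comp (tr h) = tr (h.trans h')) x.1
  · refine RingHom.ext fun x => Subtype.ext ?_
    exact AlgHom.congr_fun (IsLocalization.algHom_ext (Submonoid.powers d.b) (Algebra.ext_id _ _ _) :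
      (d'.toL L).comp (tr h) = d.toL L) x.1
  · obtain ⟨a, b, hb, hba, hz⟩ := z.2
    obtain ⟨d, hdb, hda⟩ := exists_chart hf hfs hb hba
    refine ⟨d, ⟨_, Algebra.subset_adjoin ⟨a * f, hda, rfl⟩⟩, Subtype.ext ?_⟩
    refine (IsLocalization.map_units L (⟨d.b, d.hbP⟩ : (lowPrime φ f).primeCompl)).mul_left_injective ?_
    show d.toL L _ * algebraMap A L d.b = (z : L) * algebraMap A L d.b
    rw [← (d.toL L).commutes d.b, ← map_mul]
    erw [IsLocalization.mk'_spec (Localization.Away d.b) (a * f) ⟨d.b, Submonoid.mem_powers d.b⟩]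
    rw [AlgHom.commutes,
      AlgHom.commutes, hdb, map_mul, map_mul, ← hz, mul_assoc]
  · have h0 : d.toL L x.1 = 0 := congrArg Subtype.val hx
    obtain ⟨⟨y, _, n, rfl⟩, hy⟩ := IsLocalization.surj (Submonoid.powers d.b) x.1
    have hy0 : algebraMap A L y = 0 := by
      rw [← (d.toL L).commutes y, ← hy, map_mul, h0, zero_mul]
    obtain ⟨⟨t, ht⟩, hty⟩ := (IsLocalization.map_eq_zero_iff (lowPrime φ f).primeCompl L y).1 hy0
    obtain ⟨d', hd, k, hk⟩ := exists_scale hf hfs d ht
    refine ⟨d', hd, Subtype.ext ?_⟩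
    show tr hd x.1 = 0
    have hu1 := (isUnit_b hd).pow n
    have hu2 : IsUnit (algebraMap A (Localization.Away d'.b) t) := by
      have h1 : IsUnit (algebraMap A (Localization.Away d'.b) d'.b) :=
        IsLocalization.map_units (Localization.Away d'.b) (⟨d'.b, Submonoid.mem_powers _⟩ : Submonoid.powers d'.b)
      have h2 := congrArg (algebraMap A (Localization.Away d'.b)) hk
      rw [map_mul] at h2
      rw [h2] at h1
      exact isUnit_of_mul_isUnit_left h1
    refine hu1.mul_left_injective (hu2.mul_left_injective ?_)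
    show tr hd x.1 * _ * _ = 0 * _ * _
    rw [zero_mul, zero_mul, ← map_pow, ← (tr hd).commutes (d.b ^ n), ← map_mul, hy, AlgHom.commutes, ← map_mul,
      mul_comm, show t * y = 0 from hty, map_zero]

end Dat

end RGFlatLib
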