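import Mathlib
import Groth.Agent.RzLib.UnivOpenRing

/-!
# Quotients of polynomial rings under base change, and ideals saturated at an element
-/

set_option autoImplicit false

noncomputable section

universe u

open MvPolynomial TensorProduct

namespace RGFlatLib

variable {σ : Type u}

/-- A quotient of a polynomial ring under base change. -/
theorem exists_quot_equiv {B₀ B : Type u} [CommRing B₀] [CommRing B] [Algebra B₀ B]
    (K : Ideal (MvPolynomial σ B₀)) :
    Nonempty ((MvPolynomial σ B ⧸ K.map (MvPolynomial.map (algebraMap B₀ B))) ≃ₐ[B]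
      B ⊗[B₀] (MvPolynomial σ B₀ ⧸ K)) := by
  obtain ⟨θ, hθ, hk⟩ := RzLib.UnivOpen.quot_bc (Ideal.Quotient.mkₐ B₀ K) Ideal.Quotient.mk_surjective
    (MvPolynomial.algebraTensorAlgEquiv (σ := σ) B₀ B) (MvPolynomial.map (algebraMap B₀ B))
    fun x => by rw [algebraTensorAlgEquiv_tmul, one_smul]
  rw [show RingHom.ker (Ideal.Quotient.mkₐ B₀ K) = K from Ideal.Quotient.mkₐ_ker B₀ K] at hk
  exact ⟨(Ideal.quotientEquivAlgOfEq B hk.symm).trans (Ideal.quotientKerAlgEquivOfSurjective hθ)⟩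

theorem flat_map {B₀ B : Type u} [CommRing B₀] [CommRing B] (φ : B₀ →+* B)
    (K : Ideal (MvPolynomial σ B₀)) [Module.Flat B₀ (MvPolynomial σ B₀ ⧸ K)] :
    Module.Flat B (MvPolynomial σ B ⧸ K.map (MvPolynomial.map φ)) := by
  letI := φ.toAlgebra
  obtain ⟨e⟩ := exists_quot_equiv (B := B) K
  exact Module.Flat.of_linearEquiv e.toLinearEquiv

/-- The elements moved into an ideal by a power of `g`. -/
def saturation {S : Type u} [CommRing S] (I : Ideal S) (g : S) : Ideal S where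
  carrier := {w | ∃ n : ℕ, g ^ n * w ∈ I}
  zero_mem' := ⟨0, by simp⟩
  add_mem' := by
    rintro a b ⟨n, hn⟩ ⟨k, hk⟩
    refine ⟨n + k, ?_⟩
    rw [mul_add, pow_add]
    refine add_mem ?_ ?_
    · rw [mul_right_comm, mul_comm]
      exact Ideal.mul_mem_left _ _ hn
    · rw [mul_assoc]
      exact Ideal.mul_mem_left _ _ hk
  smul_mem' := fun c a ⟨n, hn⟩ => ⟨n, by rw [smul_eq_mul, mul_left_comm]; exact Ideal.mul_mem_left _ _ hn⟩

theorem mem_saturation {S : Type u} [CommRing S] {I : Ideal S} {g w : S} :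
    w ∈ saturation I g ↔ ∃ n : ℕ, g ^ n * w ∈ I := Iff.rfl

theorem saturation_le_of_dvd_pow {S : Type u} [CommRing S] (I : Ideal S) {f g : S} {k : ℕ} (h : f ∣ g ^ k) :
    saturation I f ≤ saturation I g := by
  rintro w ⟨n, hn⟩
  obtain ⟨c, hc⟩ := h
  refine ⟨k * n, ?_⟩
  rw [pow_mul, hc, mul_pow, mul_comm (f ^ n), mul_assoc]
  exact Ideal.mul_mem_left _ _ hn

/-- Elements of an ideal of a polynomial ring, moved in by `f`, vanish in a flat quotient. -/
theorem mem_of_flat_quotient {B : Type u} [CommRing B] (K : Ideal (MvPolynomial σ B))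
    [Module.Flat B (MvPolynomial σ B ⧸ K)] {f : B} (hf : f ∈ nonZeroDivisors B) {n : ℕ} {w : MvPolynomial σ B}
    (h : C f ^ n * w ∈ K) : w ∈ K := by
  refine Ideal.Quotient.eq_zero_iff_mem.1
    ((Module.Flat.isSMulRegular_of_nonZeroDivisors (M := MvPolynomial σ B ⧸ K) (pow_mem hf n)) ?_)
  show f ^ n • Ideal.Quotient.mk K w = f ^ n • 0
  rw [smul_zero, ← Ideal.Quotient.mk_eq_mk, ← Submodule.Quotient.mk_smul, Ideal.Quotient.mk_eq_mk, MvPolynomial.smul_eq_C_mul, map_pow]
  exact Ideal.Quotient.eq_zero_iff_mem.2 h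

end RGFlatLib
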