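import Mathlib
import Groth.Agent.RGFlatLib.Dat
import Groth.Agent.RGFlatLib.Poly
import Groth.Agent.RichLib.FlatColimit

/-!
# One chart flattening the strict transform along a valuation
-/

set_option autoImplicit false
set_option maxHeartbeats 2000000

noncomputable section

universe u

open MvPolynomial TensorProduct

namespace RGFlatLib

section Colim

variable {ι : Type u} [Preorder ι] {G : ι → Type u} [∀ i, CommRing (G i)]
  {g : ∀ i j, i ≤ j → G i →+* G j} {O : Type u} [CommRing O] [∀ i, Algebra (G i) O]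

/-- Membership in an ideal of a polynomial ring is attained at a stage. -/
theorem exists_stage_mem (hc : FlatCA.IsDirectedColimitRing G g O) (σ : Type u) (i : ι)
    (J : Ideal (MvPolynomial σ (G i))) (w : MvPolynomial σ (G i))
    (hw : MvPolynomial.map (algebraMap (G i) O) w ∈ J.map (MvPolynomial.map (algebraMap (G i) O))) :
    ∃ (k : ι) (h : i ≤ k), MvPolynomial.map (g i k h) w ∈ J.map (MvPolynomial.map (g i k h)) := by
  obtain ⟨hdir, -, hrefl, hcomp, hcompat, hsurj, -⟩ := id hc
  have push : ∀ {k k' : ι} (h : i ≤ k) (h' : k ≤ k') (y : MvPolynomial σ (G k)),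
      y ∈ J.map (MvPolynomial.map (g i k h)) →
      MvPolynomial.map (g k k' h') y ∈ J.map (MvPolynomial.map (g i k' (h.trans h'))) := by
    intro k k' h h' y hy
    have := Ideal.mem_map_of_mem (MvPolynomial.map (g k k' h')) hy
    rwa [Ideal.map_map, RichLib.FlatColimit.map_comp', hcomp] at this
  have key : ∀ x ∈ J.map (MvPolynomial.map (algebraMap (G i) O)), ∃ (k : ι) (h : i ≤ k) (y : MvPolynomial σ (G k)),
      y ∈ J.map (MvPolynomial.map (g i k h)) ∧ MvPolynomial.map (algebraMap (G k) O) y = x := by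
    intro x hx
    induction hx using Submodule.span_induction with
    | mem x hx =>
      obtain ⟨y, hy, rfl⟩ := hx
      refine ⟨i, le_rfl, y, ?_, rfl⟩
      have := Ideal.mem_map_of_mem (MvPolynomial.map (g i i le_rfl)) hy
      rw [hrefl] at this ⊢
      rwa [show MvPolynomial.map (RingHom.id (G i)) y = y from MvPolynomial.map_id y] at this
    | zero => exact ⟨i, le_rfl, 0, zero_mem _, map_zero _⟩
    | add a b _ _ ha hb =>
      obtain ⟨k₁, h₁, y₁, hy₁, rfl⟩ := ha
      obtain ⟨k₂, h₂, y₂, hy₂, rfl⟩ := hb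
      obtain ⟨k, hk₁, hk₂⟩ := hdir.directed k₁ k₂
      exact ⟨k, h₁.trans hk₁, MvPolynomial.map (g k₁ k hk₁) y₁ + MvPolynomial.map (g k₂ k hk₂) y₂,
        add_mem (push h₁ hk₁ y₁ hy₁) (push h₂ hk₂ y₂ hy₂),
        by rw [map_add, MvPolynomial.map_map, MvPolynomial.map_map, hcompat, hcompat]⟩
    | smul r x _ hx =>
      obtain ⟨k₁, h₁, y₁, hy₁, rfl⟩ := hx
      obtain ⟨k, hk, r', rfl⟩ := RichLib.FlatColimit.exists_poly_lift hc σ k₁ r
      exact ⟨k, h₁.trans hk, r' * MvPolynomial.map (g k₁ k hk) y₁, Ideal.mul_mem_left _ _ (push h₁ hk y₁ hy₁),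
        by rw [map_mul, MvPolynomial.map_map, hcompat, smul_eq_mul]⟩
  obtain ⟨k, h, y, hy, hyw⟩ := key _ hw
  obtain ⟨k', h', hk'⟩ := RichLib.FlatColimit.exists_poly_kill hc σ k (y - MvPolynomial.map (g i k h) w)
    (by rw [map_sub, hyw, MvPolynomial.map_map, hcompat, sub_self])
  refine ⟨k', h.trans h', ?_⟩
  rw [map_sub, sub_eq_zero, MvPolynomial.map_map, hcomp] at hk'
  exact hk' ▸ push h h' y hy

/-- Membership of finitely many elements is attained at a stage. -/
theorem exists_stage_mem_finset (hc : FlatCA.IsDirectedColimitRing G g O) (σ : Type u) (i : ι)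
    (J : Ideal (MvPolynomial σ (G i))) (T : Finset (MvPolynomial σ (G i)))
    (hT : ∀ w ∈ T, MvPolynomial.map (algebraMap (G i) O) w ∈ J.map (MvPolynomial.map (algebraMap (G i) O))) :
    ∃ (k : ι) (h : i ≤ k), ∀ w ∈ T, MvPolynomial.map (g i k h) w ∈ J.map (MvPolynomial.map (g i k h)) := by
  classical
  obtain ⟨hdir, -, -, hcomp, -, -, -⟩ := id hc
  induction T using Finset.induction with
  | empty => exact ⟨i, le_rfl, by simp⟩
  | @insert a T _ ih =>
    obtain ⟨k₁, h₁, hk₁⟩ := ih fun w hw => hT w (Finset.mem_insert_of_mem hw)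
    obtain ⟨k₂, h₂, hk₂⟩ := exists_stage_mem hc σ i J a (hT a (Finset.mem_insert_self a T))
    obtain ⟨k, hk₁', hk₂'⟩ := hdir.directed k₁ k₂
    refine ⟨k, h₁.trans hk₁', fun w hw => ?_⟩
    have push : ∀ {k'} (h' : i ≤ k') (hk : k' ≤ k), MvPolynomial.map (g i k' h') w ∈ J.map (MvPolynomial.map (g i k' h')) →
        MvPolynomial.map (g i k (h₁.trans hk₁')) w ∈ J.map (MvPolynomial.map (g i k (h₁.trans hk₁'))) := by
      intro k' h' hk hy
      have := Ideal.mem_map_of_mem (MvPolynomial.map (g k' k hk)) hy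
      rwa [Ideal.map_map, RichLib.FlatColimit.map_comp', MvPolynomial.map_map, hcomp] at this
    rcases Finset.mem_insert.mp hw with rfl | hw
    · exact push h₂ hk₂' hk₂
    · exact push h₁ hk₁' (hk₁ w hw)

/-- Finitely many polynomials lift to one stage. -/
theorem exists_stage_lifts (hc : FlatCA.IsDirectedColimitRing G g O) (σ : Type u)
    (T : Finset (MvPolynomial σ O)) :
    ∃ (k : ι), ∀ x ∈ T, ∃ y : MvPolynomial σ (G k), MvPolynomial.map (algebraMap (G k) O) y = x := by
  classical
  obtain ⟨hdir, hne, -, -, hcompat, -, -⟩ := id hc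
  induction T using Finset.induction with
  | empty => exact ⟨hne.some, by simp⟩
  | @insert a T _ ih =>
    obtain ⟨k₁, hk₁⟩ := ih
    obtain ⟨k, hk, y, hy⟩ := RichLib.FlatColimit.exists_poly_lift hc σ k₁ a
    refine ⟨k, fun x hx => ?_⟩
    rcases Finset.mem_insert.mp hx with rfl | hx
    · exact ⟨y, hy⟩
    · obtain ⟨y', rfl⟩ := hk₁ x hx
      exact ⟨MvPolynomial.map (g k₁ k hk) y', by rw [MvPolynomial.map_map, hcompat]⟩

end Colim

variable {A : Type u} [CommRing A]

/-- A ring in which the denominator generates the centre receives the chart algebra. -/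
theorem exists_hom_stage (I : Ideal A) (b : A) {B : Type u} [CommRing B] [Algebra A B]
    (hb : algebraMap A B b ∈ nonZeroDivisors B) (hI : I.map (algebraMap A B) ≤ Ideal.span {algebraMap A B b}) :
    Nonempty (BlowUp.affineAlgebra A I b →ₐ[A] B) := by
  let Bb := Localization.Away (algebraMap A B b)
  let j : B →ₐ[A] Bb := IsScalarTower.toAlgHom A B Bb
  have hj : Function.Injective j := IsLocalization.injective Bb (Submonoid.powers_le.2 hb)
  have hu : IsUnit (algebraMap A Bb b) := by
    rw [IsScalarTower.algebraMap_apply A B Bb]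
    exact IsLocalization.map_units Bb (⟨_, Submonoid.mem_powers _⟩ : Submonoid.powers (algebraMap A B b))
  let ψ : Localization.Away b →ₐ[A] Bb := IsLocalization.liftAlgHom (M := Submonoid.powers b)
    (f := Algebra.ofId A Bb) (fun y => by
      obtain ⟨n, hn⟩ := y.2
      rw [← hn]
      exact (map_pow (algebraMap A Bb) b n).symm ▸ hu.pow n)
  have hle : BlowUp.affineAlgebra A I b ≤ j.range.comap ψ := by
    refine Algebra.adjoin_le ?_
    rintro _ ⟨x, hx, rfl⟩
    obtain ⟨c, hc⟩ := Ideal.mem_span_singleton'.1 (hI (Ideal.mem_map_of_mem _ hx))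
    refine ⟨c, hu.mul_left_injective ?_⟩
    show j c * _ = ψ (IsLocalization.mk' _ x _) * _
    rw [← ψ.commutes b, ← map_mul, IsLocalization.mk'_spec (Localization.Away b) x ⟨b, Submonoid.mem_powers b⟩,
      AlgHom.commutes, AlgHom.commutes, IsScalarTower.algebraMap_apply A B Bb x, ← hc,
      IsScalarTower.algebraMap_apply A B Bb b, map_mul]
    rfl
  exact ⟨(AlgEquiv.ofInjective j hj).symm.toAlgHom.comp
    ((ψ.comp (BlowUp.affineAlgebra A I b).val).codRestrict j.range fun x => hle x.2)⟩

variable {V : Type u} [CommRing V] [IsDomain V] [ValuationRing V] {φ : A →+* V} {f : A} {s : Finset A}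

theorem exists_flat_chart_aux (L : Type u) [CommRing L] [Algebra A L] [(lowPrime φ f).IsPrime]
    [IsLocalization (lowPrime φ f).primeCompl L] {σ : Type u} [Finite σ] (I₀ : Ideal (MvPolynomial σ A)) (hf : φ f ≠ 0) (hfs : ∀ j ∈ s, φ f ∣ φ j)
    (hflat : Module.Flat (Localization.Away f) (MvPolynomial σ (Localization.Away f) ⧸
      I₀.map (MvPolynomial.map (algebraMap A (Localization.Away f)))))
    (hfg : (I₀.map (MvPolynomial.map (algebraMap A (Localization.Away f)))).FG) :
    ∃ d : Dat φ f s, ∀ (B : Type u) [CommRing B] [Algebra A B], algebraMap A B d.b ∈ nonZeroDivisors B →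
      d.I.map (algebraMap A B) ≤ Ideal.span {algebraMap A B d.b} →
        (saturation (I₀.map (MvPolynomial.map (algebraMap A B))) (C (algebraMap A B f))).FG ∧
        Module.Flat B (MvPolynomial σ B ⧸
          saturation (I₀.map (MvPolynomial.map (algebraMap A B))) (C (algebraMap A B f))) := by
  classical
  let O := semiRing φ f L hf
  let P := semiPrime L hf
  haveI : P.IsPrime := isPrime_semiPrime
  haveI : ValuationRing (O ⧸ P) := valuationRing_semiPrime
  haveI : IsLocalization P.primeCompl L := isLocalization_semiPrime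
  have hinj : Function.Injective (algebraMap O L) := Subtype.val_injective
  letI : Algebra (MvPolynomial σ O) (MvPolynomial σ L) := MvPolynomial.algebraMvPolynomial
  haveI := MvPolynomial.isLocalization (σ := σ) P.primeCompl L
  have hOL : (algebraMap O L).comp (algebraMap A O) = algebraMap A L := rfl
  -- the fibre at the prime
  let IL := I₀.map (MvPolynomial.map (σ := σ) (algebraMap A L))
  let af : Localization.Away f →+* L := IsLocalization.Away.lift f
    (g := algebraMap A L) (IsLocalization.map_units L (⟨f, self_notMem_lowPrime hf⟩ : (lowPrime φ f).primeCompl))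
  have haf : af.comp (algebraMap A (Localization.Away f)) = algebraMap A L := IsLocalization.Away.lift_comp f _
  have hIL : IL = (I₀.map (MvPolynomial.map (algebraMap A (Localization.Away f)))).map (MvPolynomial.map af) := by
    rw [Ideal.map_map, RichLib.FlatColimit.map_comp', haf]
  haveI : Module.Flat L (MvPolynomial σ L ⧸ IL) := by
    rw [hIL]
    haveI := hflat
    exact flat_map af _
  have hILfg : IL.FG := hIL ▸ hfg.map _
  haveI : Algebra.FinitePresentation L (MvPolynomial σ L ⧸ IL) := Algebra.FinitePresentation.quotient hILfg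
  -- the closure over the semivaluation ring
  let K' : Ideal (MvPolynomial σ O) := IL.comap (MvPolynomial.map (algebraMap O L))
  let φC : (MvPolynomial σ O ⧸ K') →ₐ[O] MvPolynomial σ L ⧸ IL :=
    Ideal.Quotient.liftₐ K' ((Ideal.Quotient.mkₐ O IL).comp (MvPolynomial.mapAlgHom (Algebra.ofId O L)))
      fun w hw => Ideal.Quotient.eq_zero_iff_mem.2 hw
  have hφC : ∀ w, φC (Ideal.Quotient.mk K' w) = Ideal.Quotient.mk IL (MvPolynomial.map (algebraMap O L) w) :=
    fun w => rfl
  have hφinj : Function.Injective φC := by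
    rw [injective_iff_map_eq_zero]
    intro c hc
    obtain ⟨w, rfl⟩ := Ideal.Quotient.mk_surjective c
    rw [hφC, Ideal.Quotient.eq_zero_iff_mem] at hc
    exact Ideal.Quotient.eq_zero_iff_mem.2 hc
  have hsurjC : ∀ y : MvPolynomial σ L ⧸ IL, ∃ (t : O) (_ : t ∉ P) (c : MvPolynomial σ O ⧸ K'),
      algebraMap O (MvPolynomial σ L ⧸ IL) t * y = φC c := fun y => by
    obtain ⟨z, rfl⟩ := Ideal.Quotient.mk_surjective y
    obtain ⟨⟨w, ⟨_, t, ht, rfl⟩⟩, e⟩ :=
      IsLocalization.surj (P.primeCompl.map (MvPolynomial.C : O →+* MvPolynomial σ O)) z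
    refine ⟨t, ht, Ideal.Quotient.mk K' w, ?_⟩
    rw [MvPolynomial.algebraMap_def] at e
    simp only [map_C] at e
    rw [hφC, ← e, map_mul, mul_comm]
    rfl
  haveI : Algebra.FiniteType O (MvPolynomial σ O ⧸ K') :=
    Algebra.FiniteType.of_surjective (f := Ideal.Quotient.mkₐ O K') Ideal.Quotient.mk_surjective
  obtain ⟨hCflat, hCfp⟩ := flat_and_finitePresentation_of_injective (O := O) (P := P) (B := L)
    (C := MvPolynomial σ O ⧸ K') (C' := MvPolynomial σ L ⧸ IL) div_semiPrime hinj φC hφinj hsurjC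
  haveI := hCflat
  haveI := hCfp
  obtain ⟨T', hT'⟩ : K'.FG := by
    have := Algebra.FinitePresentation.ker_fG_of_surjective (R := O) (A := MvPolynomial σ O) (B := MvPolynomial σ O ⧸ K')
      (Ideal.Quotient.mkₐ O K') Ideal.Quotient.mk_surjective
    rwa [show RingHom.ker (Ideal.Quotient.mkₐ O K').toRingHom = K' from Ideal.Quotient.mkₐ_ker O K'] at this
  -- the kernel is killed by a power of `f`
  have hpow : ∀ k ∈ K', ∃ N : ℕ, C (algebraMap A O f) ^ N * k ∈ I₀.map (MvPolynomial.map (algebraMap A O)) := by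
    intro k hk
    have h1 : algebraMap (MvPolynomial σ O) (MvPolynomial σ L) k ∈
        (I₀.map (MvPolynomial.map (algebraMap A O))).map (algebraMap (MvPolynomial σ O) (MvPolynomial σ L)) := by
      rw [MvPolynomial.algebraMap_def, Ideal.map_map, RichLib.FlatColimit.map_comp', hOL]
      exact hk
    obtain ⟨_, ⟨t, ht, rfl⟩, hm⟩ :=
      (IsLocalization.algebraMap_mem_map_algebraMap_iff (P.primeCompl.map (MvPolynomial.C : O →+* MvPolynomial σ O)) _ _ _).1 h1
    obtain ⟨a, b, ha, hb, -, h⟩ := exists_frac (hf := hf) ht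
    obtain ⟨n, hn⟩ := (notMem_lowPrime_iff hf).1 ha
    have hdvd : φ a ∣ φ (f ^ n * b) := by rw [map_mul, map_pow]; exact hn.mul_right _
    obtain ⟨v, hv⟩ := IsLocalization.map_units L (⟨a, ha⟩ : (lowPrime φ f).primeCompl)
    have hw : (algebraMap A L (f ^ n * b) * ↑v⁻¹) * algebraMap A L a = algebraMap A L (f ^ n * b) := by
      rw [mul_assoc, show algebraMap A L a = (v : L) from hv.symm, Units.inv_mul, mul_one]
    let w : O := ⟨_, _, _, ha, hdvd, hw⟩
    have htw : t * w = algebraMap A O f ^ n := by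
      rw [← map_pow]
      refine Subtype.ext ?_
      refine (IsLocalization.map_units L (⟨b, hb⟩ : (lowPrime φ f).primeCompl)).mul_left_injective ?_
      show (t : L) * (algebraMap A L (f ^ n * b) * ↑v⁻¹) * algebraMap A L b = algebraMap A L (f ^ n) * algebraMap A L b
      rw [mul_right_comm (t : L), h, mul_comm (algebraMap A L a), hw, map_mul]
    refine ⟨n, ?_⟩
    rw [← map_pow, ← htw, map_mul, mul_comm (C t), mul_assoc]
    exact Ideal.mul_mem_left _ _ hm
  choose! Nk hNk using hpow
  let N := T'.sup Nk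
  -- finitely many relations
  obtain ⟨T, hT, hTspan⟩ : ∃ T : Finset (MvPolynomial σ A), (T : Set (MvPolynomial σ A)) ⊆ (I₀ : Set (MvPolynomial σ A)) ∧
      Ideal.span (MvPolynomial.map (algebraMap A (Localization.Away f)) '' (T : Set _)) =
        I₀.map (MvPolynomial.map (algebraMap A (Localization.Away f))) := by
    obtain ⟨T₀, hT₀, hspan⟩ := (Submodule.fg_span_iff_fg_span_finset_subset _).1 hfg
    obtain ⟨T, hT, rfl⟩ := Finset.subset_set_image_iff.1 hT₀
    refine ⟨T, hT, ?_⟩
    rw [← Finset.coe_image]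
    exact hspan.symm
  letI algS : ∀ d : Dat φ f s, Algebra d.stage O := fun d => (d.toSemi L hf).toRingHom.toAlgebra
  have hc := Dat.isDirectedColimitRing (L := L) (s := s) hf hfs
  obtain ⟨d₀, hd₀⟩ := exists_stage_lifts hc σ T'
  choose! lft hlft using hd₀
  let K₀ : Ideal (MvPolynomial σ d₀.stage) := Ideal.span (lft '' (T' : Set _))
  have hK₀fg : K₀.FG := ⟨T'.image lft, by rw [Finset.coe_image]⟩
  have hK₀ : K₀.map (MvPolynomial.map (algebraMap d₀.stage O)) = K' := by
    rw [Ideal.map_span, Set.image_image, ← hT']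
    exact congrArg _ ((Set.image_congr fun x hx => hlft x hx).trans (Set.image_id' _))
  -- flatness at a stage
  let ι' := {d : Dat φ f s // d₀ ≤ d}
  letI : ∀ d : ι', Algebra d₀.stage d.1.stage := fun d => (Dat.stageMap d.2).toRingHom.toAlgebra
  obtain ⟨hdir, -, hrefl, hcomp, hcompat, hsurj, hkill⟩ := id hc
  haveI : ∀ d : ι', IsScalarTower d₀.stage d.1.stage O := fun d =>
    IsScalarTower.of_algebraMap_eq fun x => (RingHom.congr_fun (hcompat d₀ d.1 d.2) x).symm
  let g' : ∀ i j : ι', i ≤ j → i.1.stage →ₐ[d₀.stage] j.1.stage := fun i j h =>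
    { (Dat.stageMap (show i.1 ≤ j.1 from h)).toRingHom with
      commutes' := fun x => RingHom.congr_fun (hcomp d₀ i.1 j.1 i.2 h) x }
  have hc' : FlatCA.IsDirectedColimitRing (fun d : ι' => d.1.stage) (fun i j h => (g' i j h).toRingHom) O := by
    refine ⟨⟨fun i j => ?_⟩, ⟨⟨d₀, le_rfl⟩⟩, fun i => hrefl i.1, fun i j k h h' => hcomp i.1 j.1 k.1 h h',
      fun i j h => hcompat i.1 j.1 h, fun a => ?_, fun i x hx => ?_⟩
    · obtain ⟨k, h₁, h₂⟩ := hdir.directed i.1 j.1
      exact ⟨⟨k, i.2.trans h₁⟩, h₁, h₂⟩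
    · obtain ⟨i, x, rfl⟩ := hsurj a
      obtain ⟨k, h₁, h₂⟩ := hdir.directed d₀ i
      exact ⟨⟨k, h₁⟩, Dat.stageMap h₂ x, RingHom.congr_fun (hcompat i k h₂) x⟩
    · obtain ⟨j, h, hj⟩ := hkill i.1 x hx
      exact ⟨⟨j, i.2.trans h⟩, h, hj⟩
  letI : ∀ d : Dat φ f s, CommRing d.stage := fun d => Subalgebra.toCommRing d.stage
  haveI : Algebra.FinitePresentation d₀.stage (MvPolynomial σ d₀.stage ⧸ K₀) :=
    Algebra.FinitePresentation.quotient hK₀fg
  have hflatO : Module.Flat O (O ⊗[d₀.stage] (MvPolynomial σ d₀.stage ⧸ K₀)) := by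
    obtain ⟨e⟩ := exists_quot_equiv (B := O) K₀
    haveI : Module.Flat O (MvPolynomial σ O ⧸ K₀.map (MvPolynomial.map (algebraMap d₀.stage O))) := by
      rw [hK₀]; infer_instance
    exact Module.Flat.of_linearEquiv e.symm.toLinearEquiv
  obtain ⟨d₁, hd₁⟩ := (RichLib.FlatColimit.flat_iff_exists_stage (fun d : ι' => d.1.stage) g' O hc'
    (B₀ := MvPolynomial σ d₀.stage ⧸ K₀) (MvPolynomial σ d₀.stage ⧸ K₀)).1 hflatO
  obtain ⟨e₁⟩ := exists_quot_equiv (B := d₁.1.stage) K₀
  let K₁ := K₀.map (MvPolynomial.map (algebraMap d₀.stage d₁.1.stage))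
  haveI hK₁flat : Module.Flat d₁.1.stage (MvPolynomial σ d₁.1.stage ⧸ K₁) :=
    haveI := hd₁
    Module.Flat.of_linearEquiv e₁.toLinearEquiv
  have hK₁ : K₁.map (MvPolynomial.map (algebraMap d₁.1.stage O)) = K' := by
    rw [Ideal.map_map, RichLib.FlatColimit.map_comp', ← IsScalarTower.algebraMap_eq, hK₀]
  -- the relations vanish at a stage
  obtain ⟨d₂, h₂, hTm⟩ := exists_stage_mem_finset hc σ d₁.1 K₁
    (T.image (MvPolynomial.map (algebraMap A d₁.1.stage))) fun w hw => by
      obtain ⟨t, ht, rfl⟩ := Finset.mem_image.1 hw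
      rw [hK₁, Ideal.mem_comap, MvPolynomial.map_map, MvPolynomial.map_map,
        show ((algebraMap O L).comp (algebraMap d₁.1.stage (semiRing φ f L hf))).comp (algebraMap A d₁.1.stage) =
          algebraMap A L from RingHom.ext fun a => (d₁.1.toL L).commutes a]
      exact Ideal.mem_map_of_mem (MvPolynomial.map (algebraMap A L)) (hT ht)
  let K₂ := K₁.map (MvPolynomial.map (Dat.stageMap h₂).toRingHom)
  let G₂ : Finset (MvPolynomial σ d₂.stage) := T'.image fun k =>
    MvPolynomial.map (Dat.stageMap h₂).toRingHom (MvPolynomial.map (algebraMap d₀.stage d₁.1.stage) (lft k))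
  have hK₂ : Ideal.span (G₂ : Set _) = K₂ := by
    show _ = ((Ideal.span _).map _).map _
    rw [Ideal.map_span, Ideal.map_span, Set.image_image, Set.image_image, Finset.coe_image]
  have hc2 : ∀ k, MvPolynomial.map (algebraMap d₂.stage O) (MvPolynomial.map (Dat.stageMap h₂).toRingHom
      (MvPolynomial.map (algebraMap d₀.stage d₁.1.stage) (lft k))) = MvPolynomial.map (algebraMap d₀.stage O) (lft k) := by
    intro k
    rw [MvPolynomial.map_map, hcompat d₁.1 d₂ h₂, MvPolynomial.map_map, ← IsScalarTower.algebraMap_eq]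
  -- the relations are killed by a power of `f` at a stage
  have hA : ∀ (d : Dat φ f s), (algebraMap d.stage O).comp (algebraMap A d.stage) = algebraMap A O := fun d =>
    RingHom.ext fun a => (d.toSemi L hf).commutes a
  obtain ⟨d₃, h₃, hGm⟩ := exists_stage_mem_finset hc σ d₂ (I₀.map (MvPolynomial.map (algebraMap A d₂.stage)))
    (G₂.image (C (algebraMap A d₂.stage f) ^ N * ·)) fun w hw => by
      obtain ⟨x, hx, rfl⟩ := Finset.mem_image.1 hw
      obtain ⟨k, hk, rfl⟩ := Finset.mem_image.1 hx
      rw [Ideal.map_map, RichLib.FlatColimit.map_comp', hA, map_mul, map_pow, map_C, hc2, hlft k hk,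
        ← RingHom.comp_apply (algebraMap d₂.stage O), hA]
      rw [show N = N - Nk k + Nk k from (Nat.sub_add_cancel (Finset.le_sup hk)).symm, pow_add, mul_assoc]
      exact Ideal.mul_mem_left _ _ (hNk k (hT' ▸ Ideal.subset_span hk))
  refine ⟨d₃, fun B _ _ hb hIB => ?_⟩
  obtain ⟨θ⟩ := exists_hom_stage d₃.I d₃.b hb hIB
  let ψ : d₁.1.stage →+* B := θ.toRingHom.comp ((Dat.stageMap h₃).toRingHom.comp (Dat.stageMap h₂).toRingHom)
  let KB := K₁.map (MvPolynomial.map ψ)
  haveI : Module.Flat B (MvPolynomial σ B ⧸ KB) := flat_map ψ K₁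
  have hψA : ψ.comp (algebraMap A d₁.1.stage) = algebraMap A B := RingHom.ext fun a => by
    show θ (Dat.stageMap h₃ (Dat.stageMap h₂ (algebraMap A _ a))) = _
    rw [AlgHom.commutes, AlgHom.commutes, AlgHom.commutes]
  have hf' : algebraMap A B f ∈ nonZeroDivisors B := by
    rw [d₃.hb, map_mul] at hb
    exact (mul_mem_nonZeroDivisors.1 hb).2
  let SB := saturation (I₀.map (MvPolynomial.map (algebraMap A B))) (C (algebraMap A B f))
  have hle : I₀.map (MvPolynomial.map (algebraMap A B)) ≤ KB := by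
    rw [Ideal.map_le_iff_le_comap]
    intro x hx
    letI : Algebra (MvPolynomial σ A) (MvPolynomial σ (Localization.Away f)) := MvPolynomial.algebraMvPolynomial
    haveI := MvPolynomial.isLocalization (σ := σ) (Submonoid.powers f) (Localization.Away f)
    have h1 : algebraMap (MvPolynomial σ A) (MvPolynomial σ (Localization.Away f)) x ∈
        (Ideal.span (T : Set (MvPolynomial σ A))).map (algebraMap (MvPolynomial σ A) (MvPolynomial σ (Localization.Away f))) := by
      rw [MvPolynomial.algebraMap_def, Ideal.map_span, hTspan]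
      exact Ideal.mem_map_of_mem _ hx
    obtain ⟨_, ⟨_, ⟨n, rfl⟩, rfl⟩, hm⟩ := (IsLocalization.algebraMap_mem_map_algebraMap_iff
      ((Submonoid.powers f).map (MvPolynomial.C : A →+* MvPolynomial σ A)) _ _ _).1 h1
    refine mem_of_flat_quotient KB hf' (n := n) ?_
    have h2 : Ideal.span (T : Set (MvPolynomial σ A)) ≤ KB.comap (MvPolynomial.map (algebraMap A B)) := by
      refine Ideal.span_le.2 fun t ht => ?_
      have h3 := Ideal.mem_map_of_mem (MvPolynomial.map (θ.toRingHom.comp (Dat.stageMap h₃).toRingHom))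
        (hTm _ (Finset.mem_image_of_mem _ ht))
      rw [Ideal.map_map, RichLib.FlatColimit.map_comp', MvPolynomial.map_map, MvPolynomial.map_map] at h3
      rw [SetLike.mem_coe, Ideal.mem_comap, ← hψA]
      exact h3
    have h4 := h2 hm
    rwa [Ideal.mem_comap, map_mul, map_C, map_pow, map_pow] at h4
  have hge : KB ≤ SB := by
    rw [show KB = Ideal.span ((MvPolynomial.map (θ.toRingHom.comp (Dat.stageMap h₃).toRingHom)) '' (G₂ : Set _)) by
      rw [← Ideal.map_span, hK₂, Ideal.map_map, RichLib.FlatColimit.map_comp']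
      rfl]
    refine Ideal.span_le.2 ?_
    rintro _ ⟨x, hx, rfl⟩
    refine ⟨N, ?_⟩
    have h3 := Ideal.mem_map_of_mem (MvPolynomial.map θ.toRingHom) (hGm _ (Finset.mem_image_of_mem _ hx))
    rw [Ideal.map_map, Ideal.map_map, RichLib.FlatColimit.map_comp', RichLib.FlatColimit.map_comp',
      MvPolynomial.map_map, map_mul, map_pow, map_C] at h3
    have hθA : θ.toRingHom.comp ((Dat.stageMap h₃).toRingHom.comp (algebraMap A d₂.stage)) = algebraMap A B :=
      RingHom.ext fun a => by
        show θ (Dat.stageMap h₃ (algebraMap A _ a)) = _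
        rw [AlgHom.commutes, AlgHom.commutes]
    have hθf := RingHom.congr_fun hθA f
    rw [RingHom.comp_assoc] at h3
    simp only [RingHom.comp_apply] at h3 hθf
    erw [hθA, hθf] at h3
    exact h3
  have hSB : SB = KB := le_antisymm (fun w ⟨n, hn⟩ => mem_of_flat_quotient KB hf' (hle hn)) hge
  show SB.FG ∧ Module.Flat B (MvPolynomial σ B ⧸ SB)
  rw [hSB]
  exact ⟨(hK₀fg.map _).map _, inferInstance⟩

/-- Through every valuation not killing the centre there is a chart flattening the strict transform. -/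
theorem exists_flat_chart {σ : Type u} [Finite σ] (I₀ : Ideal (MvPolynomial σ A)) (hf : φ f ≠ 0) (hfs : ∀ j ∈ s, φ f ∣ φ j)
    (hflat : Module.Flat (Localization.Away f) (MvPolynomial σ (Localization.Away f) ⧸
      I₀.map (MvPolynomial.map (algebraMap A (Localization.Away f)))))
    (hfg : (I₀.map (MvPolynomial.map (algebraMap A (Localization.Away f)))).FG) :
    ∃ d : Dat φ f s, ∀ (B : Type u) [CommRing B] [Algebra A B], algebraMap A B d.b ∈ nonZeroDivisors B →
      d.I.map (algebraMap A B) ≤ Ideal.span {algebraMap A B d.b} →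
        (saturation (I₀.map (MvPolynomial.map (algebraMap A B))) (C (algebraMap A B f))).FG ∧
        Module.Flat B (MvPolynomial σ B ⧸
          saturation (I₀.map (MvPolynomial.map (algebraMap A B))) (C (algebraMap A B f))) := by
  haveI := isPrime_lowPrime hf
  exact exists_flat_chart_aux (Localization.AtPrime (lowPrime φ f)) I₀ hf hfs hflat hfg

end RGFlatLib
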