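import Mathlib
import Groth.Agent.RzLib.Vals
import Groth.Agent.RzLib.FlatFP
import Groth.Agent.RGFlatLib.Chart

/-!
# An admissible centre flattening the strict transforms, affine case
-/

set_option autoImplicit false
set_option maxHeartbeats 1000000

noncomputable section

universe u

open MvPolynomial RzLib

namespace RGFlatLib

/-- In a local ring a factor of a product which is a principal ideal generated by a nonzerodivisor is
principal, generated by a member of any generating set. -/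
theorem exists_generator_of_mul' {O : Type u} [CommRing O] [IsLocalRing O] {I J : Ideal O} {g : O}
    (hg : g ∈ nonZeroDivisors O) (h : I * J = Ideal.span {g}) {s : Set O} (hs : Ideal.span s = I) :
    ∃ i ∈ s, i ∈ nonZeroDivisors O ∧ I = Ideal.span {i} := by
  obtain ⟨i, hi, j, hj, u, hu, hij⟩ : ∃ i ∈ s, ∃ j ∈ J, ∃ u : O, IsUnit u ∧ i * j = u * g := by
    by_contra hcon
    simp only [not_exists, not_and] at hcon
    have hle : I * J ≤ IsLocalRing.maximalIdeal O * Ideal.span {g} := by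
      rw [← hs, Ideal.mul_le]
      intro a ha b hb
      induction ha using Submodule.span_induction with
      | mem a ha =>
        have hab : a * b ∈ Ideal.span {g} := h ▸ Ideal.mul_mem_mul (hs ▸ Ideal.subset_span ha) hb
        obtain ⟨u, hu⟩ := Ideal.mem_span_singleton'.mp hab
        rw [← hu]
        exact Ideal.mul_mem_mul (fun hu' => hcon a ha b hb u hu' hu.symm) (Ideal.mem_span_singleton_self g)
      | zero => rw [zero_mul]; exact zero_mem _
      | add x y _ _ hx hy => rw [add_mul]; exact add_mem hx hy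
      | smul r x _ hx => rw [smul_eq_mul, mul_assoc]; exact Ideal.mul_mem_left _ r hx
    obtain ⟨c, hc, hcg⟩ := Ideal.mem_mul_span_singleton.mp (hle (h ▸ Ideal.mem_span_singleton_self g))
    have : c = 1 := (mul_cancel_right_mem_nonZeroDivisors hg).1 (by rw [hcg, one_mul])
    exact (IsLocalRing.maximalIdeal.isMaximal O).ne_top ((Ideal.eq_top_iff_one _).mpr (this ▸ hc))
  have hij' : i * j ∈ nonZeroDivisors O := hij ▸ mul_mem hu.mem_nonZeroDivisors hg
  obtain ⟨hin, hjn⟩ := mul_mem_nonZeroDivisors.1 hij'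
  refine ⟨i, hi, hin, le_antisymm (fun a ha => ?_)
    ((Ideal.span_singleton_le_iff_mem _).mpr (hs ▸ Ideal.subset_span hi))⟩
  have haj : a * j ∈ Ideal.span {g} := h ▸ Ideal.mul_mem_mul ha hj
  obtain ⟨w, hw⟩ := Ideal.mem_span_singleton'.mp haj
  refine Ideal.mem_span_singleton'.mpr ⟨w * ↑hu.unit⁻¹, (mul_cancel_right_mem_nonZeroDivisors hjn).1 ?_⟩
  calc w * ↑hu.unit⁻¹ * i * j = w * ↑hu.unit⁻¹ * (i * j) := by ring
    _ = w * (↑hu.unit⁻¹ * u) * g := by rw [hij]; ring
    _ = a * j := by rw [IsUnit.val_inv_mul, mul_one, hw]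

variable {A : Type u} [CommRing A]

theorem mem_radical_prod {ι : Type*} (t : Finset ι) (J : ι → Ideal A) {x : A} (h : ∀ i ∈ t, x ∈ (J i).radical) :
    x ∈ (∏ i ∈ t, J i).radical := by
  classical
  induction t using Finset.induction with
  | empty => rw [Finset.prod_empty, Ideal.one_eq_top]; exact Ideal.le_radical Submodule.mem_top
  | insert a t ha ih =>
    rw [Finset.prod_insert ha, Ideal.radical_mul]
    exact ⟨h a (Finset.mem_insert_self a t), ih fun i hi => h i (Finset.mem_insert_of_mem hi)⟩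

/-- The strict transform is flat and of finite presentation. -/
def Good {σ : Type u} (I₀ : Ideal (MvPolynomial σ A)) (B : Type u) [CommRing B] [Algebra A B] (g : B) : Prop :=
  (saturation (I₀.map (MvPolynomial.map (algebraMap A B))) (C g)).FG ∧
    Module.Flat B (MvPolynomial σ B ⧸ saturation (I₀.map (MvPolynomial.map (algebraMap A B))) (C g))

/-- A chart flattening one algebra. -/
structure Datum (s : Finset A) {σ : Type u} (I₀ : Ideal (MvPolynomial σ A)) where
  /-- the member generating the centre -/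
  f : A
  /-- denominator -/
  b : A
  /-- cofactor -/
  c : A
  hb : b = c * f
  /-- generators of the centre -/
  S : Finset A
  mem : b ∈ Ideal.span (S : Set A)
  fmem : f ∈ s
  cmem : ∀ j ∈ s, c * j ∈ Ideal.span (S : Set A)
  rad : ∀ j ∈ s, j ∈ (Ideal.span (S : Set A)).radical
  good : ∀ (B : Type u) [CommRing B] [Algebra A B], algebraMap A B b ∈ nonZeroDivisors B →
    (∀ x ∈ S, algebraMap A B x ∈ Ideal.span {algebraMap A B b}) → Good I₀ B (algebraMap A B f)

theorem exists_datum (s : Finset A) {σ : Type u} [Finite σ] (I₀ : Ideal (MvPolynomial σ A))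
    (hflat : ∀ f ∈ s, Module.Flat (Localization.Away f) (MvPolynomial σ (Localization.Away f) ⧸
      I₀.map (MvPolynomial.map (algebraMap A (Localization.Away f)))))
    (hfg : ∀ f ∈ s, (I₀.map (MvPolynomial.map (algebraMap A (Localization.Away f)))).FG)
    {r : A × A → Bool} (hr : IsVal r) (hrs : ∃ j ∈ s, r (j, 0) = false) :
    ∃ D : Datum s I₀, ∀ x ∈ D.S, r (x, D.b) = true := by
  classical
  obtain ⟨V, _, _, _, φ, -, hrφ⟩ := exists_val_point hr
  obtain ⟨j, hj, hj0⟩ := hrs
  have hj' : φ j ≠ 0 := fun h => by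
    have := (hrφ j 0).2 (by rw [map_zero, h])
    rw [hj0] at this
    exact absurd this (by decide)
  obtain ⟨f, hfs, hmax⟩ := exists_dvd_all (fun x => φ x) (s := s) ⟨j, hj⟩
  have hf : φ f ≠ 0 := fun h => hj' (zero_dvd_iff.1 (h ▸ hmax j hj))
  obtain ⟨d, hd⟩ := exists_flat_chart (s := s) I₀ hf hmax (hflat f hfs) (hfg f hfs)
  obtain ⟨S, hS⟩ := id d.fg
  refine ⟨{ f := f, b := d.b, c := d.c, hb := d.hb, S := S, mem := hS.symm ▸ d.mem, fmem := hfs, cmem := fun j hj => hS.symm ▸ d.cmem j hj,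
            rad := fun j hj => hS.symm ▸ d.rad j hj, good := fun B _ _ hb hB => ?_ }, fun x hx => ?_⟩
  · refine hd B hb ?_
    rw [← hS, Ideal.map_span, Ideal.span_le]
    rintro _ ⟨x, hx, rfl⟩
    exact hB x hx
  · exact (hrφ x d.b).2 (d.dvd x (hS ▸ Ideal.subset_span hx))

/-- An admissible centre on an affine scheme flattening finitely many strict transforms. -/
theorem exists_flattening_center (s : Finset A) {κ : Type u} [Finite κ] (σ : κ → Type u) [∀ k, Finite (σ k)]
    (I₀ : ∀ k, Ideal (MvPolynomial (σ k) A))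
    (hflat : ∀ k, ∀ f ∈ s, Module.Flat (Localization.Away f) (MvPolynomial (σ k) (Localization.Away f) ⧸
      (I₀ k).map (MvPolynomial.map (algebraMap A (Localization.Away f)))))
    (hfg : ∀ k, ∀ f ∈ s, ((I₀ k).map (MvPolynomial.map (algebraMap A (Localization.Away f)))).FG) :
    ∃ I : Ideal A, I.FG ∧ I ≤ Ideal.span (s : Set A) ∧ (∀ j ∈ s, j ∈ I.radical) ∧
      ∀ (B : Type u) [CommRing B] [Algebra A B] (g : B), g ∈ nonZeroDivisors B →
        I.map (algebraMap A B) = Ideal.span {g} → ∀ q : PrimeSpectrum B, ∃ h : B, h ∉ q.asIdeal ∧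
          ∀ (B' : Type u) [CommRing B'] [Algebra B B'] [Algebra A B'] [IsScalarTower A B B']
            [IsLocalization.Away h B'], ∀ k, Good (I₀ k) B' (algebraMap B B' g) := by
  classical
  -- finitely many charts
  let Kc : Set (A × A → Bool) := {r | IsVal r} ∩ ⋃ j ∈ s, {r | r (j, 0) = false}
  have hKc : IsCompact Kc := isCompact_isVal.inter_right (s.finite_toSet.isClosed_biUnion fun j _ => isClosed_bool _ _)
  have hcov : ∀ k, ∃ T : Finset (Datum s (I₀ k)), ∀ r ∈ Kc, ∃ D ∈ T, ∀ x ∈ D.S, r (x, D.b) = true := by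
    intro k
    let N : Datum s (I₀ k) → Set (A × A → Bool) := fun D => ⋂ x ∈ D.S, {r | r (x, D.b) = true}
    have hN : ∀ D, IsOpen (N D) := fun D => isOpen_biInter_finset fun x _ => isOpen_bool _ _
    obtain ⟨T, hT⟩ := hKc.elim_finite_subcover N hN fun r hr => by
      obtain ⟨hv, hr⟩ := hr
      obtain ⟨j, hj, hj0⟩ := Set.mem_iUnion₂.1 hr
      obtain ⟨D, hD⟩ := exists_datum s (I₀ k) (hflat k) (hfg k) hv ⟨j, hj, hj0⟩
      exact Set.mem_iUnion.2 ⟨D, Set.mem_iInter₂.2 hD⟩
    refine ⟨T, fun r hr => ?_⟩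
    obtain ⟨D, hD, hrD⟩ := Set.mem_iUnion₂.1 (hT hr)
    exact ⟨D, hD, fun x hx => Set.mem_iInter₂.1 (hrD : r ∈ ⋂ x ∈ D.S, {r | r (x, D.b) = true}) x hx⟩
  choose T hT using hcov
  haveI := Fintype.ofFinite κ
  let Tall : Finset (Σ k, Datum s (I₀ k)) := Finset.univ.sigma T
  let Id : (Σ k, Datum s (I₀ k)) → Ideal A := fun D => Ideal.span (D.2.S : Set A)
  let I : Ideal A := Ideal.span (s : Set A) * ∏ D ∈ Tall, Id D
  have hIrad : ∀ j ∈ s, j ∈ I.radical := fun j hj => by
    rw [Ideal.radical_mul]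
    exact ⟨Ideal.le_radical (Ideal.subset_span hj), mem_radical_prod _ _ fun D _ => D.2.rad j hj⟩
  refine ⟨I, Ideal.FG.mul ⟨s, rfl⟩ (Finset.prod_induction Id (fun I => I.FG) (fun _ _ h₁ h₂ => h₁.mul h₂)
    ⟨{1}, by simp⟩ fun D _ => ⟨D.2.S, rfl⟩), Ideal.mul_le_left, hIrad, fun B _ _ g hg hgI q => ?_⟩
  -- at the local ring
  let O := Localization.AtPrime q.asIdeal
  have hgO : algebraMap B O g ∈ nonZeroDivisors O :=
    IsLocalization.map_nonZeroDivisors_le q.asIdeal.primeCompl O (Submonoid.mem_map_of_mem _ hg)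
  have hIO : I.map (algebraMap A O) = Ideal.span {algebraMap B O g} := by
    rw [IsScalarTower.algebraMap_eq A B O, ← Ideal.map_map, hgI, Ideal.map_span, Set.image_singleton]
  obtain ⟨f₀, ⟨j₀, hj₀, rfl⟩, hj₀n, -⟩ := exists_generator_of_mul' hgO (by rw [← Ideal.map_mul]; exact hIO)
    (s := algebraMap A O '' (s : Set A)) (Ideal.map_span _ _).symm
  obtain ⟨Q, hQ⟩ := (Ideal.nonempty_minimalPrimes (I := (⊥ : Ideal O)) bot_ne_top)
  haveI : Q.IsPrime := hQ.1.1
  have hnot : ∀ x ∈ nonZeroDivisors O, x ∉ Q := fun x hx hxQ =>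
    Set.disjoint_left.1 (Ideal.disjoint_nonZeroDivisors_of_mem_minimalPrimes hQ) hxQ hx
  let Dm := O ⧸ Q
  haveI : IsLocalRing Dm := IsLocalRing.of_surjective' (Ideal.Quotient.mk Q) Ideal.Quotient.mk_surjective
  obtain ⟨V, hV, hloc⟩ := IsLocalRing.exists_factor_valuationRing (algebraMap Dm (FractionRing Dm))
  let ι₀ : Dm →+* V := (algebraMap Dm (FractionRing Dm)).codRestrict V.toSubring hV
  haveI : IsLocalHom ι₀ := hloc
  have hι₀ : Function.Injective ι₀ := fun x y h => IsFractionRing.injective Dm (FractionRing Dm) (congrArg Subtype.val h)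
  let ψ : O →+* V := ι₀.comp (Ideal.Quotient.mk Q)
  have hψ0 : ∀ x, ψ x = 0 → x ∈ Q := fun x hx => Ideal.Quotient.eq_zero_iff_mem.1 (hι₀ (hx.trans (map_zero ι₀).symm))
  have hψu : ∀ x, IsUnit (ψ x) → IsUnit x := fun x hx => by
    by_contra hn
    have h1 : IsUnit (Ideal.Quotient.mk Q x) := hloc.map_nonunit _ hx
    obtain ⟨v, hv⟩ := h1.exists_right_inv
    obtain ⟨y, rfl⟩ := Ideal.Quotient.mk_surjective v
    have h2 : x * y - 1 ∈ IsLocalRing.maximalIdeal O :=
      IsLocalRing.le_maximalIdeal ‹Q.IsPrime›.ne_top (Ideal.Quotient.eq.1 (by rw [map_mul, hv, map_one]))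
    have h3 : x * y ∈ IsLocalRing.maximalIdeal O := Ideal.mul_mem_right _ _ hn
    exact (IsLocalRing.maximalIdeal.isMaximal O).ne_top ((Ideal.eq_top_iff_one _).2 (by simpa using sub_mem h3 h2))
  let r := relOf (ψ.comp (algebraMap A O))
  have hrK : r ∈ Kc := by
    refine ⟨isVal_relOf _, Set.mem_iUnion₂.2 ⟨j₀, hj₀, ?_⟩⟩
    rw [Set.mem_setOf_eq, relOf_false_iff, map_zero, zero_dvd_iff]
    exact fun h => hnot _ hj₀n (hψ0 _ h)
  choose D hD hrD using fun k => hT k r hrK
  have key : ∀ k, ∀ x ∈ (D k).S, ∃ t ∉ q.asIdeal, t * algebraMap A B x ∈ Ideal.span {algebraMap A B (D k).b} := by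
    intro k
    have hmem : (⟨k, D k⟩ : Σ k, Datum s (I₀ k)) ∈ Tall := Finset.mem_sigma.2 ⟨Finset.mem_univ k, hD k⟩
    have hprod : (Id ⟨k, D k⟩).map (algebraMap A O) *
        ((Ideal.span (s : Set A) * ∏ D' ∈ Tall.erase ⟨k, D k⟩, Id D').map (algebraMap A O)) =
        Ideal.span {algebraMap B O g} := by
      rw [← Ideal.map_mul, mul_left_comm, Finset.mul_prod_erase _ _ hmem]
      exact hIO
    obtain ⟨i, ⟨x₀, hx₀, rfl⟩, hin, hI⟩ := exists_generator_of_mul' hgO hprod
      (s := algebraMap A O '' ((D k).S : Set A)) (Ideal.map_span _ _).symm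
    intro x hx
    obtain ⟨v, hv⟩ := (relOf_iff _ _ _).1 (hrD k x₀ hx₀)
    have hw' : algebraMap A O (D k).b ∈ Ideal.span {algebraMap A O x₀} := hI ▸ Ideal.mem_map_of_mem _ (D k).mem
    obtain ⟨w, hw⟩ := Ideal.mem_span_singleton'.1 hw'
    have hwu : IsUnit w := by
      refine hψu w (IsUnit.of_mul_eq_one v (mul_left_cancel₀ (fun h => hnot _ hin (hψ0 _ h)) ?_))
      rw [mul_one]
      calc ψ (algebraMap A O x₀) * (ψ w * v) = ψ (w * algebraMap A O x₀) * v := by rw [map_mul]; ring
        _ = ψ (algebraMap A O x₀) := by rw [hw]; exact hv.symm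
    have hxb : algebraMap B O (algebraMap A B x) ∈ (Ideal.span {algebraMap A B (D k).b}).map (algebraMap B O) := by
      rw [Ideal.map_span, Set.image_singleton, ← IsScalarTower.algebraMap_apply, ← IsScalarTower.algebraMap_apply,
        ← hw, Ideal.span_singleton_mul_left_unit hwu, ← hI]
      exact Ideal.mem_map_of_mem _ (Ideal.subset_span hx)
    obtain ⟨t, ht, htx⟩ := (IsLocalization.algebraMap_mem_map_algebraMap_iff q.asIdeal.primeCompl O _ _).1 hxb
    exact ⟨t, ht, htx⟩
  choose! t ht htx using key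
  let h : B := ∏ k, ∏ x ∈ (D k).S, t k x
  refine ⟨h, fun hh => ?_, fun B' _ _ _ _ _ k => ?_⟩
  · obtain ⟨k, -, hk⟩ := (Ideal.IsPrime.prod_mem_iff (hp := q.isPrime)).1 hh
    obtain ⟨x, hx, hxq⟩ := (Ideal.IsPrime.prod_mem_iff (hp := q.isPrime)).1 hk
    exact ht k x hx hxq
  have hh : IsUnit (algebraMap B B' h) := IsLocalization.Away.algebraMap_isUnit h
  have hS : ∀ x ∈ (D k).S, algebraMap A B' x ∈ Ideal.span {algebraMap A B' (D k).b} := by
    intro x hx
    have htu : IsUnit (algebraMap B B' (t k x)) := by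
      refine isUnit_of_dvd_unit (map_dvd _ ?_) hh
      exact (Finset.dvd_prod_of_mem (fun x => t k x) hx).trans
        (Finset.dvd_prod_of_mem (fun k => ∏ x ∈ (D k).S, t k x) (Finset.mem_univ k))
    have := Ideal.mem_map_of_mem (algebraMap B B') (htx k x hx)
    rw [Ideal.map_span, Set.image_singleton, map_mul, ← IsScalarTower.algebraMap_apply,
      ← IsScalarTower.algebraMap_apply] at this
    exact (Ideal.unit_mul_mem_iff_mem _ htu).1 this
  have hgB' : algebraMap B B' g ∈ nonZeroDivisors B' :=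
    IsLocalization.map_nonZeroDivisors_le (Submonoid.powers h) B' (Submonoid.mem_map_of_mem _ hg)
  have hIB' : I.map (algebraMap A B') = Ideal.span {algebraMap B B' g} := by
    rw [IsScalarTower.algebraMap_eq A B B', ← Ideal.map_map, hgI, Ideal.map_span, Set.image_singleton]
  have hle : I.map (algebraMap A B') ≤ Ideal.span {algebraMap A B' (D k).b} := by
    refine (Ideal.map_mono (Ideal.mul_le_right.trans ?_)).trans
      (show (Id ⟨k, D k⟩).map (algebraMap A B') ≤ _ by
        rw [Ideal.map_span, Ideal.span_le]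
        rintro _ ⟨x, hx, rfl⟩
        exact hS x hx)
    rw [← Finset.prod_erase_mul _ _ (Finset.mem_sigma.2 ⟨Finset.mem_univ k, hD k⟩ : (⟨k, D k⟩ : Σ k, Datum s (I₀ k)) ∈ Tall)]
    exact Ideal.mul_le_right
  obtain ⟨z, hz⟩ := Ideal.mem_span_singleton'.1 (hle (hIB'.symm ▸ Ideal.mem_span_singleton_self _))
  have hb : algebraMap A B' (D k).b ∈ nonZeroDivisors B' := (mul_mem_nonZeroDivisors.1 (hz.symm ▸ hgB')).2
  have hc : algebraMap A B' (D k).c ∈ nonZeroDivisors B' := by
    rw [(D k).hb, map_mul] at hb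
    exact (mul_mem_nonZeroDivisors.1 hb).1
  have hsf : ∀ j ∈ s, algebraMap A B' j ∈ Ideal.span {algebraMap A B' (D k).f} := fun j hj => by
    have h1 : algebraMap A B' ((D k).c * j) ∈ Ideal.span {algebraMap A B' (D k).b} := by
      refine (Ideal.span_le.2 ?_ : Ideal.span ((D k).S : Set A) ≤ (Ideal.span {algebraMap A B' (D k).b}).comap (algebraMap A B')) ((D k).cmem j hj)
      exact fun x hx => hS x hx
    obtain ⟨w, hw⟩ := Ideal.mem_span_singleton'.1 h1
    rw [(D k).hb, map_mul, map_mul, mul_left_comm] at hw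
    exact Ideal.mem_span_singleton'.2 ⟨w, (mul_cancel_left_mem_nonZeroDivisors hc).1 hw⟩
  have hfg' : algebraMap A B' (D k).f ∣ algebraMap B B' g := by
    rw [← Ideal.mem_span_singleton]
    refine (Ideal.map_le_iff_le_comap.2 (Ideal.mul_le_left.trans ?_)) (hIB'.symm ▸ Ideal.mem_span_singleton_self _ :
      algebraMap B B' g ∈ I.map (algebraMap A B'))
    rw [Ideal.span_le]
    exact hsf
  obtain ⟨M, hM⟩ := hIrad (D k).f (D k).fmem
  have hgf : algebraMap B B' g ∣ algebraMap A B' (D k).f ^ M := by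
    rw [← Ideal.mem_span_singleton, ← hIB', ← map_pow]
    exact Ideal.mem_map_of_mem _ hM
  have hSAT : saturation ((I₀ k).map (MvPolynomial.map (algebraMap A B'))) (C (algebraMap B B' g)) =
      saturation ((I₀ k).map (MvPolynomial.map (algebraMap A B'))) (C (algebraMap A B' (D k).f)) :=
    le_antisymm (saturation_le_of_dvd_pow (k := M) _ (by rw [← map_pow]; exact map_dvd _ hgf))
      (saturation_le_of_dvd_pow (k := 1) _ (by rw [pow_one]; exact map_dvd _ hfg'))
  unfold Good
  rw [hSAT]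
  exact (D k).good B' hb hS

end RGFlatLib
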