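import Mathlib
import Groth.Agent.RGFlatLib.Affine
import Groth.Agent.BlowUpLib.Props
import Groth.Agent.BlowUpLib.RegSmooth
import Groth.Agent.ChevLib.Basic

/-!
# Affine pieces of a strict transform
-/

set_option autoImplicit false
set_option maxHeartbeats 1000000

noncomputable section

universe u

open CategoryTheory CategoryTheory.Limits AlgebraicGeometry TensorProduct BlowUpLib

namespace RGFlatLib

/-- The strict transform algebra is the quotient by the saturation. -/
theorem flat_fp_torsion_quotient {A B R : Type u} [CommRing A] [CommRing B] [Algebra A B] [CommRing R] [Algebra A R]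
    {σ : Type u} [Finite σ] (π : MvPolynomial σ A →ₐ[A] R) (hπ : Function.Surjective π) (g : B)
    (h : Good (RingHom.ker π) B g) (K : Ideal (B ⊗[A] R))
    (hK : ∀ a, a ∈ K ↔ ∃ n : ℕ, algebraMap B (B ⊗[A] R) g ^ n * a = 0) :
    Module.Flat B ((B ⊗[A] R) ⧸ K) ∧ Algebra.FinitePresentation B ((B ⊗[A] R) ⧸ K) := by
  obtain ⟨θ, hθ, hθk⟩ := RzLib.UnivOpen.quot_bc π hπ (MvPolynomial.algebraTensorAlgEquiv (σ := σ) A B)
    (MvPolynomial.map (algebraMap A B)) fun x => by rw [MvPolynomial.algebraTensorAlgEquiv_tmul, one_smul]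
  have hker : RingHom.ker ((Ideal.Quotient.mkₐ B K).comp θ) =
      saturation ((RingHom.ker π).map (MvPolynomial.map (algebraMap A B))) (MvPolynomial.C g) := by
    ext w
    rw [RingHom.mem_ker, mem_saturation, ← hθk]
    show Ideal.Quotient.mk K (θ w) = 0 ↔ _
    rw [Ideal.Quotient.eq_zero_iff_mem, hK]
    simp only [RingHom.mem_ker, map_mul, map_pow, ← MvPolynomial.algebraMap_eq, AlgHom.commutes]
  have hsurj : Function.Surjective ((Ideal.Quotient.mkₐ B K).comp θ) := Ideal.Quotient.mk_surjective.comp hθ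
  let e := (Ideal.quotientEquivAlgOfEq B hker.symm).trans (Ideal.quotientKerAlgEquivOfSurjective hsurj)
  haveI := h.2
  haveI : Algebra.FinitePresentation B (MvPolynomial σ B ⧸
      saturation ((RingHom.ker π).map (MvPolynomial.map (algebraMap A B))) (MvPolynomial.C g)) :=
    Algebra.FinitePresentation.quotient h.1
  exact ⟨Module.Flat.of_linearEquiv e.symm.toLinearEquiv, Algebra.FinitePresentation.equiv e⟩

/-- The hypothesis over a basic open, in terms of a presentation. -/
theorem flat_fg_of_localization {A A' R R' : Type u} [CommRing A] [CommRing A'] [CommRing R] [CommRing R']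
    [Algebra A A'] [Algebra A R] [Algebra A R'] [Algebra R R'] [IsScalarTower A R R'] [Algebra A' R']
    [IsScalarTower A A' R'] (f : A) [IsLocalization.Away f A'] [IsLocalization.Away (algebraMap A R f) R']
    [Module.Flat A' R'] [Algebra.FinitePresentation A' R'] {σ : Type u} [Finite σ]
    (π : MvPolynomial σ A →ₐ[A] R) (hπ : Function.Surjective π) :
    Module.Flat (Localization.Away f) (MvPolynomial σ (Localization.Away f) ⧸
      (RingHom.ker π).map (MvPolynomial.map (algebraMap A (Localization.Away f)))) ∧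
    ((RingHom.ker π).map (MvPolynomial.map (algebraMap A (Localization.Away f)))).FG := by
  haveI : IsLocalization (Algebra.algebraMapSubmonoid R (Submonoid.powers f)) R' := by
    rw [Algebra.algebraMapSubmonoid, Submonoid.map_powers]
    assumption
  haveI : Algebra.IsPushout A A' R R' := (Algebra.isPushout_of_isLocalization (Submonoid.powers f) A' R R').symm
  obtain ⟨θ, hθ, hθk⟩ := RzLib.UnivOpen.quot_bc π hπ (MvPolynomial.algebraTensorAlgEquiv (σ := σ) A A')
    (MvPolynomial.map (algebraMap A A')) fun x => by rw [MvPolynomial.algebraTensorAlgEquiv_tmul, one_smul]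
  let e : A' ⊗[A] R ≃ₐ[A'] R' := Algebra.IsPushout.equiv A A' R R'
  have hψk : RingHom.ker (e.toAlgHom.comp θ) = (RingHom.ker π).map (MvPolynomial.map (algebraMap A A')) := by
    rw [← hθk]
    ext w
    simp [RingHom.mem_ker]
  have hψs : Function.Surjective (e.toAlgHom.comp θ) := e.surjective.comp hθ
  have hfg : ((RingHom.ker π).map (MvPolynomial.map (algebraMap A A'))).FG := by
    rw [← hψk]
    exact Algebra.FinitePresentation.ker_fG_of_surjective _ hψs
  haveI : Module.Flat A' (MvPolynomial σ A' ⧸ (RingHom.ker π).map (MvPolynomial.map (algebraMap A A'))) :=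
    Module.Flat.of_linearEquiv ((Ideal.quotientEquivAlgOfEq A' hψk.symm).trans
      (Ideal.quotientKerAlgEquivOfSurjective hψs)).toLinearEquiv
  let j : A' →+* Localization.Away f := (IsLocalization.algEquiv (Submonoid.powers f) A' (Localization.Away f)).toRingHom
  have hj : j.comp (algebraMap A A') = algebraMap A (Localization.Away f) := RingHom.ext fun a =>
    (IsLocalization.algEquiv (Submonoid.powers f) A' (Localization.Away f)).commutes a
  have e2 : (RingHom.ker π).map (MvPolynomial.map (algebraMap A (Localization.Away f))) =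
      ((RingHom.ker π).map (MvPolynomial.map (algebraMap A A'))).map (MvPolynomial.map j) := by
    rw [Ideal.map_map, RichLib.FlatColimit.map_comp', hj]
  rw [e2]
  exact ⟨flat_map j _, hfg.map _⟩

variable {X Y Y' : Scheme.{u}} (f : X ⟶ Y) (b : Y' ⟶ Y)

/-- An affine piece of a base change. -/
theorem exists_bc_piece {X' : Scheme.{u}} {p₁ : X' ⟶ X} {p₂ : X' ⟶ Y'} (hpb : IsPullback p₁ p₂ f b)
    {U : X.Opens} (hU : IsAffineOpen U) {W : Y.Opens}
    (hW : IsAffineOpen W) {V : Y'.Opens} (hV : IsAffineOpen V) (eU : U ≤ f ⁻¹ᵁ W) (eV : V ≤ b ⁻¹ᵁ W) :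
    letI : Algebra Γ(Y, W) Γ(X, U) := (f.appLE W U eU).hom.toAlgebra
    letI : Algebra Γ(Y, W) Γ(Y', V) := (b.appLE W V eV).hom.toAlgebra
    ∃ j : Spec (CommRingCat.of (Γ(Y', V) ⊗[Γ(Y, W)] Γ(X, U))) ⟶ X', IsOpenImmersion j ∧
      (∀ x, p₁ x ∈ U → p₂ x ∈ V → x ∈ Set.range j) ∧
      j ≫ p₂ = Spec.map (CommRingCat.ofHom (algebraMap Γ(Y', V) (Γ(Y', V) ⊗[Γ(Y, W)] Γ(X, U)))) ≫ hV.fromSpec := by
  letI : Algebra Γ(Y, W) Γ(X, U) := (f.appLE W U eU).hom.toAlgebra
  letI : Algebra Γ(Y, W) Γ(Y', V) := (b.appLE W V eV).hom.toAlgebra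
  let j₀ := pullback.map (Spec.map (f.appLE W U eU)) (Spec.map (b.appLE W V eV)) f b hU.fromSpec hV.fromSpec
    hW.fromSpec (IsAffineOpen.SpecMap_appLE_fromSpec f hW hU eU) (IsAffineOpen.SpecMap_appLE_fromSpec b hW hV eV)
  let j₁ : Spec (CommRingCat.of (Γ(Y', V) ⊗[Γ(Y, W)] Γ(X, U))) ⟶ pullback f b :=
    ((pullbackSpecIso Γ(Y, W) Γ(Y', V) Γ(X, U)).inv ≫ (pullbackSymmetry _ _).hom) ≫ j₀
  haveI : IsOpenImmersion j₀ := inferInstance
  haveI : IsOpenImmersion j₁ := inferInstance
  have hj : j₁ ≫ pullback.snd f b =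
      Spec.map (CommRingCat.ofHom (algebraMap Γ(Y', V) (Γ(Y', V) ⊗[Γ(Y, W)] Γ(X, U)))) ≫ hV.fromSpec := by
    simp only [j₁, j₀, Category.assoc]
    rw [show pullback.map (Spec.map (f.appLE W U eU)) (Spec.map (b.appLE W V eV)) f b hU.fromSpec hV.fromSpec
      hW.fromSpec (IsAffineOpen.SpecMap_appLE_fromSpec f hW hU eU) (IsAffineOpen.SpecMap_appLE_fromSpec b hW hV eV) ≫
        pullback.snd f b = pullback.snd _ _ ≫ hV.fromSpec from pullback.lift_snd _ _ _]
    erw [pullbackSymmetry_hom_comp_snd_assoc]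
    exact pullbackSpecIso_inv_fst_assoc _ _ _ _
  refine ⟨j₁ ≫ hpb.isoPullback.inv, inferInstance, fun x hx1 hx2 => ?_, ?_⟩
  · have hr : Set.range j₁ = Set.range j₀ := by
      show Set.range (((pullbackSpecIso Γ(Y, W) Γ(Y', V) Γ(X, U)).inv ≫ (pullbackSymmetry _ _).hom) ≫ j₀) = _
      rw [Scheme.Hom.comp_base, TopCat.coe_comp, Set.range_comp,
        Set.range_eq_univ.mpr (Scheme.Hom.surjective _), Set.image_univ]
    have hx : hpb.isoPullback.hom x ∈ Set.range j₁ := by
      rw [hr, Scheme.Pullback.range_map]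
      refine ⟨?_, ?_⟩
      · rw [Set.mem_preimage, hU.range_fromSpec, ← Scheme.Hom.comp_apply, hpb.isoPullback_hom_fst]; exact hx1
      · rw [Set.mem_preimage, hV.range_fromSpec, ← Scheme.Hom.comp_apply, hpb.isoPullback_hom_snd]; exact hx2
    obtain ⟨z, hz⟩ := hx
    refine ⟨z, ?_⟩
    rw [Scheme.Hom.comp_apply, hz, ← Scheme.Hom.comp_apply, Iso.hom_inv_id]
    rfl
  · rw [Category.assoc, hpb.isoPullback_inv_snd, hj]

/-- The ideal of elements killed by a power of `G`, pulled back to an affine piece. -/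
theorem comap_eq_specIdeal {X' : Scheme.{u}} {P : Type u} [CommRing P] (j : Spec (CommRingCat.of P) ⟶ X')
    [IsOpenImmersion j] (𝓔 𝒥 : X'.IdealSheafData) (G : P) (h𝓔 : 𝓔.comap j = specIdeal (Ideal.span {G}))
    (h𝒥 : ∀ (V : X'.affineOpens) (a : Γ(X', V.1)), a ∈ 𝒥.ideal V ↔
      BlowUp.KilledByPowerNear 𝓔 (Coh.structureModule X') V a) :
    𝒥.comap j = specIdeal (saturation (⊥ : Ideal P) G) := by
  refine Scheme.IdealSheafData.ext_of_isAffine ?_
  rw [specIdeal_top, Scheme.IdealSheafData.ideal_comap_of_isOpenImmersion]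
  let V : X'.affineOpens := ⟨j ''ᵁ ⊤, (isAffineOpen_top _).image_of_isOpenImmersion j⟩
  let e : P →+* Γ(Spec (CommRingCat.of P), ⊤) := (Scheme.ΓSpecIso (CommRingCat.of P)).inv.hom
  have he : Function.Bijective e := ConcreteCategory.bijective_of_isIso _
  let s : Γ(Spec (CommRingCat.of P), ⊤) →+* Γ(X', V.1) := (j.appIso ⊤).inv.hom
  have hs : Function.Bijective s := ConcreteCategory.bijective_of_isIso _
  have h1 : (𝓔.ideal V).comap s = Ideal.span {e G} := by
    have := congrArg (fun I : (Spec (CommRingCat.of P)).IdealSheafData => I.ideal ⟨⊤, isAffineOpen_top _⟩) h𝓔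
    simp only [specIdeal_top, Scheme.IdealSheafData.ideal_comap_of_isOpenImmersion, Ideal.map_span,
      Set.image_singleton] at this
    exact this
  have h2 : 𝓔.ideal V = Ideal.span {s (e G)} := by
    rw [← Set.image_singleton, ← Ideal.map_span, ← h1, Ideal.map_comap_of_surjective _ hs.2]
  show (𝒥.ideal V).comap s = _
  ext z
  obtain ⟨a, rfl⟩ := he.2 z
  have h3 : s (e a) ∈ 𝒥.ideal V ↔ ∃ n : ℕ, G ^ n * a = 0 := by
    rw [h𝒥]
    refine exists_congr fun n => ?_
    rw [show (𝓔 ^ n).ideal V = Ideal.span {s (e (G ^ n))} by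
      rw [Scheme.IdealSheafData.ideal_pow, Pi.pow_apply, h2, Ideal.span_singleton_pow, map_pow, map_pow]]
    constructor
    · intro h
      refine he.1 (hs.1 ?_)
      rw [map_mul, map_mul, map_zero, map_zero]
      exact h _ (Ideal.mem_span_singleton_self _)
    · intro h x hx
      obtain ⟨c, rfl⟩ := Ideal.mem_span_singleton'.1 hx
      show c * s (e (G ^ n)) * s (e a) = 0
      rw [mul_assoc, ← map_mul, ← map_mul, h, map_zero, map_zero, mul_zero]
  show s (e a) ∈ 𝒥.ideal V ↔ e a ∈ Ideal.map e _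
  rw [h3]
  refine Iff.trans ?_ (Ideal.mem_map_iff_of_surjective e he.2).symm
  simp only [mem_saturation, Ideal.mem_bot]
  exact ⟨fun h => ⟨a, h, rfl⟩, fun ⟨x, hx, hxa⟩ => he.1 hxa ▸ hx⟩

/-- A property local at the source on an affine piece of a closed subscheme. -/
theorem prop_piece (Q : MorphismProperty Scheme.{u}) [Q.IsStableUnderComposition] [Q.RespectsIso]
    {P T : Scheme.{u}} {O S : Type u} [CommRing O] [CommRing S] [Algebra O S]
    (s : P ⟶ T) (𝒦 : P.IdealSheafData) (j : Spec (CommRingCat.of S) ⟶ P) (v : Spec (CommRingCat.of O) ⟶ T)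
    [IsOpenImmersion j] (hv : Q v)
    (hj : j ≫ s = Spec.map (CommRingCat.ofHom (algebraMap O S)) ≫ v) (J : Ideal S)
    (hJ : 𝒦.comap j = specIdeal J) (hQ : Q (Spec.map (CommRingCat.ofHom (algebraMap O (S ⧸ J))))) :
    Q (pullback.fst 𝒦.subschemeι j ≫ 𝒦.subschemeι ≫ s) := by
  let q := Spec.map (CommRingCat.ofHom (Ideal.Quotient.mk J))
  haveI : IsClosedImmersion q := IsClosedImmersion.spec_of_surjective _ Ideal.Quotient.mk_surjective
  have hk : q.ker = (pullback.fst j 𝒦.subschemeι).ker := by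
    rw [Scheme.IdealSheafData.ker_fst_of_isClosedImmersion, Scheme.IdealSheafData.ker_subschemeι, hJ,
      ker_SpecMap_mk]
  let m := IsClosedImmersion.lift q (pullback.fst j 𝒦.subschemeι) hk.le
  haveI : IsIso m := IsClosedImmersion.isIso_lift q (pullback.fst j 𝒦.subschemeι) hk
  have hm : m ≫ q = pullback.fst j 𝒦.subschemeι := IsClosedImmersion.lift_fac _ _ _
  have e : pullback.fst 𝒦.subschemeι j ≫ 𝒦.subschemeι ≫ s =
      ((pullbackSymmetry _ _).hom ≫ m) ≫ Spec.map (CommRingCat.ofHom (algebraMap O (S ⧸ J))) ≫ v := by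
    rw [pullback.condition_assoc, hj, Category.assoc]
    have e2 : Spec.map (CommRingCat.ofHom (algebraMap O (S ⧸ J))) =
        q ≫ Spec.map (CommRingCat.ofHom (algebraMap O S)) := by
      rw [← Spec.map_comp, ← CommRingCat.ofHom_comp]
    rw [e2, Category.assoc, reassoc_of% hm]
    try rw [pullbackSymmetry_hom_comp_fst_assoc]
  rw [e, MorphismProperty.cancel_left_of_respectsIso Q]
  exact Q.comp_mem _ _ hQ hv

/-- A property stable under base change descends to a morphism of affine pieces. -/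
theorem prop_appLE (Q : MorphismProperty Scheme.{u}) [Q.IsStableUnderBaseChange] {D : Y.Opens}
    (hD : IsAffineOpen D) {D' : X.Opens} (hD' : IsAffineOpen D') (e : D' ≤ f ⁻¹ᵁ D)
    (h : Q (hD'.fromSpec ≫ f)) : Q (Spec.map (f.appLE D D' e)) := by
  have hc : hD'.fromSpec ≫ f = Spec.map (f.appLE D D' e) ≫ hD.fromSpec :=
    (IsAffineOpen.SpecMap_appLE_fromSpec f hD hD' e).symm
  rw [hc] at h
  have hmono : IsPullback (𝟙 (Spec Γ(Y, D))) (𝟙 (Spec Γ(Y, D))) hD.fromSpec hD.fromSpec :=
    IsPullback.of_isLimit' ⟨rfl⟩ (PullbackCone.isLimitMkIdId hD.fromSpec)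
  have h4 : IsPullback (Spec.map (f.appLE D D' e)) (𝟙 _) (𝟙 _) (Spec.map (f.appLE D D' e)) :=
    IsPullback.of_vert_isIso ⟨by simp⟩
  have h5 := h4.paste_horiz hmono
  erw [Category.comp_id] at h5
  exact MorphismProperty.of_isPullback h5.flip h

end RGFlatLib
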