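import Mathlib
import Groth.Agent.RGFlatLib.Piece
import Groth.Agent.FlatLib.SliceMore

/-!
# Keeping the closure of a fibrewise nowhere dense set away from the generic points of fibres
-/

set_option autoImplicit false
set_option maxHeartbeats 1000000

noncomputable section

universe u

open TensorProduct

namespace RGFlatLib

/-- An element nonzero on every fibre, with integral fibres, is regular and has a flat quotient. -/
theorem regular_flat_fp_of_fields {A R : Type u} [CommRing A] [CommRing R] [Algebra A R] [Module.Flat A R]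
    [Algebra.FinitePresentation A R] (a : R) (A' : Type u) [CommRing A'] [Algebra A A']
    (h : ∀ (K : Type u) [Field K] [Algebra A' K] [Algebra A K] [IsScalarTower A A' K],
      IsDomain (K ⊗[A] R) ∧ (1 : K) ⊗ₜ[A] a ≠ 0) :
    IsSMulRegular (A' ⊗[A] R) ((1 : A') ⊗ₜ[A] a) ∧ Module.Flat A' (A' ⊗[A] (R ⧸ Ideal.span {a})) ∧
      Algebra.FinitePresentation A' (A' ⊗[A] (R ⧸ Ideal.span {a})) := by
  let B := A' ⊗[A] R
  let a' : B := (1 : A') ⊗ₜ a
  have hreg : ∀ (p : Ideal A') [p.IsPrime],
      IsSMulRegular ((B ⊗[A'] p.ResidueField) ⊗[B] B) (a' ⊗ₜ[A'] (1 : p.ResidueField)) := by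
    intro p _
    let K := p.ResidueField
    obtain ⟨hd, hne⟩ := h K
    let ψ : B ⊗[A'] K ≃+* K ⊗[A] R :=
      (Algebra.TensorProduct.comm A' B K).toRingEquiv.trans
        (Algebra.TensorProduct.cancelBaseChange A A' A' K R).toRingEquiv
    have hψ : ψ (a' ⊗ₜ[A'] (1 : K)) = (1 : K) ⊗ₜ[A] a := by
      show Algebra.TensorProduct.cancelBaseChange A A' A' K R (Algebra.TensorProduct.comm A' B K (a' ⊗ₜ 1)) = _
      rw [Algebra.TensorProduct.comm_tmul, Algebra.TensorProduct.cancelBaseChange_tmul, one_smul]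
    haveI : IsDomain (B ⊗[A'] K) := MulEquiv.isDomain (K ⊗[A] R) ψ.toMulEquiv
    have hne' : a' ⊗ₜ[A'] (1 : K) ≠ 0 := fun h0 => hne (by rw [← hψ, h0, map_zero])
    intro x y hxy
    refine (AlgebraTensorModule.rid B (B ⊗[A'] K) (B ⊗[A'] K)).injective (mul_left_cancel₀ hne' ?_)
    have := congrArg (AlgebraTensorModule.rid B (B ⊗[A'] K) (B ⊗[A'] K)) hxy
    simpa only [map_smul, smul_eq_mul] using this
  refine ⟨FlatLib.isSMulRegular_of_fibres (A := A') (M := B) a' hreg, ?_⟩
  let I : Ideal R := Ideal.span {a}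
  obtain ⟨hΦ, hΦker⟩ := RzLib.UnivOpen.surj_bc (W := A') (Ideal.Quotient.mkₐ A I) Ideal.Quotient.mk_surjective
  let Φ := Algebra.TensorProduct.map (AlgHom.id A' A') (Ideal.Quotient.mkₐ A I)
  have hker : RingHom.ker Φ = Ideal.span {a'} := by
    refine hΦker.trans ?_
    rw [show RingHom.ker (Ideal.Quotient.mkₐ A I) = I from Ideal.Quotient.mkₐ_ker A I, Ideal.map_span, Set.image_singleton]
    rfl
  let e : (B ⧸ Ideal.span {a'}) ≃ₐ[A'] A' ⊗[A] (R ⧸ I) :=
    (Ideal.quotientEquivAlgOfEq A' hker.symm).trans (Ideal.quotientKerAlgEquivOfSurjective hΦ)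
  haveI : Module.Flat A' (B ⧸ Ideal.span {a'}) := by
    have h1 := FlatLib.flat_quotient_of_fibres (A := A') (M := B) a' hreg
    rwa [smul_eq_mul, Ideal.mul_top] at h1
  haveI : Algebra.FinitePresentation A' (B ⧸ Ideal.span {a'}) :=
    Algebra.FinitePresentation.quotient (Submodule.fg_span_singleton a')
  exact ⟨Module.Flat.of_linearEquiv e.symm.toLinearEquiv, Algebra.FinitePresentation.equiv e⟩

/-- the universal combination of finitely many elements -/
def combi {B : Type u} [CommRing B] {ι : Type u} [Fintype ι] (h : ι → B) : MvPolynomial ι B :=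
  ∑ i, MvPolynomial.C (h i) * MvPolynomial.X i

theorem coeff_combi {B : Type u} [CommRing B] {ι : Type u} [Fintype ι] [DecidableEq ι] (h : ι → B) (i : ι) :
    (combi h).coeff (Finsupp.single i 1) = h i := by
  rw [combi, MvPolynomial.coeff_sum, Finset.sum_eq_single i]
  · simp [MvPolynomial.coeff_C_mul, MvPolynomial.coeff_X']
  · intro j _ hj
    rw [MvPolynomial.coeff_C_mul, MvPolynomial.coeff_X', if_neg, mul_zero]
    exact fun h => hj (Finsupp.single_left_injective one_ne_zero h)
  · exact fun h => absurd (Finset.mem_univ i) h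

theorem combi_fields {A B : Type u} [CommRing A] [CommRing B] [Algebra A B] {ι : Type u} [Fintype ι] (h : ι → B)
    (K : Type u) [Field K] [Algebra A K] (hd : IsDomain (K ⊗[A] B)) (hne : ∃ i, (1 : K) ⊗ₜ[A] h i ≠ 0) :
    IsDomain (K ⊗[A] MvPolynomial ι B) ∧ (1 : K) ⊗ₜ[A] combi h ≠ 0 := by
  classical
  let e : K ⊗[A] MvPolynomial ι B ≃ₐ[K] MvPolynomial ι (K ⊗[A] B) := MvPolynomial.rTensorAlgEquiv
  refine ⟨MulEquiv.isDomain (MvPolynomial ι (K ⊗[A] B)) e.toRingEquiv.toMulEquiv, fun h0 => ?_⟩
  obtain ⟨i, hi⟩ := hne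
  have h1 := congrArg (fun z => MvPolynomial.coeff (Finsupp.single i 1) (e z)) h0
  simp only [e, MvPolynomial.coeff_rTensorAlgEquiv_tmul, map_zero, MvPolynomial.coeff_zero, coeff_combi] at h1
  exact hi h1

/-- the extension of a prime to an algebra with integral fibres is prime and lies over it -/
theorem isPrime_map_of_fibre {T C : Type u} [CommRing T] [CommRing C] [Algebra T C] [Module.Flat T C]
    (p : Ideal T) [p.IsPrime] (hd : IsDomain (p.ResidueField ⊗[T] C)) :
    (p.map (algebraMap T C)).IsPrime ∧ (p.map (algebraMap T C)).comap (algebraMap T C) = p := by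
  let φ : C →ₐ[T] p.ResidueField ⊗[T] C := Algebra.TensorProduct.includeRight
  have hker : RingHom.ker φ = p.map (algebraMap T C) := by
    refine le_antisymm (fun c hc => ?_) (Ideal.map_le_iff_le_comap.2 fun t ht => ?_)
    · have hinj : Function.Injective
          ((Algebra.linearMap (T ⧸ p) p.ResidueField).restrictScalars T |>.rTensor C) :=
        Module.Flat.rTensor_preserves_injective_linearMap _ (Ideal.injective_algebraMap_quotient_residueField p)
      have h0 : ((1 : T ⧸ p) ⊗ₜ[T] c) = 0 := hinj (by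
        rw [LinearMap.rTensor_tmul, map_zero]
        show algebraMap (T ⧸ p) p.ResidueField 1 ⊗ₜ[T] c = 0
        rw [map_one]; exact hc)
      have h1 := congrArg (TensorProduct.quotTensorEquivQuotSMul C p) h0
      rw [TensorProduct.quotTensorEquivQuotSMul_mk_one_tmul, map_zero, Submodule.Quotient.mk_eq_zero] at h1
      rw [Ideal.smul_top_eq_map] at h1
      exact h1
    · show φ (algebraMap T C t) = 0
      rw [AlgHom.commutes, Algebra.TensorProduct.algebraMap_apply, Ideal.algebraMap_residueField_eq_zero.mpr ht,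
        zero_tmul]
  rw [← hker]
  haveI := hd
  refine ⟨RingHom.ker_isPrime φ, ?_⟩
  ext t
  rw [Ideal.mem_comap, RingHom.mem_ker, AlgHom.commutes]
  constructor
  · intro h0
    refine Ideal.algebraMap_residueField_eq_zero.1 ?_
    refine (algebraMap p.ResidueField (p.ResidueField ⊗[T] C)).injective ?_
    rw [map_zero, ← IsScalarTower.algebraMap_apply]
    exact h0
  · intro ht
    rw [IsScalarTower.algebraMap_apply T p.ResidueField, Ideal.algebraMap_residueField_eq_zero.mpr ht, map_zero]

/-- in a flat algebra, a kernel with flat quotient meets the extension of an ideal in its product -/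
theorem le_map_mul_of_flat {T R : Type u} [CommRing T] [CommRing R] [Algebra T R] (J : Ideal R)
    [Module.Flat T (R ⧸ J)] (p : Ideal T) (h : J ≤ p.map (algebraMap T R)) :
    J ≤ p.map (algebraMap T R) * J := by
  intro x hx
  have hx' : x ∈ (p • ⊤ : Submodule T R) := by rw [Ideal.smul_top_eq_map]; exact h hx
  obtain ⟨r, hr, rfl⟩ : ∃ r : R →₀ T, (∀ y, r y ∈ p) ∧ r.sum (fun y t => t • y) = x := by
    refine Submodule.smul_induction_on hx' (fun t ht y _ => ?_) ?_
    · classical
      refine ⟨Finsupp.single y t, fun z => ?_, Finsupp.sum_single_index (zero_smul T y)⟩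
      rw [Finsupp.single_apply]; split_ifs
      · exact ht
      · exact zero_mem p
    · rintro _ _ ⟨r, hr, rfl⟩ ⟨r', hr', rfl⟩
      exact ⟨r + r', fun y => add_mem (hr y) (hr' y),
        Finsupp.sum_add_index' (fun y => zero_smul T y) fun y => fun a b => add_smul a b y⟩
  let m : r.support → R ⧸ J := fun y => Ideal.Quotient.mk J y.1
  have h0 : ∑ y : r.support, r y.1 • m y = 0 := by
    have h1 : Ideal.Quotient.mkₐ T J (r.sum fun y t => t • y) = 0 := Ideal.Quotient.eq_zero_iff_mem.2 hx
    rw [Finsupp.sum, map_sum, ← Finset.sum_coe_sort] at h1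
    refine Eq.trans (Finset.sum_congr rfl fun y _ => ?_) h1
    rw [map_smul]; rfl
  obtain ⟨k, a, z, hm, ha⟩ := Module.Flat.isTrivialRelation_of_sum_smul_eq_zero (R := T) (M := R ⧸ J)
    (f := fun y : r.support => r y.1) (x := m) h0
  choose w hw using fun j => Ideal.Quotient.mk_surjective (I := J) (z j)
  have hk : ∀ y : r.support, y.1 - ∑ j, a y j • w j ∈ J := fun y => by
    rw [← Ideal.Quotient.eq_zero_iff_mem, map_sub, map_sum, sub_eq_zero]
    refine (hm y).trans (Finset.sum_congr rfl fun j _ => ?_)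
    rw [← hw j]
    exact (map_smul (Ideal.Quotient.mkₐ T J) (a y j) (w j)).symm
  have hx2 : (r.sum fun y t => t • y) = ∑ y : r.support, r y.1 • (y.1 - ∑ j, a y j • w j) := by
    rw [Finsupp.sum, ← Finset.sum_coe_sort]
    simp only [smul_sub, Finset.sum_sub_distrib, Finset.smul_sum, smul_smul]
    have : ∑ y : r.support, ∑ j, (r y.1 * a y j) • w j = 0 := by
      rw [Finset.sum_comm]
      refine Finset.sum_eq_zero fun j _ => ?_
      rw [← Finset.sum_smul, ha j, zero_smul]
    rw [this, sub_zero]
  rw [hx2]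
  refine Ideal.sum_mem _ fun y _ => ?_
  rw [Algebra.smul_def]
  exact Ideal.mul_mem_mul (Ideal.mem_map_of_mem _ (hr y.1)) (hk y)

/-- the avoiding function -/
theorem exists_avoid {A B T C : Type u} [CommRing A] [CommRing B] [CommRing T] [CommRing C] [Algebra A B]
    [Algebra A T] [Algebra A C] [Algebra T C] [Algebra B C] [IsScalarTower A T C] [IsScalarTower A B C]
    [Algebra.IsPushout A T B C] [Module.Flat A B] [Algebra.FinitePresentation A B] (s : Finset A)
    {ι : Type u} [Fintype ι] (h : ι → B)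
    (hd : ∀ (K : Type u) [Field K] [Algebra A K], IsDomain (K ⊗[A] B))
    (hne : ∀ j ∈ s, ∀ (K : Type u) [Field K] [Algebra A K], algebraMap A K j ≠ 0 →
      ∃ i, (1 : K) ⊗ₜ[A] h i ≠ 0)
    {τ : Type u} [Finite τ] (π : MvPolynomial τ A →ₐ[A] MvPolynomial ι B ⧸ Ideal.span {combi h})
    (hπ : Function.Surjective π) (g : T) (hg : g ∈ nonZeroDivisors T)
    (hgs : g ∈ (Ideal.span (s : Set A)).map (algebraMap A T)) (hG : Good (RingHom.ker π) T g)
    (p : Ideal T) [p.IsPrime] :
    ∃ c : C, c ∉ p.map (algebraMap T C) ∧ ∀ P : Ideal C, P.IsPrime → algebraMap T C g ∉ P → c ∉ P →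
      ∃ i, algebraMap B C (h i) ∉ P := by
  classical
  let R := MvPolynomial ι B
  let a := combi h
  let R' := T ⊗[A] R
  let G : R' := algebraMap T R' g
  let a' : R' := (1 : T) ⊗ₜ a
  let Q := R ⧸ Ideal.span {a}
  let K : Ideal (T ⊗[A] Q) := saturation (⊥ : Ideal (T ⊗[A] Q)) ((Algebra.TensorProduct.includeLeft : T →ₐ[T] T ⊗[A] Q) g)
  obtain ⟨hflat, hfp⟩ := flat_fp_torsion_quotient π hπ g hG K fun z => by
    simp only [K, mem_saturation, Ideal.mem_bot]
    rfl
  obtain ⟨hΦ, hΦker⟩ := RzLib.UnivOpen.surj_bc (W := T) (Ideal.Quotient.mkₐ A (Ideal.span {a})) Ideal.Quotient.mk_surjective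
  have hker : RingHom.ker (Algebra.TensorProduct.map (AlgHom.id T T) (Ideal.Quotient.mkₐ A (Ideal.span {a}))) =
      Ideal.span {a'} := by
    refine hΦker.trans ?_
    rw [show RingHom.ker (Ideal.Quotient.mkₐ A (Ideal.span {a})) = Ideal.span {a} from Ideal.Quotient.mkₐ_ker A _,
      Ideal.map_span, Set.image_singleton]
    rfl
  let Φ := (Ideal.Quotient.mkₐ T K).comp (Algebra.TensorProduct.map (AlgHom.id T T) (Ideal.Quotient.mkₐ A (Ideal.span {a})))
  have hΦs : Function.Surjective Φ := Ideal.Quotient.mk_surjective.comp hΦ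
  let J : Ideal R' := RingHom.ker Φ
  have hJ : ∀ w, w ∈ J ↔ ∃ n : ℕ, G ^ n * w ∈ Ideal.span {a'} := fun w => by
    show Ideal.Quotient.mk K (Algebra.TensorProduct.map (AlgHom.id T T) (Ideal.Quotient.mkₐ A (Ideal.span {a})) w) = 0 ↔ _
    rw [Ideal.Quotient.eq_zero_iff_mem, mem_saturation]
    refine exists_congr fun n => ?_
    rw [← hker, RingHom.mem_ker, Ideal.mem_bot, map_mul, map_pow]
    refine iff_of_eq (congrArg (fun z => z ^ n * _ = 0) ?_)
    exact (AlgHom.commutes (Algebra.TensorProduct.map (AlgHom.id T T) (Ideal.Quotient.mkₐ A (Ideal.span {a}))) g).symm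
  haveI := hfp
  haveI := hflat
  haveI : Algebra.FinitePresentation A R := Algebra.FinitePresentation.trans A B R
  haveI : Module.Flat A R := Module.Flat.trans A B R
  have hJfg : J.FG := Algebra.FinitePresentation.ker_fG_of_surjective Φ hΦs
  haveI : Module.Flat T (R' ⧸ J) :=
    Module.Flat.of_linearEquiv (Ideal.quotientKerAlgEquivOfSurjective hΦs).toLinearEquiv
  let eC : T ⊗[A] B ≃ₐ[T] C := Algebra.IsPushout.equiv A T B C
  let eR : R' ≃ₐ[T] MvPolynomial ι (T ⊗[A] B) := MvPolynomial.rTensorAlgEquiv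
  -- the generic point of the fibre
  haveI hflatC : Module.Flat T (T ⊗[A] B) := inferInstance
  have hpK : IsDomain (p.ResidueField ⊗[T] (T ⊗[A] B)) :=
    MulEquiv.isDomain (p.ResidueField ⊗[A] B)
      (Algebra.TensorProduct.cancelBaseChange A T T p.ResidueField B).toRingEquiv.toMulEquiv
  obtain ⟨hprime, -⟩ := isPrime_map_of_fibre (T := T) (C := T ⊗[A] B) p hpK
  let pR : Ideal R' := p.map (algebraMap T R')
  have hpR : ∀ w : R', w ∈ pR ↔ ∀ m, (eR w).coeff m ∈ p.map (algebraMap T (T ⊗[A] B)) := fun w => by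
    have e1 : pR.map eR.toAlgHom.toRingHom = (p.map (algebraMap T (T ⊗[A] B))).map MvPolynomial.C := by
      rw [Ideal.map_map, Ideal.map_map]
      congr 1
      exact RingHom.ext fun t => by
        show eR (algebraMap T R' t) = _
        rw [AlgEquiv.commutes]; rfl
    rw [← MvPolynomial.mem_map_C_iff, ← e1]
    refine ⟨fun hw => Ideal.mem_map_of_mem _ hw, fun hw => ?_⟩
    obtain ⟨w', hw', e⟩ := (Ideal.mem_map_iff_of_surjective eR.toAlgHom.toRingHom eR.surjective).1 hw
    rwa [← eR.injective e]
  by_cases hle : J ≤ pR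
  · exfalso
    obtain ⟨r, hr, hrJ⟩ := Submodule.exists_sub_one_mem_and_smul_eq_zero_of_fg_of_le_smul pR J hJfg
      (by rw [smul_eq_mul]; exact le_map_mul_of_flat J p hle)
    have hra : r * a' = 0 := hrJ a' ((hJ a').2 ⟨0, by rw [pow_zero, one_mul]; exact Ideal.mem_span_singleton_self a'⟩)
    -- `r` is killed by a power of every member of `s`
    have hj : ∀ j ∈ s, ∃ N : ℕ, algebraMap A R' j ^ N * r = 0 := by
      intro j hj
      let Tj := Localization.Away (algebraMap A T j)
      obtain ⟨hreg, -, -⟩ := regular_flat_fp_of_fields a Tj fun F _ _ _ _ => combi_fields h F (hd F) (hne j hj F (by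
        rw [IsScalarTower.algebraMap_apply A Tj F, IsScalarTower.algebraMap_apply A T Tj]
        exact ((IsLocalization.Away.algebraMap_isUnit (algebraMap A T j)).map (algebraMap Tj F)).ne_zero))
      let l := AlgebraTensorModule.rTensor A R (Algebra.linearMap T Tj)
      haveI : IsLocalizedModule (Submonoid.powers (algebraMap A T j)) (Algebra.linearMap T Tj) :=
        (isLocalizedModule_iff_isLocalization' _ Tj).mpr inferInstance
      let ρ : R' →ₐ[A] Tj ⊗[A] R := Algebra.TensorProduct.map (IsScalarTower.toAlgHom A T Tj) (AlgHom.id A R)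
      have hρl : ∀ z, ρ z = l z := fun z => by
        induction z using TensorProduct.induction_on with
        | zero => rw [map_zero, map_zero]
        | add x y hx hy => rw [map_add, map_add, hx, hy]
        | tmul x y => rfl
      have h0 : l r = 0 := by
        rw [← hρl]
        refine hreg ?_
        show ((1 : Tj) ⊗ₜ[A] a) • ρ r = ((1 : Tj) ⊗ₜ[A] a) • (0 : Tj ⊗[A] R)
        rw [smul_zero, smul_eq_mul, show ((1 : Tj) ⊗ₜ[A] a) = ρ a' by
          show _ = (IsScalarTower.toAlgHom A T Tj 1) ⊗ₜ[A] a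
          rw [map_one], ← map_mul, mul_comm, hra,
          map_zero]
      obtain ⟨⟨_, N, rfl⟩, hN⟩ := (IsLocalizedModule.eq_zero_iff (Submonoid.powers (algebraMap A T j)) l).1 h0
      refine ⟨N, ?_⟩
      rw [IsScalarTower.algebraMap_apply A T R', ← map_pow, ← Algebra.smul_def]
      exact hN
    let An : Ideal R' := Submodule.colon (⊥ : Ideal R') ({r} : Set R')
    have hgA : algebraMap T R' g ∈ An.radical := by
      have h1 : (Ideal.span (s : Set A)).map (algebraMap A R') ≤ An.radical := by
        rw [Ideal.map_span, Ideal.span_le]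
        rintro _ ⟨j, hj', rfl⟩
        obtain ⟨N, hN⟩ := hj j hj'
        exact ⟨N, Submodule.mem_colon_singleton.2 ((Submodule.mem_bot R').2 hN)⟩
      refine h1 ?_
      rw [IsScalarTower.algebraMap_eq A T R', ← Ideal.map_map]
      exact Ideal.mem_map_of_mem _ hgs
    obtain ⟨M, hM⟩ := hgA
    have hr0 : r = 0 := by
      refine Module.Flat.isSMulRegular_of_nonZeroDivisors (M := R') (pow_mem hg M) ?_
      show g ^ M • r = g ^ M • 0
      rw [smul_zero]
      refine (Algebra.smul_def (g ^ M) r).trans ?_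
      rw [map_pow]
      exact (Submodule.mem_bot R').1 (Submodule.mem_colon_singleton.1 hM)
    have h1 : (1 : R') ∈ pR := by
      rw [hr0, zero_sub] at hr
      exact neg_mem_iff.1 hr
    have h2 := (hpR 1).1 h1 0
    rw [map_one, MvPolynomial.coeff_zero_one] at h2
    exact hprime.ne_top ((Ideal.eq_top_iff_one _).2 h2)
  · obtain ⟨u, huJ, hu⟩ := SetLike.not_le_iff_exists.1 hle
    rw [hpR, not_forall] at hu
    obtain ⟨m, hm⟩ := hu
    obtain ⟨n, hn⟩ := (hJ u).1 huJ
    let hs : Ideal (T ⊗[A] B) := Ideal.span (Set.range fun i => (1 : T) ⊗ₜ[A] h i)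
    have hsa : eR a' ∈ hs.map MvPolynomial.C := by
      rw [MvPolynomial.mem_map_C_iff]
      intro d
      show MvPolynomial.coeff d (eR ((1 : T) ⊗ₜ[A] a)) ∈ hs
      erw [MvPolynomial.coeff_rTensorAlgEquiv_tmul]
      rw [show a = ∑ i, MvPolynomial.C (h i) * MvPolynomial.X i from rfl, MvPolynomial.coeff_sum, tmul_sum]
      refine Ideal.sum_mem _ fun i _ => ?_
      rw [MvPolynomial.coeff_C_mul, show (1 : T) ⊗ₜ[A] (h i * (MvPolynomial.X i : R).coeff d) =
        ((1 : T) ⊗ₜ[A] h i) * ((1 : T) ⊗ₜ[A] (MvPolynomial.X i : R).coeff d) by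
          rw [Algebra.TensorProduct.tmul_mul_tmul, one_mul]]
      exact Ideal.mul_mem_right _ _ (Ideal.subset_span ⟨i, rfl⟩)
    have hmem : algebraMap T (T ⊗[A] B) g ^ n * (eR u).coeff m ∈ hs := by
      have h1 : eR (G ^ n * u) ∈ hs.map MvPolynomial.C := by
        obtain ⟨w, hw⟩ := Ideal.mem_span_singleton'.1 hn
        rw [← hw, map_mul]
        exact Ideal.mul_mem_left _ _ hsa
      have h2 := MvPolynomial.mem_map_C_iff.1 h1 m
      rw [map_mul, map_pow, AlgEquiv.commutes, show algebraMap T (MvPolynomial ι (T ⊗[A] B)) g =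
        MvPolynomial.C (algebraMap T (T ⊗[A] B) g) from rfl, ← map_pow, MvPolynomial.coeff_C_mul] at h2
      exact h2
    refine ⟨eC ((eR u).coeff m), fun hc => hm ?_, fun P hP hgP hcP => ?_⟩
    · have h1 : p.map (algebraMap T C) = (p.map (algebraMap T (T ⊗[A] B))).map eC.toAlgHom.toRingHom := by
        rw [Ideal.map_map]; congr 1
        exact (RingHom.ext fun t => eC.commutes t).symm
      rw [h1] at hc
      obtain ⟨x, hx, e⟩ := (Ideal.mem_map_iff_of_surjective eC.toAlgHom.toRingHom eC.surjective).1 hc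
      rwa [← eC.injective e]
    · by_contra hall
      simp only [not_exists, not_not] at hall
      have hle' : hs.map eC.toAlgHom.toRingHom ≤ P := by
        rw [Ideal.map_span, Ideal.span_le]
        rintro _ ⟨_, ⟨i, rfl⟩, rfl⟩
        show eC ((1 : T) ⊗ₜ[A] h i) ∈ P
        rw [show eC ((1 : T) ⊗ₜ[A] h i) = algebraMap B C (h i) by simp [eC, Algebra.IsPushout.equiv_tmul]]
        exact hall i
      have h2 := hle' (Ideal.mem_map_of_mem _ hmem)
      change eC (_ ^ n * _) ∈ P at h2
      rw [map_mul, map_pow, AlgEquiv.commutes] at h2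
      exact (hP.mem_or_mem h2).elim (fun h => hgP (hP.mem_of_pow_mem n h)) hcP

end RGFlatLib

namespace RGFlatLib

open TensorProduct

/-- a module flat over the base is free near a prime extended from the base -/
theorem exists_free_near {T C M : Type u} [CommRing T] [CommRing C] [Algebra T C] [AddCommGroup M] [Module C M]
    [Module T M] [IsScalarTower T C M] [Module.FinitePresentation C M] [Module.Flat T M] (p : Ideal T)
    [(p.map (algebraMap T C)).IsPrime] :
    ∃ t : C, t ∉ p.map (algebraMap T C) ∧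
      Module.Free (Localization.Away t) (LocalizedModule (Submonoid.powers t) M) := by
  let q := p.map (algebraMap T C)
  let L := Localization.AtPrime q
  let N := LocalizedModule q.primeCompl M
  haveI : Module.Flat T N := FlatLib.flat_localized q.primeCompl (LocalizedModule.mkLinearMap q.primeCompl M)
  haveI : IsScalarTower T L N := IsScalarTower.of_algebraMap_smul fun a x => by
    rw [IsScalarTower.algebraMap_apply T C L, algebraMap_smul, algebraMap_smul]
  have hm : IsLocalRing.maximalIdeal L = p.map (algebraMap T L) := by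
    rw [IsScalarTower.algebraMap_eq T C L, ← Ideal.map_map]
    exact (Localization.AtPrime.map_eq_maximalIdeal (I := q)).symm
  haveI : Module.FinitePresentation L N := inferInstance
  haveI : Module.Free L N := by
    refine Module.free_of_maximalIdeal_rTensor_injective ?_
    let ι : p →ₗ[T] IsLocalRing.maximalIdeal L :=
      { toFun := fun a => ⟨algebraMap T L a, hm ▸ Ideal.mem_map_of_mem _ a.2⟩
        map_add' := fun a b => Subtype.ext (map_add _ _ _)
        map_smul' := fun t a => Subtype.ext (by simp [Algebra.smul_def]) }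
    let θ : p ⊗[T] N →ₗ[T] IsLocalRing.maximalIdeal L ⊗[L] N :=
      TensorProduct.lift (LinearMap.mk₂ T (fun a x => ι a ⊗ₜ[L] x)
        (fun a b x => by simp [add_tmul]) (fun t a x => by rw [map_smul, smul_tmul'])
        (fun a x y => by simp [tmul_add]) (fun t a x => by rw [tmul_smul]))
    have hθ : Function.Surjective θ := by
      intro z
      induction z using TensorProduct.induction_on with
      | zero => exact ⟨0, map_zero θ⟩
      | add x y hx hy =>
        obtain ⟨x', hx'⟩ := hx; obtain ⟨y', hy'⟩ := hy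
        exact ⟨x' + y', by rw [map_add, hx', hy']⟩
      | tmul m x =>
        have key : ∀ (w : L) (hw : w ∈ p.map (algebraMap T L)) (x : N),
            (⟨w, hm.symm ▸ hw⟩ : IsLocalRing.maximalIdeal L) ⊗ₜ[L] x ∈ Set.range θ := by
          intro w hw
          induction hw using Submodule.span_induction with
          | mem w hw =>
            obtain ⟨a, ha, rfl⟩ := hw
            exact fun x => ⟨⟨a, ha⟩ ⊗ₜ x, rfl⟩
          | zero => exact fun x => ⟨0, by
              rw [map_zero, ← zero_tmul (IsLocalRing.maximalIdeal L) x]; rfl⟩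
          | add u v hu hv ihu ihv =>
            intro x
            obtain ⟨a, ha⟩ := ihu x; obtain ⟨b, hb⟩ := ihv x
            exact ⟨a + b, by rw [map_add, ha, hb, ← add_tmul]; rfl⟩
          | smul c u hu ihu =>
            intro x
            obtain ⟨a, ha⟩ := ihu (c • x)
            refine ⟨a, ha.trans ?_⟩
            rw [← TensorProduct.smul_tmul]
            rfl
        exact key m.1 (hm ▸ m.2) x
    intro z₁ z₂ hz
    obtain ⟨y₁, rfl⟩ := hθ z₁
    obtain ⟨y₂, rfl⟩ := hθ z₂
    have hcomp : ∀ y, TensorProduct.lid L N ((IsLocalRing.maximalIdeal L).subtype.rTensor N (θ y)) =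
        TensorProduct.lid T N ((Submodule.subtype p).rTensor N y) := fun y => by
      induction y using TensorProduct.induction_on with
      | zero => simp
      | add a b ha hb => simp only [map_add, ha, hb]
      | tmul a x => exact algebraMap_smul L (a : T) x
    refine congrArg θ (Module.Flat.rTensor_preserves_injective_linearMap (Submodule.subtype p) Subtype.val_injective
      ((TensorProduct.lid T N).injective ?_))
    rw [← hcomp, ← hcomp, hz]
  obtain ⟨t, ht, hfree, -⟩ := Module.FinitePresentation.exists_free_localizedModule_powers q.primeCompl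
    (LocalizedModule.mkLinearMap q.primeCompl M) L
  exact ⟨t, ht, hfree⟩

end RGFlatLib

end
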