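import Groth.Prelude
import Groth.Agent.MiscFlat6.FTIdeal

/-!
# Extending a finite type ideal from an affine open
-/

set_option autoImplicit false

universe u
open CategoryTheory CategoryTheory.Limits TopologicalSpace Opposite AlgebraicGeometry

noncomputable section

namespace RGFlatLib

open QCohLib QCohLib.LocSub MiscFlat6

variable {X : Scheme.{u}}

/-- An ideal of finite type on an affine open, trivial on a quasi-compact open, extends keeping both properties. -/
theorem exists_extend_ideal [CompactSpace X] [QuasiSeparatedSpace X] (U : X.Opens) (hU : IsCompact (U : Set X))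
    {W : X.Opens} (hW : IsAffineOpen W) (J : Ideal Γ(X, W)) (hJ : J.FG)
    (hJU : ∀ x ∈ U, x ∈ W → ∃ a ∈ J, x ∈ X.basicOpen a) :
    ∃ 𝓘 : X.IdealSheafData, (∀ V : X.affineOpens, (𝓘.ideal V).FG) ∧
      Disjoint (𝓘.support : Set X) (U : Set X) ∧ 𝓘.ideal ⟨W, hW⟩ = J := by
  classical
  haveI : Coh.IsQCoh (Coh.structureModule X) := QCohLib.isQCoh_unit
  obtain ⟨g, hg⟩ := hJ
  let ι := ULift.{u} {a // a ∈ g}
  let m : ι → Γ(Coh.structureModule X, W) := fun i => (i.down.1 : Γ(X, W))
  let S₀ : LocSub (Coh.structureModule X) := glueSub (allSub _) U W m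
  have hJspan : J = Ideal.span (Set.range fun i : ι => OmegaSh.fnSect X W (m i)) := by
    rw [← hg]
    congr 1
    ext a
    exact ⟨fun ha => ⟨⟨⟨a, ha⟩⟩, rfl⟩, by rintro ⟨i, rfl⟩; exact i.down.2⟩
  have hone : ∀ O ≤ U, ∀ a, S₀.mem O a := by
    refine fun O hO a => ⟨trivial, fun p hp hpW => ?_⟩
    obtain ⟨b, hb, hpb⟩ := hJU p (hO hp) hpW
    have hex : ∃ i : ι, p ∈ X.basicOpen (OmegaSh.fnSect X W (m i)) := by
      by_contra hcon
      simp only [not_exists] at hcon
      refine (Scheme.mem_zeroLocus_iff _ _ _).1 ?_ b (hg.ge hb) hpb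
      rw [Ideal.span, Scheme.zeroLocus_span, Scheme.mem_zeroLocus_iff]
      exact fun z hz => hcon ⟨⟨z, hz⟩⟩
    obtain ⟨i, hi⟩ := hex
    let O' := O ⊓ X.basicOpen (OmegaSh.fnSect X W (m i))
    obtain ⟨v, hv⟩ := isUnit_res (OmegaSh.fnSect X W (m i)) (show O' ≤ X.basicOpen _ from inf_le_right)
    refine ⟨O', inf_le_left, inf_le_right.trans (X.basicOpen_le _), ⟨hp, hi⟩,
      fun j => if j = i then ((X.presheaf.map (homOfLE inf_le_left).op (OmegaSh.fnSect X O a) : Γ(X, O')) * ↑v⁻¹ : Γ(X, O')) else 0, ?_⟩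
    rw [Finset.sum_eq_single i (fun j _ hj => by dsimp only; rw [if_neg hj, zero_smul]) fun h => absurd (Finset.mem_univ i) h]
    dsimp only
    rw [if_pos rfl]
    show (X.presheaf.map (homOfLE inf_le_left).op (OmegaSh.fnSect X O a) : Γ(X, O')) =
      ((X.presheaf.map (homOfLE inf_le_left).op (OmegaSh.fnSect X O a) : Γ(X, O')) * ↑v⁻¹ : Γ(X, O')) *
        (X.presheaf.map (homOfLE (inf_le_right.trans (X.basicOpen_le _))).op (OmegaSh.fnSect X W (m i)) : Γ(X, O'))
    rw [mul_assoc]
    erw [← hv, Units.inv_mul, mul_one]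
  have hc₀ : Canon S₀ (U ⊔ W) := fun O a ha => ⟨trivial, fun p hp hpW => by
    obtain ⟨O', hO', hO'W, hpO', c, hc'⟩ := ha.2 p ⟨hp, Or.inr hpW⟩ hpW
    rw [map_map'] at hc'
    exact ⟨O', hO'.trans inf_le_left, hO'W, hpO', c, hc'⟩⟩
  have hft₀ : FTBelow S₀ (U ⊔ W) := fun p hp => by
    by_cases hpW : p ∈ W
    · let e : ULift.{u} (Fin (Fintype.card ι)) ≃ ι := Equiv.ulift.trans (Fintype.equivFin ι).symm
      refine ⟨W, le_sup_right, hpW, Fintype.card ι, fun i => m (e i), fun i => ⟨trivial, span_self m (e i)⟩,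
        fun O hO a ha q hq hqW => ?_⟩
      obtain ⟨O', hO', hO'W, hqO', c, hc'⟩ := ha.2 q hq hqW
      exact ⟨O', hO', hO'W, hqO', fun i => c (e i),
        hc'.trans (Equiv.sum_comp e fun x => c x • (Coh.structureModule X).presheaf.map (homOfLE hO'W).op (m x)).symm⟩
    · refine ⟨U, le_sup_left, hp.resolve_right hpW, 1, fun _ => (1 : Γ(X, U)), fun _ => hone U le_rfl _,
        fun O hO a _ q hq _ => ⟨O, le_rfl, hO, hq, fun _ => OmegaSh.fnSect X O a, ?_⟩⟩
      rw [Fintype.sum_unique]
      change X.presheaf.map (homOfLE (le_refl O)).op (OmegaSh.fnSect X O a) =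
        OmegaSh.fnSect X O a * X.presheaf.map (homOfLE hO).op 1
      simp
  have hV₀ : IsCompact ((U ⊔ W : X.Opens) : Set X) := hU.union hW.isCompact
  have key : ∀ t : Finset X.affineOpens, ∃ (V : X.Opens) (S : LocSub (Coh.structureModule X)), U ⊔ W ≤ V ∧
      (∀ O ∈ t, O.1 ≤ V) ∧ IsCompact (V : Set X) ∧ Canon S V ∧ FTBelow S V ∧
      ∀ O ≤ U ⊔ W, ∀ a, S.mem O a ↔ S₀.mem O a := by
    intro t
    induction t using Finset.induction_on with
    | empty => exact ⟨U ⊔ W, S₀, le_rfl, fun O hO => absurd hO (Finset.notMem_empty O), hV₀, hc₀, hft₀,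
        fun _ _ _ => Iff.rfl⟩
    | insert O t hOt ih =>
      obtain ⟨V, S, hUV, htV, hV, hc, hft, hag⟩ := ih
      obtain ⟨S', h1, h2, h3⟩ := exists_extend_affine S hc hft O.2
        (QuasiSeparatedSpace.inter_isCompact _ _ O.1.isOpen O.2.isCompact V.isOpen hV)
      exact ⟨V ⊔ O.1, S', hUV.trans le_sup_left, fun O' hO' => (Finset.mem_insert.mp hO').elim
        (fun e => e ▸ le_sup_right) fun h => (htV O' h).trans le_sup_left,
        hV.union O.2.isCompact, h1, h2, fun O' hO' a => (h3 O' (hO'.trans hUV) a).trans (hag O' hO' a)⟩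
  obtain ⟨t, ht⟩ : ∃ t : Finset X.affineOpens, (Set.univ : Set X) ⊆ ⋃ V ∈ t, (V.1 : Set X) :=
    isCompact_univ.elim_finite_subcover (fun V : X.affineOpens => (V.1 : Set X))
      (fun V => V.1.isOpen) (fun p _ => by
        obtain ⟨V, hV, hp⟩ := exists_affine_nhd p
        exact Set.mem_iUnion.mpr ⟨⟨V, hV⟩, hp⟩)
  obtain ⟨V, S, -, htV, -, -, hft, hag⟩ := key t
  obtain rfl : V = ⊤ := eq_top_iff.mpr fun p _ => by
    obtain ⟨O, hO, hpO⟩ := Set.mem_iUnion₂.mp (ht (Set.mem_univ p))
    exact htV O hO hpO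
  let 𝓘 : X.IdealSheafData :=
    { ideal := fun V => idealOf S V.1
      map_ideal_basicOpen := fun V f => by
        refine le_antisymm (Ideal.map_le_iff_le_comap.mpr fun a ha => S.res (X.basicOpen_le f) ha) ?_
        intro b hb
        obtain ⟨N, m, hm⟩ := (localizingAt_of_isQCoh V.2 (Coh.structureModule X) f).exists_extend b
        obtain ⟨k, hk⟩ := exists_pow_smul_mem S (canon_top S) hft V.2
          (by rw [inf_top_eq]; exact V.2.isCompact) f m (by
            have h1 := S.res (inf_le_left : X.basicOpen f ⊓ ⊤ ≤ X.basicOpen f) (hm ▸ S.smul _ hb)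
            rw [map_map'] at h1
            exact h1)
        let u := X.presheaf.map (homOfLE (X.basicOpen_le f)).op f
        have hu : IsUnit (u ^ (k + N)) := (isUnit_res f le_rfl).pow _
        have key : u ^ (k + N) * b =
            X.presheaf.map (homOfLE (X.basicOpen_le f)).op (f ^ k * OmegaSh.fnSect X V.1 m) := by
          rw [map_mul, map_pow, pow_add, mul_assoc]
          exact congrArg _ hm.symm
        have hmem := Ideal.mem_map_of_mem (X.presheaf.map (homOfLE (X.basicOpen_le f)).op).hom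
          (show f ^ k * OmegaSh.fnSect X V.1 m ∈ idealOf S V.1 from hk)
        rw [← Ideal.unit_mul_mem_iff_mem _ hu, key]
        exact hmem }
  refine ⟨𝓘, fun V => ?_, Set.disjoint_left.2 fun x hx hxU => ?_, ?_⟩
  · haveI := isQCoh_toModules S hft
    obtain ⟨t, ht⟩ := (finite_of_isFT (isFT_toModules S hft) V.2).fg_top
    refine ⟨t.image fun z => OmegaSh.fnSect X V.1 (S.ι.app V.1 z), le_antisymm ?_ fun a ha => ?_⟩
    · refine Submodule.span_le.mpr fun z hz => ?_
      obtain ⟨z, -, rfl⟩ := Finset.mem_image.mp (Finset.mem_coe.mp hz)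
      exact S.ι_app_mem z
    · have hz := ht.ge (Submodule.mem_top (x := S.lift a ha))
      change (fun z => OmegaSh.fnSect X V.1 (S.ι.app V.1 z)) (S.lift a ha) ∈ Submodule.span _ _
      generalize S.lift a ha = z at hz ⊢
      induction hz using Submodule.span_induction with
      | mem z hz => exact Submodule.subset_span (Finset.mem_coe.mpr (Finset.mem_image_of_mem _ hz))
      | zero => simp
      | add y z _ _ hy hz => simpa using add_mem hy hz
      | smul c y _ hy =>
        simp only [app_smul]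
        exact Submodule.smul_mem _ c hy
  · obtain ⟨V, hV, hxV, hVU⟩ := exists_isAffineOpen_mem_and_subset (x := x) (U := U) hxU
    have h1 := (Scheme.IdealSheafData.mem_support_iff_of_mem (U := ⟨V, hV⟩) hxV).mp hx
    refine (Scheme.mem_zeroLocus_iff _ _ _).mp h1 1
      ((hag V (le_sup_of_le_left hVU) _).mpr (hone V hVU (1 : Γ(X, V)))) ?_
    rw [X.basicOpen_of_isUnit isUnit_one]
    exact hxV
  · refine le_antisymm (fun a ha => ?_) ?_
    · have ha' : (span (Coh.structureModule X) W m).mem W a := ((hag W le_sup_right a).mp ha).2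
      suffices h : Ideal.span {a} ≤ J from h (Ideal.mem_span_singleton_self a)
      rw [hW.ideal_le_iff]
      intro p hp
      rw [Ideal.map_span, Set.image_singleton, Ideal.span_singleton_le_iff_mem]
      obtain ⟨O', hO', hO'W, hpO', c, hc'⟩ := ha' p hp hp
      change X.presheaf.map (homOfLE hO').op (a : Γ(X, W)) = ∑ i, c i * X.presheaf.map (homOfLE hO'W).op (m i) at hc'
      have h2 := congrArg (X.presheaf.germ O' p hpO') hc'
      rw [map_sum, TopCat.Presheaf.germ_res_apply] at h2
      rw [h2]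
      refine sum_mem fun i _ => ?_
      rw [map_mul, TopCat.Presheaf.germ_res_apply]
      exact Ideal.mul_mem_left _ _ (Ideal.mem_map_of_mem _ (by rw [hJspan]; exact Ideal.subset_span ⟨i, rfl⟩ : OmegaSh.fnSect X W (m i) ∈ J))
    · rw [hJspan, Ideal.span_le]
      rintro _ ⟨i, rfl⟩
      exact (hag W le_sup_right _).mpr ⟨trivial, span_self m i⟩

end RGFlatLib
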