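import Mathlib
import Groth.Agent.RGFlatLib.Piece
import Groth.Agent.BlowUpLib.Cartier

/-!
# A neighbourhood on which the strict transforms are flat
-/

set_option autoImplicit false
set_option maxHeartbeats 1000000

noncomputable section

universe u

open CategoryTheory CategoryTheory.Limits AlgebraicGeometry TensorProduct BlowUpLib

namespace RGFlatLib

variable {S S' : Scheme.{u}}

/-- The pullback of an ideal sheaf on affine opens. -/
theorem ideal_comap_appLE (b : S' ⟶ S) (𝓚 : S.IdealSheafData) {W : S.Opens} (hW : IsAffineOpen W)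
    {T : S'.Opens} (hT : IsAffineOpen T) (e : T ≤ b ⁻¹ᵁ W) :
    (𝓚.ideal ⟨W, hW⟩).map (b.appLE W T e).hom = (𝓚.comap b).ideal ⟨T, hT⟩ := by
  refine specIdeal_injective (A := Γ(S', T)) ?_
  rw [← comap_fromSpec (𝓚.comap b) ⟨T, hT⟩, ← Scheme.IdealSheafData.comap_comp,
    ← IsAffineOpen.SpecMap_appLE_fromSpec b hW hT e, Scheme.IdealSheafData.comap_comp,
    comap_fromSpec 𝓚 ⟨W, hW⟩]
  exact (comap_specIdeal _ _).symm

theorem generator_basicOpen {𝓚 : S'.IdealSheafData} {T : S'.Opens} (hT : IsAffineOpen T) {t : Γ(S', T)}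
    (ht : t ∈ nonZeroDivisors Γ(S', T)) (h : 𝓚.ideal ⟨T, hT⟩ = Ideal.span {t}) (r : Γ(S', T)) :
    ∃ t' ∈ nonZeroDivisors Γ(S', S'.basicOpen r), 𝓚.ideal ⟨S'.basicOpen r, hT.basicOpen r⟩ = Ideal.span {t'} := by
  refine ⟨(S'.presheaf.map (homOfLE (S'.basicOpen_le r)).op).hom t, ?_, ?_⟩
  · haveI := hT.isLocalization_basicOpen r
    exact IsLocalization.map_nonZeroDivisors_le (Submonoid.powers r) Γ(S', S'.basicOpen r)
      (Submonoid.mem_map_of_mem _ ht)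
  · have := 𝓚.map_ideal_basicOpen ⟨T, hT⟩ r
    rw [h, Ideal.map_span, Set.image_singleton] at this
    exact this.symm

/-- Two effective Cartier ideals are principal on a common affine neighbourhood. -/
theorem exists_common_generators {𝓚 𝓜 : S'.IdealSheafData} (hK : BlowUp.IsEffCartierIdeal 𝓚)
    (hM : BlowUp.IsEffCartierIdeal 𝓜) {O : S'.Opens} {y : S'} (hy : y ∈ O) :
    ∃ (T : S'.Opens) (hT : IsAffineOpen T), y ∈ T ∧ T ≤ O ∧
      (∃ t ∈ nonZeroDivisors Γ(S', T), 𝓚.ideal ⟨T, hT⟩ = Ideal.span {t}) ∧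
      ∃ t ∈ nonZeroDivisors Γ(S', T), 𝓜.ideal ⟨T, hT⟩ = Ideal.span {t} := by
  obtain ⟨⟨T₁, hT₁⟩, hy₁, t₁, ht₁, e₁⟩ := hK y
  obtain ⟨⟨T₂, hT₂⟩, hy₂, t₂, ht₂, e₂⟩ := hM y
  obtain ⟨r, hrO, hyr⟩ := hT₁.exists_basicOpen_le (V := O ⊓ T₂) ⟨y, hy, hy₂⟩ hy₁
  obtain ⟨r₁, r₂, hr, hyr'⟩ := exists_basicOpen_le_affine_inter (hT₁.basicOpen r) hT₂ y ⟨hyr, hy₂⟩
  obtain ⟨t₁', ht₁', e₁'⟩ := generator_basicOpen hT₁ ht₁ e₁ r
  refine ⟨S'.basicOpen r₁, (hT₁.basicOpen r).basicOpen r₁, hyr',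
    (S'.basicOpen_le r₁).trans (hrO.trans inf_le_left), generator_basicOpen (hT₁.basicOpen r) ht₁' e₁' r₁, ?_⟩
  have key : ∀ (D : S'.Opens) (hD : IsAffineOpen D) (r₂ : Γ(S', T₂)), D = S'.basicOpen r₂ →
      ∃ t ∈ nonZeroDivisors Γ(S', D), 𝓜.ideal ⟨D, hD⟩ = Ideal.span {t} := by
    intro D hD r₂ e
    subst e
    exact generator_basicOpen hT₂ ht₂ e₂ r₂
  exact key _ _ r₂ hr

theorem good_of_dvd_pow {A : Type u} [CommRing A] {σ : Type u} {I₀ : Ideal (MvPolynomial σ A)} {B : Type u}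
    [CommRing B] [Algebra A B] {g g' : B} {k l : ℕ} (hk : g ∣ g' ^ k) (hl : g' ∣ g ^ l) (h : Good I₀ B g) :
    Good I₀ B g' := by
  have e : saturation (I₀.map (MvPolynomial.map (algebraMap A B))) (MvPolynomial.C g') =
      saturation (I₀.map (MvPolynomial.map (algebraMap A B))) (MvPolynomial.C g) :=
    le_antisymm (saturation_le_of_dvd_pow (k := l) _ (by rw [← map_pow]; exact map_dvd _ hl))
      (saturation_le_of_dvd_pow (k := k) _ (by rw [← map_pow]; exact map_dvd _ hk))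
  unfold Good
  rw [e]
  exact h

/-- Near every point over an affine open the strict transforms are flat and of finite presentation. -/
theorem exists_good_nhd (b : S' ⟶ S) {W : S.Opens} (hW : IsAffineOpen W) (s : Finset Γ(S, W)) {κ : Type u}
    {σ : κ → Type u} (I₀ : ∀ k, Ideal (MvPolynomial (σ k) Γ(S, W))) (𝓘 𝓚 : S.IdealSheafData)
    (hle : 𝓘.ideal ⟨W, hW⟩ ≤ Ideal.span (s : Set Γ(S, W))) (hK : 𝓚.ideal ⟨W, hW⟩ ≤ 𝓘.ideal ⟨W, hW⟩)
    (hrad : ∀ j ∈ s, j ∈ (𝓚.ideal ⟨W, hW⟩).radical)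
    (hgood : ∀ (B : Type u) [CommRing B] [Algebra Γ(S, W) B] (g : B), g ∈ nonZeroDivisors B →
      (𝓘.ideal ⟨W, hW⟩).map (algebraMap Γ(S, W) B) = Ideal.span {g} → ∀ q : PrimeSpectrum B, ∃ h : B,
        h ∉ q.asIdeal ∧ ∀ (B' : Type u) [CommRing B'] [Algebra B B'] [Algebra Γ(S, W) B']
          [IsScalarTower Γ(S, W) B B'] [IsLocalization.Away h B'], ∀ k, Good (I₀ k) B' (algebraMap B B' g))
    (hI' : BlowUp.IsEffCartierIdeal (𝓘.comap b)) (hK' : BlowUp.IsEffCartierIdeal (𝓚.comap b))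
    {y : S'} (hy : b y ∈ W) :
    ∃ (V : S'.Opens) (_hV : IsAffineOpen V) (eV : V ≤ b ⁻¹ᵁ W), y ∈ V ∧
      letI : Algebra Γ(S, W) Γ(S', V) := (b.appLE W V eV).hom.toAlgebra
      ∃ g : Γ(S', V), (𝓚.ideal ⟨W, hW⟩).map (b.appLE W V eV).hom = Ideal.span {g} ∧
        ∀ k, Good (I₀ k) Γ(S', V) g := by
  obtain ⟨T, hT, hyT, eT, ⟨gI, hgI, hI1⟩, gK, hgK, hK1⟩ := exists_common_generators hI' hK' (O := b ⁻¹ᵁ W) hy
  letI : Algebra Γ(S, W) Γ(S', T) := (b.appLE W T eT).hom.toAlgebra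
  have eI : (𝓘.ideal ⟨W, hW⟩).map (algebraMap Γ(S, W) Γ(S', T)) = Ideal.span {gI} :=
    (ideal_comap_appLE b 𝓘 hW hT eT).trans hI1
  have eK : (𝓚.ideal ⟨W, hW⟩).map (algebraMap Γ(S, W) Γ(S', T)) = Ideal.span {gK} :=
    (ideal_comap_appLE b 𝓚 hW hT eT).trans hK1
  obtain ⟨h, hq, hG⟩ := hgood Γ(S', T) gI hgI eI (hT.primeIdealOf ⟨y, hyT⟩)
  have hyV : y ∈ S'.basicOpen h := by
    have h1 : hT.primeIdealOf ⟨y, hyT⟩ ∈ PrimeSpectrum.basicOpen h := hq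
    rw [← hT.fromSpec_preimage_basicOpen h] at h1
    have h2 : hT.fromSpec (hT.primeIdealOf ⟨y, hyT⟩) ∈ S'.basicOpen h := h1
    rwa [hT.fromSpec_primeIdealOf] at h2
  have eV : S'.basicOpen h ≤ b ⁻¹ᵁ W := (S'.basicOpen_le h).trans eT
  refine ⟨S'.basicOpen h, hT.basicOpen h, eV, hyV, ?_⟩
  letI : Algebra Γ(S, W) Γ(S', S'.basicOpen h) := (b.appLE W _ eV).hom.toAlgebra
  haveI : IsScalarTower Γ(S, W) Γ(S', T) Γ(S', S'.basicOpen h) := IsScalarTower.of_algebraMap_eq fun a =>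
    (RingHom.congr_fun (congrArg CommRingCat.Hom.hom
      (Scheme.Hom.appLE_map b eT (homOfLE (S'.basicOpen_le h)).op)) a).symm
  haveI := hT.isLocalization_basicOpen h
  refine ⟨algebraMap Γ(S', T) Γ(S', S'.basicOpen h) gK, ?_, fun k => ?_⟩
  · show (𝓚.ideal ⟨W, hW⟩).map (algebraMap Γ(S, W) Γ(S', S'.basicOpen h)) = _
    rw [IsScalarTower.algebraMap_eq Γ(S, W) Γ(S', T), ← Ideal.map_map, eK, Ideal.map_span, Set.image_singleton]
  obtain ⟨l, hl⟩ : ∃ l : ℕ, gK ∣ gI ^ l := by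
    obtain ⟨l, hl⟩ := Ideal.exists_pow_le_of_le_radical_of_fg (I := Ideal.span (s : Set Γ(S, W)))
      (J := 𝓚.ideal ⟨W, hW⟩) (Ideal.span_le.2 hrad) ⟨s, rfl⟩
    refine ⟨l, Ideal.mem_span_singleton.1 (eK ▸ (Ideal.map_mono hl) ?_)⟩
    rw [Ideal.map_pow]
    exact Ideal.pow_mem_pow (Ideal.map_mono hle (eI.symm ▸ Ideal.mem_span_singleton_self gI)) l
  have hdvd : gI ∣ gK := by
    rw [← Ideal.mem_span_singleton, ← eI]
    exact Ideal.map_mono hK (eK.symm ▸ Ideal.mem_span_singleton_self gK)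
  exact good_of_dvd_pow (k := 1) (l := l) (by rw [pow_one]; exact map_dvd _ hdvd)
    (by rw [← map_pow]; exact map_dvd _ hl) (hG Γ(S', S'.basicOpen h) k)

end RGFlatLib
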