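import Mathlib
import Groth.Agent.RGFlatLib.Local
import Groth.Agent.RGFlatLib.Extend
import Groth.Agent.FlatModifLib.Main

/-!
# Flattening by admissible blowing up
-/

set_option autoImplicit false
set_option maxHeartbeats 1000000

noncomputable section

universe u

open CategoryTheory CategoryTheory.Limits AlgebraicGeometry TensorProduct BlowUpLib

namespace RGFlatLib

variable {X S : Scheme.{u}}

/-- Membership in the radical read off on the support. -/
theorem mem_radical_of_support {W : S.Opens} (hW : IsAffineOpen W) (𝓚 : S.IdealSheafData) {j : Γ(S, W)}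
    (h : ∀ x ∈ S.basicOpen j, x ∉ 𝓚.support) : j ∈ (𝓚.ideal ⟨W, hW⟩).radical := by
  rw [Ideal.radical_eq_sInf, Ideal.mem_sInf]
  rintro p ⟨hle, hp⟩
  by_contra hj
  let x := hW.fromSpec ⟨p, hp⟩
  have hxD : ∀ a : Γ(S, W), x ∈ S.basicOpen a ↔ a ∉ p := fun a => by
    have h1 : (⟨p, hp⟩ : PrimeSpectrum Γ(S, W)) ∈ hW.fromSpec ⁻¹ᵁ S.basicOpen a ↔
        (⟨p, hp⟩ : PrimeSpectrum Γ(S, W)) ∈ PrimeSpectrum.basicOpen a := by rw [hW.fromSpec_preimage_basicOpen a]; rfl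
    exact h1
  have hx : x ∈ S.basicOpen j := (hxD j).2 hj
  refine h x hx ((Scheme.IdealSheafData.mem_support_iff_of_mem (U := ⟨W, hW⟩) (S.basicOpen_le j hx)).2 ?_)
  rw [Scheme.mem_zeroLocus_iff]
  exact fun a ha hxa => (hxD a).1 hxa (hle ha)

/-- A property of the restriction over `U` holds on affine pieces over `U`. -/
theorem prop_piece_over (Q : MorphismProperty Scheme.{u}) [Q.IsStableUnderComposition] [Q.IsStableUnderBaseChange]
    (hQ : ∀ {A B : Scheme.{u}} (g : A ⟶ B) [IsOpenImmersion g], Q g)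
    (f : X ⟶ S) (U : S.Opens) (hf : Q (f ∣_ U))
    {D : S.Opens} (hD : IsAffineOpen D) (hDU : D ≤ U) {D' : X.Opens} (hD' : IsAffineOpen D') (e : D' ≤ f ⁻¹ᵁ D) :
    Q (Spec.map (f.appLE D D' e)) := by
  refine prop_appLE f Q hD hD' e ?_
  have hr : Set.range hD'.fromSpec ⊆ Set.range (f ⁻¹ᵁ U).ι := by
    rw [hD'.range_fromSpec, Scheme.Opens.range_ι]
    exact fun x hx => hDU (e hx)
  let l := IsOpenImmersion.lift (f ⁻¹ᵁ U).ι hD'.fromSpec hr
  have hl : l ≫ (f ⁻¹ᵁ U).ι = hD'.fromSpec := IsOpenImmersion.lift_fac _ _ _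
  haveI : IsOpenImmersion l := by
    haveI : IsOpenImmersion (l ≫ (f ⁻¹ᵁ U).ι) := hl ▸ inferInstance
    exact IsOpenImmersion.of_comp l (f ⁻¹ᵁ U).ι
  rw [← hl, Category.assoc, ← morphismRestrict_ι]
  exact Q.comp_mem _ _ (hQ l) (Q.comp_mem _ _ hf (hQ U.ι))

/-- The centre for one affine open of the base. -/
theorem exists_center_affine [CompactSpace S] [QuasiSeparatedSpace S] (f : X ⟶ S) [LocallyOfFiniteType f]
    [QuasiCompact f] (U : S.Opens) (hU : IsCompact (U : Set S)) [Flat (f ∣_ U)] [LocallyOfFinitePresentation (f ∣_ U)]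
    {W : S.Opens} (hW : IsAffineOpen W) :
    ∃ 𝓘 : S.IdealSheafData, BlowUp.IsAdmissibleFor U 𝓘 ∧ ∀ (𝓚 : S.IdealSheafData),
      Disjoint (𝓚.support : Set S) (U : Set S) → 𝓚.ideal ⟨W, hW⟩ ≤ 𝓘.ideal ⟨W, hW⟩ →
      ∀ (S' : Scheme.{u}) (b : S' ⟶ S), BlowUp.IsEffCartierIdeal (𝓘.comap b) → BlowUp.IsEffCartierIdeal (𝓚.comap b) →
      ∀ (X' : Scheme.{u}) (p₁ : X' ⟶ X) (p₂ : X' ⟶ S'), IsPullback p₁ p₂ f b →
      ∀ (𝒥 : X'.IdealSheafData),
        (∀ (V : X'.affineOpens) (a : Γ(X', V.1)), a ∈ 𝒥.ideal V ↔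
          BlowUp.KilledByPowerNear ((𝓚.comap f).comap p₁) (Coh.structureModule X') V a) →
      ∀ x : 𝒥.subscheme, b (p₂ (𝒥.subschemeι x)) ∈ W →
        ∃ (Z : Scheme.{u}) (j : Z ⟶ 𝒥.subscheme), IsOpenImmersion j ∧ x ∈ Set.range j ∧
          Flat (j ≫ 𝒥.subschemeι ≫ p₂) ∧ LocallyOfFinitePresentation (j ≫ 𝒥.subschemeι ≫ p₂) := by
  classical
  -- `U ∩ W` is covered by finitely many basic opens
  have hUW : IsCompact ((W ⊓ U : S.Opens) : Set S) :=
    QuasiSeparatedSpace.inter_isCompact _ _ W.isOpen hW.isCompact U.isOpen hU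
  choose r hrU hr using fun x : (W ⊓ U : S.Opens) => hW.exists_basicOpen_le (V := W ⊓ U) x x.2.1
  obtain ⟨t, ht⟩ := hUW.elim_finite_subcover (fun x : (W ⊓ U : S.Opens) => (S.basicOpen (r x) : Set S))
    (fun x => (S.basicOpen _).isOpen) (fun x hx => Set.mem_iUnion.2 ⟨⟨x, hx⟩, hr ⟨x, hx⟩⟩)
  let s : Finset Γ(S, W) := t.image r
  have hsU : ∀ j ∈ s, S.basicOpen j ≤ U := fun j hj => by
    obtain ⟨x, -, rfl⟩ := Finset.mem_image.1 hj
    exact (hrU x).trans inf_le_right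
  -- finitely many affines over `W`
  choose V hV hxV hVle using fun x : (f ⁻¹ᵁ W : X.Opens) =>
    exists_isAffineOpen_mem_and_subset (x := x.1) (U := f ⁻¹ᵁ W) x.2
  obtain ⟨κ, hκ⟩ := (f.isCompact_preimage hW.isCompact).elim_finite_subcover
    (fun x : (f ⁻¹ᵁ W : X.Opens) => (V x : Set X)) (fun x => (V x).2)
    (fun x hx => Set.mem_iUnion.mpr ⟨⟨x, hx⟩, hxV ⟨x, hx⟩⟩)
  letI alg : ∀ k : ↥κ, Algebra Γ(S, W) Γ(X, V k.1) := fun k => (f.appLE W (V k.1) (hVle k.1)).hom.toAlgebra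
  haveI : ∀ k : ↥κ, Algebra.FiniteType Γ(S, W) Γ(X, V k.1) := fun k =>
    HasRingHomProperty.appLE @LocallyOfFiniteType f ‹_› ⟨_, hW⟩ ⟨_, hV k.1⟩ (hVle k.1)
  choose n π₀ hπ₀ using fun k : ↥κ =>
    Algebra.FiniteType.iff_quotient_mvPolynomial''.1 (inferInstance : Algebra.FiniteType Γ(S, W) Γ(X, V k.1))
  let σ : ↥κ → Type u := fun k => ULift.{u} (Fin (n k))
  let π : ∀ k, MvPolynomial (σ k) Γ(S, W) →ₐ[Γ(S, W)] Γ(X, V k.1) :=
    fun k => (π₀ k).comp (MvPolynomial.rename Equiv.ulift)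
  have hπ : ∀ k, Function.Surjective (π k) := fun k =>
    (hπ₀ k).comp (MvPolynomial.rename_surjective _ Equiv.ulift.surjective)
  have hloc : ∀ (k : ↥κ), ∀ j ∈ s, Module.Flat (Localization.Away j) (MvPolynomial (σ k) (Localization.Away j) ⧸
      (RingHom.ker (π k)).map (MvPolynomial.map (algebraMap Γ(S, W) (Localization.Away j)))) ∧
      ((RingHom.ker (π k)).map (MvPolynomial.map (algebraMap Γ(S, W) (Localization.Away j)))).FG := by
    intro k j hj
    let r' : Γ(X, V k.1) := (f.appLE W (V k.1) (hVle k.1)).hom j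
    have eD : X.basicOpen r' ≤ f ⁻¹ᵁ S.basicOpen j := by
      rw [show X.basicOpen r' = _ from Scheme.basicOpen_appLE f _ _ (hVle k.1) j]
      exact inf_le_right
    have hflat : Flat (Spec.map (f.appLE (S.basicOpen j) (X.basicOpen r') eD)) :=
      prop_piece_over (@Flat) (fun g _ => inferInstance) f U ‹_› (hW.basicOpen j) (hsU j hj) ((hV k.1).basicOpen r') eD
    have hfp : LocallyOfFinitePresentation (Spec.map (f.appLE (S.basicOpen j) (X.basicOpen r') eD)) :=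
      prop_piece_over (@LocallyOfFinitePresentation) (fun g _ => inferInstance) f U ‹_› (hW.basicOpen j) (hsU j hj)
        ((hV k.1).basicOpen r') eD
    rw [HasRingHomProperty.Spec_iff (P := @Flat)] at hflat
    rw [HasRingHomProperty.Spec_iff (P := @LocallyOfFinitePresentation)] at hfp
    letI : Algebra Γ(S, S.basicOpen j) Γ(X, X.basicOpen r') :=
      (f.appLE (S.basicOpen j) (X.basicOpen r') eD).hom.toAlgebra
    letI : Algebra Γ(S, W) Γ(X, X.basicOpen r') :=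
      (f.appLE W (X.basicOpen r') ((X.basicOpen_le r').trans (hVle k.1))).hom.toAlgebra
    haveI : IsScalarTower Γ(S, W) Γ(X, V k.1) Γ(X, X.basicOpen r') := IsScalarTower.of_algebraMap_eq fun a =>
      (RingHom.congr_fun (congrArg CommRingCat.Hom.hom
        (Scheme.Hom.appLE_map f (hVle k.1) (homOfLE (X.basicOpen_le r')).op)) a).symm
    haveI : IsScalarTower Γ(S, W) Γ(S, S.basicOpen j) Γ(X, X.basicOpen r') := IsScalarTower.of_algebraMap_eq fun a =>
      (RingHom.congr_fun (congrArg CommRingCat.Hom.hom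
        (Scheme.Hom.map_appLE f eD (homOfLE (S.basicOpen_le j)).op)) a).symm
    haveI := hW.isLocalization_basicOpen j
    haveI := (hV k.1).isLocalization_basicOpen r'
    haveI : IsLocalization.Away (algebraMap Γ(S, W) Γ(X, V k.1) j) Γ(X, X.basicOpen r') :=
      (hV k.1).isLocalization_basicOpen r'
    haveI : Module.Flat Γ(S, S.basicOpen j) Γ(X, X.basicOpen r') := hflat
    haveI : Algebra.FinitePresentation Γ(S, S.basicOpen j) Γ(X, X.basicOpen r') := hfp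
    exact flat_fg_of_localization (A' := Γ(S, S.basicOpen j)) (R' := Γ(X, X.basicOpen r')) j (π k) (hπ k)
  obtain ⟨I, hIfg, hIs, hIrad, hgood⟩ := exists_flattening_center s σ (fun k => RingHom.ker (π k))
    (fun k j hj => (hloc k j hj).1) (fun k j hj => (hloc k j hj).2)
  obtain ⟨𝓘, h𝓘fg, h𝓘U, h𝓘W⟩ := exists_extend_ideal U hU hW I hIfg fun x hxU hxW => by
    obtain ⟨y, hy, hxy⟩ := Set.mem_iUnion₂.1 (ht (show x ∈ W ⊓ U from ⟨hxW, hxU⟩))
    obtain ⟨m, hm⟩ := hIrad (r y) (Finset.mem_image_of_mem r hy)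
    refine ⟨r y ^ (m + 1), ?_, ?_⟩
    · rw [pow_succ]; exact Ideal.mul_mem_right _ _ hm
    · rw [S.basicOpen_pow (r y) (Nat.succ_pos m)]
      exact hxy
  refine ⟨𝓘, ⟨h𝓘fg, h𝓘U⟩, fun 𝓚 hKU hK S' b hI' hK' X' p₁ p₂ hpb 𝒥 h𝒥 x hx => ?_⟩
  have hrad : ∀ j ∈ s, j ∈ (𝓚.ideal ⟨W, hW⟩).radical := fun j hj =>
    mem_radical_of_support hW 𝓚 fun z hz hz' => Set.disjoint_left.1 hKU hz' (hsU j hj hz)
  obtain ⟨T, hT, eT, hyT, g, hgK, hG⟩ := exists_good_nhd b hW s (fun k => RingHom.ker (π k)) 𝓘 𝓚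
    (h𝓘W ▸ hIs) hK hrad (by rw [h𝓘W]; exact hgood) hI' hK' hx
  have hfx : p₁ (𝒥.subschemeι x) ∈ f ⁻¹ᵁ W := by
    show f (p₁ (𝒥.subschemeι x)) ∈ W
    rw [← Scheme.Hom.comp_apply p₁ f, hpb.w, Scheme.Hom.comp_apply]
    exact hx
  obtain ⟨k, hkκ, hk⟩ := Set.mem_iUnion₂.mp (hκ hfx)
  obtain ⟨j, hj, hjrange, hjs⟩ := exists_bc_piece f b hpb (hV k) hW hT (hVle k) eT
  haveI := hj
  letI : Algebra Γ(S, W) Γ(S', T) := (b.appLE W T eT).hom.toAlgebra
  letI : Algebra Γ(S, W) Γ(X, V k) := (f.appLE W (V k) (hVle k)).hom.toAlgebra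
  let P := Γ(S', T) ⊗[Γ(S, W)] Γ(X, V k)
  let G : P := algebraMap Γ(S', T) P g
  have hE : ((𝓚.comap f).comap p₁).comap j = specIdeal (Ideal.span {G}) := by
    rw [← Scheme.IdealSheafData.comap_comp, ← Scheme.IdealSheafData.comap_comp, Category.assoc, hpb.w,
      ← Category.assoc, hjs, Category.assoc, ← IsAffineOpen.SpecMap_appLE_fromSpec b hW hT eT,
      Scheme.IdealSheafData.comap_comp, Scheme.IdealSheafData.comap_comp, comap_fromSpec 𝓚 ⟨W, hW⟩]
    erw [comap_specIdeal (b.appLE W T eT).hom, hgK, comap_specIdeal (algebraMap Γ(S', T) P)]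
    rw [Ideal.map_span, Set.image_singleton]
  have hJ := comap_eq_specIdeal j _ 𝒥 G hE h𝒥
  obtain ⟨hQf, hQfp⟩ := flat_fp_torsion_quotient (π ⟨k, hkκ⟩) (hπ ⟨k, hkκ⟩) g (hG ⟨k, hkκ⟩)
    (saturation (⊥ : Ideal P) G) (fun a => by rw [mem_saturation]; simp only [Ideal.mem_bot]; rfl)
  refine ⟨pullback 𝒥.subschemeι j, pullback.fst 𝒥.subschemeι j, inferInstance, ?_, ?_, ?_⟩
  · rw [Scheme.Pullback.range_fst]
    exact hjrange _ hk hyT
  · refine prop_piece (@Flat) p₂ 𝒥 j hT.fromSpec inferInstance hjs _ hJ ?_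
    rw [HasRingHomProperty.Spec_iff (P := @Flat)]
    exact RingHom.flat_algebraMap_iff.mpr hQf
  · refine prop_piece (@LocallyOfFinitePresentation) p₂ 𝒥 j hT.fromSpec inferInstance hjs _ hJ ?_
    rw [HasRingHomProperty.Spec_iff (P := @LocallyOfFinitePresentation)]
    exact RingHom.finitePresentation_algebraMap.mpr hQfp

/-- Flattening by admissible blowing up: there is an admissible centre such that the strict transform with respect
to any admissible multiple of it, along any morphism making that invertible, is flat and of finite presentation. -/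
theorem exists_admissible_flattening [CompactSpace S] [QuasiSeparatedSpace S] (f : X ⟶ S) [LocallyOfFiniteType f]
    [QuasiCompact f] (U : S.Opens) (hU : IsCompact (U : Set S)) [Flat (f ∣_ U)]
    [LocallyOfFinitePresentation (f ∣_ U)] :
    ∃ 𝓘 : S.IdealSheafData, BlowUp.IsAdmissibleFor U 𝓘 ∧ ∀ (𝓛 : S.IdealSheafData),
      Disjoint (𝓛.support : Set S) (U : Set S) → ∀ (S' : Scheme.{u}) (b : S' ⟶ S),
      BlowUp.IsEffCartierIdeal ((𝓘 * 𝓛).comap b) →
      ∀ (X' : Scheme.{u}) (p₁ : X' ⟶ X) (p₂ : X' ⟶ S'), IsPullback p₁ p₂ f b →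
      ∀ (𝒥 : X'.IdealSheafData),
        (∀ (V : X'.affineOpens) (a : Γ(X', V.1)), a ∈ 𝒥.ideal V ↔
          BlowUp.KilledByPowerNear (((𝓘 * 𝓛).comap f).comap p₁) (Coh.structureModule X') V a) →
        Flat (𝒥.subschemeι ≫ p₂) ∧ LocallyOfFinitePresentation (𝒥.subschemeι ≫ p₂) := by
  classical
  choose W hW hyW _hle using fun y : S => exists_isAffineOpen_mem_and_subset (x := y) (U := ⊤) trivial
  obtain ⟨t, ht⟩ := CompactSpace.elim_nhds_subcover (fun y => (W y : Set S)) (fun y => (W y).2.mem_nhds (hyW y))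
  choose 𝓘 hadm hmain using fun y : S => exists_center_affine f U hU (hW y)
  let Ip := ∏ y ∈ t, 𝓘 y
  have hsupp : Disjoint (Ip.support : Set S) (U : Set S) := Set.disjoint_left.2 fun x hx hxU =>
    FlatModifLib.support_finsetProd t 𝓘 x (fun y _ hxy => Set.disjoint_left.1 (hadm y).2 hxy hxU) hx
  have hfg : BlowUp.IsFiniteTypeIdeal Ip := by
    refine Finset.prod_induction 𝓘 BlowUp.IsFiniteTypeIdeal (fun a b ha hb V => ?_) (fun V => ?_) fun y _ => (hadm y).1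
    · rw [Scheme.IdealSheafData.ideal_mul, Pi.mul_apply]
      exact (ha V).mul (hb V)
    · exact ⟨{1}, by simp [Scheme.IdealSheafData.one_eq_top]⟩
  refine ⟨Ip, ⟨hfg, hsupp⟩, fun 𝓛 hL S' b hb X' p₁ p₂ hpb 𝒥 h𝒥 => ?_⟩
  have hKU : Disjoint ((Ip * 𝓛).support : Set S) (U : Set S) := by
    rw [Scheme.IdealSheafData.support_mul]
    exact Set.disjoint_left.2 fun x hx hxU => hx.elim (fun h => Set.disjoint_left.1 hsupp h hxU)
      fun h => Set.disjoint_left.1 hL h hxU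
  have hP : BlowUp.IsEffCartierIdeal (Ip.comap b) := by
    rw [mul_comm, BlowUpLib.comap_mul] at hb
    exact isEffCartier_of_mul hb
  have key : ∀ x : 𝒥.subscheme, ∃ (Z : Scheme.{u}) (j : Z ⟶ 𝒥.subscheme), IsOpenImmersion j ∧ x ∈ Set.range j ∧
      Flat (j ≫ 𝒥.subschemeι ≫ p₂) ∧ LocallyOfFinitePresentation (j ≫ 𝒥.subschemeι ≫ p₂) := by
    intro x
    obtain ⟨y, hyt, hy⟩ := Set.mem_iUnion₂.mp (ht.ge (Set.mem_univ (b (p₂ (𝒥.subschemeι x)))))
    refine hmain y (Ip * 𝓛) hKU ?_ S' b (FlatModifLib.isEffCartier_factor b t 𝓘 hP y hyt) hb X' p₁ p₂ hpb 𝒥 h𝒥 x hy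
    simp only [Ip, ← Finset.prod_erase_mul t 𝓘 hyt, Scheme.IdealSheafData.ideal_mul, Pi.mul_apply]
    exact Ideal.mul_le_left.trans Ideal.mul_le_right
  choose Z j hj hxj hflatj hfpj using key
  let 𝒰 : 𝒥.subscheme.OpenCover :=
    { I₀ := ↥(𝒥.subscheme), X := Z, f := j
      mem₀ := by
        rw [Scheme.presieve₀_mem_precoverage_iff]
        exact ⟨fun x => ⟨x, hxj x⟩, hj⟩ }
  exact ⟨(IsZariskiLocalAtSource.iff_of_openCover (P := @Flat) 𝒰).mpr hflatj,
    (IsZariskiLocalAtSource.iff_of_openCover (P := @LocallyOfFinitePresentation) 𝒰).mpr hfpj⟩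

end RGFlatLib
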