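import Mathlib
import Groth.Agent.RGFlatLib.Main
import Groth.Agent.MiscFlat6.FTIdeal
import Groth.Agent.ModPairLib.Extra2

/-!
# The strict transform as a scheme-theoretic closure
-/

set_option autoImplicit false
set_option maxHeartbeats 1000000

noncomputable section

universe u

open CategoryTheory CategoryTheory.Limits AlgebraicGeometry TopologicalSpace

namespace RGFlatLib

variable {P : Scheme.{u}}

/-- An ideal sheaf locally generated by one section. -/
def IsLocPrincipalIdeal (𝓔 : P.IdealSheafData) : Prop :=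
  ∀ x : P, ∃ U : P.affineOpens, x ∈ U.1 ∧ ∃ G : Γ(P, U.1), 𝓔.ideal U = Ideal.span {G}

theorem isLocPrincipal_comap {T : Scheme.{u}} {E : T.IdealSheafData} (hE : BlowUp.IsEffCartierIdeal E) (p : P ⟶ T) :
    IsLocPrincipalIdeal (E.comap p) := fun x => by
  obtain ⟨U, hxU, g, -, hU⟩ := hE (p x)
  obtain ⟨V, hxV, e⟩ := BlowUpLib.exists_affine x (W := p ⁻¹ᵁ U.1) hxU
  refine ⟨V, hxV, (p.appLE U.1 V.1 e).hom g, ?_⟩
  rw [Groth.Agent.S4666.ideal_comap_eq _ p U V e, hU, Ideal.map_span, Set.image_singleton]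

variable {𝓔 : P.IdealSheafData}

theorem interior_inf_eq {V : P.affineOpens} {G : Γ(P, V.1)} (hV : 𝓔.ideal V = Ideal.span {G}) :
    ModPair.interior 𝓔 ⊓ V.1 = P.basicOpen G := by
  ext y
  constructor
  · rintro ⟨hy, hyV⟩
    by_contra h
    refine hy ((Scheme.IdealSheafData.mem_support_iff_of_mem (U := V) hyV).mpr ?_)
    rw [hV, Scheme.zeroLocus_span, Scheme.mem_zeroLocus_iff]
    rintro g rfl
    exact h
  · intro hy
    refine ⟨fun hys => ?_, P.basicOpen_le G hy⟩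
    have := (Scheme.IdealSheafData.mem_support_iff_of_mem (U := V) (P.basicOpen_le G hy)).mp hys
    rw [Scheme.mem_zeroLocus_iff] at this
    exact this G (hV ▸ Ideal.mem_span_singleton_self G) hy

theorem quasiCompact_interior (h : IsLocPrincipalIdeal 𝓔) : IsAffineHom (ModPair.interior 𝓔).ι := by
  refine isAffineHom_of_forall_exists_isAffineOpen _ fun x => ?_
  obtain ⟨U, hxU, G, hU⟩ := h x
  refine ⟨U.1, hxU, U.2, ?_⟩
  rw [← (ModPair.interior 𝓔).ι.isAffineOpen_iff_of_isOpenImmersion,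
    Scheme.Hom.image_preimage_eq_opensRange_inf, Scheme.Opens.opensRange_ι, interior_inf_eq hU]
  exact U.2.basicOpen G

/-- Vanishing off a principal divisor. -/
theorem mem_ker_iff [QuasiCompact (ModPair.interior 𝓔).ι] {V : P.affineOpens} {G : Γ(P, V.1)}
    (hV : 𝓔.ideal V = Ideal.span {G}) (a : Γ(P, V.1)) :
    a ∈ (ModPair.interior 𝓔).ι.ker.ideal V ↔ ∃ n : ℕ, G ^ n * a = 0 := by
  rw [Scheme.Hom.ker_apply, RingHom.mem_ker, Scheme.Opens.ι_app]
  have key : ∀ (W : P.Opens) (_ : W = P.basicOpen G) (h : W ≤ V.1),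
      (P.presheaf.map (homOfLE h).op).hom a = 0 ↔ ∃ n : ℕ, G ^ n * a = 0 := by
    rintro W rfl h
    haveI : IsLocalization.Away G Γ(P, P.basicOpen G) := V.2.isLocalization_basicOpen G
    refine (IsLocalization.map_eq_zero_iff (Submonoid.powers G) Γ(P, P.basicOpen G) a).trans ?_
    exact ⟨fun ⟨⟨_, n, rfl⟩, e⟩ => ⟨n, e⟩, fun ⟨n, e⟩ => ⟨⟨_, n, rfl⟩, e⟩⟩
  refine key _ ?_ _
  rw [Scheme.Hom.image_preimage_eq_opensRange_inf, Scheme.Opens.opensRange_ι, interior_inf_eq hV]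

/-- The sections killed by a power of a locally principal ideal are those vanishing off it. -/
theorem killed_iff_mem_ker (h : IsLocPrincipalIdeal 𝓔) [QuasiCompact (ModPair.interior 𝓔).ι] (V : P.affineOpens)
    (a : Γ(P, V.1)) :
    BlowUp.KilledByPowerNear 𝓔 (Coh.structureModule P) V a ↔ a ∈ (ModPair.interior 𝓔).ι.ker.ideal V := by
  classical
  -- finitely many basic opens on which the ideal is principal
  have hex : ∀ x : V.1, ∃ r : Γ(P, V.1), x.1 ∈ P.basicOpen r ∧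
      ∃ G : Γ(P, P.basicOpen r), 𝓔.ideal (P.affineBasicOpen r) = Ideal.span {G} := by
    intro x
    obtain ⟨U, hxU, G, hU⟩ := h x.1
    obtain ⟨r, r', e, hxr⟩ := exists_basicOpen_le_affine_inter V.2 U.2 x.1 ⟨x.2, hxU⟩
    refine ⟨r, hxr, ?_⟩
    have key : ∀ (D : P.Opens) (hD : IsAffineOpen D), D = P.basicOpen r' →
        ∃ G : Γ(P, D), 𝓔.ideal ⟨D, hD⟩ = Ideal.span {G} := by
      rintro D hD rfl
      have := 𝓔.map_ideal_basicOpen U r'
      rw [hU, Ideal.map_span, Set.image_singleton] at this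
      exact ⟨_, this.symm⟩
    exact key _ _ e
  choose r hr G hG using hex
  obtain ⟨t, ht⟩ := V.2.isCompact.elim_finite_subcover (fun x : V.1 => (P.basicOpen (r x) : Set P))
    (fun x => (P.basicOpen _).isOpen) fun x hx => Set.mem_iUnion.2 ⟨⟨x, hx⟩, hr ⟨x, hx⟩⟩
  let res : ∀ x : V.1, Γ(P, V.1) →+* Γ(P, P.basicOpen (r x)) := fun x =>
    (P.presheaf.map (homOfLE (P.basicOpen_le (r x))).op).hom
  constructor
  · rintro ⟨n, hn⟩
    have hloc : ∀ x, res x a ∈ (ModPair.interior 𝓔).ι.ker.ideal (P.affineBasicOpen (r x)) := fun x => by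
      refine (mem_ker_iff (hG x) _).2 ⟨n, ?_⟩
      have hGn : G x ^ n ∈ ((𝓔 ^ n).ideal V).map (res x) := by
        rw [show ((𝓔 ^ n).ideal V).map (res x) = (𝓔 ^ n).ideal (P.affineBasicOpen (r x)) from
          (𝓔 ^ n).map_ideal_basicOpen V (r x), Scheme.IdealSheafData.ideal_pow, Pi.pow_apply, hG x]
        exact Ideal.pow_mem_pow (Ideal.mem_span_singleton_self _) n
      have hann : (𝓔 ^ n).ideal V ≤ (Submodule.span Γ(P, V.1) {a}).annihilator := fun e he => by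
        rw [Submodule.mem_annihilator_span_singleton]
        exact hn e he
      have : ∀ z ∈ ((𝓔 ^ n).ideal V).map (res x), z * res x a = 0 := by
        intro z hz
        induction hz using Submodule.span_induction with
        | mem z hz =>
          obtain ⟨e, he, rfl⟩ := hz
          have h0 : e * a = 0 := (Submodule.mem_annihilator_span_singleton a e).1 (hann he)
          rw [← map_mul, h0, map_zero]
        | zero => exact zero_mul _
        | add y z _ _ hy hz => rw [add_mul, hy, hz, add_zero]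
        | smul c z _ hz => rw [smul_eq_mul, mul_assoc, hz, mul_zero]
      exact this _ hGn
    let K := (ModPair.interior 𝓔).ι.ker
    suffices hs : Ideal.span {a} ≤ K.ideal V from hs (Ideal.mem_span_singleton_self a)
    rw [V.2.ideal_le_iff]
    intro p hp
    obtain ⟨x, -, hpx⟩ := Set.mem_iUnion₂.1 (ht hp)
    rw [Ideal.map_span, Set.image_singleton, Ideal.span_singleton_le_iff_mem]
    have h2 := Ideal.mem_map_of_mem (P.presheaf.germ (P.basicOpen (r x)) p hpx).hom (hloc x)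
    erw [← K.map_ideal_basicOpen V (r x), Ideal.map_map, ← CommRingCat.hom_comp, TopCat.Presheaf.germ_res] at h2
    erw [TopCat.Presheaf.germ_res_apply] at h2
    exact h2
  · intro ha
    have hres : ∀ x, res x a ∈ (ModPair.interior 𝓔).ι.ker.ideal (P.affineBasicOpen (r x)) := fun x =>
      (ModPair.interior 𝓔).ι.ker.ideal_le_comap_ideal (U := P.affineBasicOpen (r x)) (V := V) (P.basicOpen_le _) ha
    choose n hn using fun x => (mem_ker_iff (hG x) _).1 (hres x)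
    refine ⟨t.sup n, fun e he => ?_⟩
    show e * a = 0
    refine TopCat.Sheaf.eq_of_locally_eq' P.sheaf (fun x : t => P.basicOpen (r x.1)) V.1
      (fun x => homOfLE (P.basicOpen_le _)) (fun p hp => ?_) _ _ fun x => ?_
    · obtain ⟨x, hx, hpx⟩ := Set.mem_iUnion₂.1 (ht hp)
      exact Opens.mem_iSup.2 ⟨⟨x, hx⟩, hpx⟩
    show res x.1 (e * a) = res x.1 0
    rw [map_mul, map_zero]
    have h1 : res x.1 e ∈ (𝓔 ^ t.sup n).ideal (P.affineBasicOpen (r x.1)) :=
      (𝓔 ^ t.sup n).ideal_le_comap_ideal (U := P.affineBasicOpen (r x.1)) (V := V) (P.basicOpen_le _) he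
    rw [Scheme.IdealSheafData.ideal_pow, Pi.pow_apply, hG x.1] at h1
    erw [Ideal.span_singleton_pow] at h1
    obtain ⟨c, hc⟩ := Ideal.mem_span_singleton'.1 h1
    rw [← hc, ← Nat.sub_add_cancel (Finset.le_sup x.2 (f := n)), pow_add, mul_assoc, mul_assoc]
    erw [hn x.1]
    erw [mul_zero, mul_zero]

/-- The ideal of sections killed by powers is the ideal of the closure of the complement. -/
theorem strictIdeal_eq_ker (h : IsLocPrincipalIdeal 𝓔) [QuasiCompact (ModPair.interior 𝓔).ι]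
    {𝒥 : P.IdealSheafData} (h𝒥 : ∀ (V : P.affineOpens) (a : Γ(P, V.1)), a ∈ 𝒥.ideal V ↔
      BlowUp.KilledByPowerNear 𝓔 (Coh.structureModule P) V a) :
    𝒥 = (ModPair.interior 𝓔).ι.ker := by
  refine Scheme.IdealSheafData.ext (funext fun V => Ideal.ext fun a => ?_)
  rw [h𝒥 V a, killed_iff_mem_ker h V a]

/-- The basic properties of a closure of the complement of a pulled back Cartier divisor. -/
theorem strict_basic {T : Scheme.{u}} {E : T.IdealSheafData} (hE : BlowUp.IsEffCartierIdeal E) (p : P ⟶ T)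
    {𝒥 : P.IdealSheafData} (h𝒥 : ∀ (V : P.affineOpens) (a : Γ(P, V.1)), a ∈ 𝒥.ideal V ↔
      BlowUp.KilledByPowerNear (E.comap p) (Coh.structureModule P) V a) :
    IsIso (𝒥.subschemeι ∣_ (p ⁻¹ᵁ ModPair.interior E)) ∧
      BlowUp.IsEffCartierIdeal (E.comap (𝒥.subschemeι ≫ p)) := by
  haveI := quasiCompact_interior (isLocPrincipal_comap hE p)
  have he := strictIdeal_eq_ker (isLocPrincipal_comap hE p) h𝒥
  rw [ModPairLib.interior_comap] at he
  haveI hq : QuasiCompact (p ⁻¹ᵁ ModPair.interior E).ι := by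
    have : IsAffineHom (p ⁻¹ᵁ ModPair.interior E).ι :=
      ModPairLib.isAffineHom_preimage p (ModPairLib.isAffineHom_interior hE)
    infer_instance
  subst he
  haveI := ModPairLib.isDominant_toImage (f := (p ⁻¹ᵁ ModPair.interior E).ι)
  refine ⟨ModPairLib.isIso_imageι_restrict _, ?_⟩
  refine ModPairLib.isEffCartier_comap_of_dominant hE _ (p ⁻¹ᵁ ModPair.interior E).ι.toImage fun z => ?_
  show ((p ⁻¹ᵁ ModPair.interior E).ι.toImage ≫ (p ⁻¹ᵁ ModPair.interior E).ι.imageι ≫ p) z ∈ _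
  rw [Scheme.Hom.toImage_imageι_assoc]
  exact z.2

variable {X S : Scheme.{u}}

/-- Strict transforms exist. -/
theorem exists_strictIdeal {T : Scheme.{u}} {E : T.IdealSheafData} (hE : BlowUp.IsEffCartierIdeal E) (p : P ⟶ T) :
    ∃ 𝒥 : P.IdealSheafData, ∀ (V : P.affineOpens) (a : Γ(P, V.1)), a ∈ 𝒥.ideal V ↔
      BlowUp.KilledByPowerNear (E.comap p) (Coh.structureModule P) V a := by
  haveI := quasiCompact_interior (isLocPrincipal_comap hE p)
  exact ⟨_, fun V a => (killed_iff_mem_ker (isLocPrincipal_comap hE p) V a).symm⟩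

/-- Exceptional ideals read on the two sides of a square. -/
theorem exceptional_eq {S' X' : Scheme.{u}} {f : X ⟶ S} {b : S' ⟶ S} {p₁ : X' ⟶ X} {p₂ : X' ⟶ S'}
    (hpb : IsPullback p₁ p₂ f b) (𝓚 : S.IdealSheafData) :
    (𝓚.comap f).comap p₁ = (𝓚.comap b).comap p₂ := by
  rw [← Scheme.IdealSheafData.comap_comp, hpb.w, Scheme.IdealSheafData.comap_comp]

/-- An admissible ideal with support exactly the complement, times a given one. -/
theorem exists_exact_mul [CompactSpace S] [QuasiSeparatedSpace S] {U : S.Opens} (hU : IsCompact (U : Set S))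
    {𝓘 : S.IdealSheafData} (h𝓘 : BlowUp.IsAdmissibleFor U 𝓘) :
    ∃ 𝓛 : S.IdealSheafData, Disjoint (𝓛.support : Set S) (U : Set S) ∧ BlowUp.IsAdmissibleFor U (𝓘 * 𝓛) ∧
      ModPair.interior (𝓘 * 𝓛) = U := by
  obtain ⟨𝓛, hfg, hs⟩ := MiscFlat6.exists_finiteType_idealSheaf U hU
  have hd : Disjoint (𝓛.support : Set S) (U : Set S) := by rw [hs]; exact disjoint_compl_left
  refine ⟨𝓛, hd, ⟨fun V => ?_, ?_⟩, ?_⟩
  · rw [Scheme.IdealSheafData.ideal_mul, Pi.mul_apply]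
    exact (h𝓘.1 V).mul (hfg V)
  · rw [Scheme.IdealSheafData.support_mul]
    exact Set.disjoint_left.2 fun x hx hxU => hx.elim (fun h => Set.disjoint_left.1 h𝓘.2 h hxU)
      fun h => Set.disjoint_left.1 hd h hxU
  · ext x
    show x ∉ (𝓘 * 𝓛).support ↔ x ∈ U
    rw [Scheme.IdealSheafData.support_mul]
    refine ⟨fun hx => by_contra fun hxU => hx (Or.inr (hs.ge hxU)), fun hxU hx => ?_⟩
    exact hx.elim (fun h => Set.disjoint_left.1 h𝓘.2 h hxU) fun h => Set.disjoint_left.1 hd h hxU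

/-- Over the open, the strict transform is the base change. -/
theorem strict_restrict {S' X' : Scheme.{u}} {f : X ⟶ S} {U : S.Opens} {b : S' ⟶ S} {p₁ : X' ⟶ X} {p₂ : X' ⟶ S'}
    (hpb : IsPullback p₁ p₂ f b) (Q : MorphismProperty Scheme.{u}) [Q.IsStableUnderBaseChange] [Q.RespectsIso]
    (hQ : Q (f ∣_ U)) {𝒥 : X'.IdealSheafData} (hι : IsIso (𝒥.subschemeι ∣_ (p₂ ⁻¹ᵁ b ⁻¹ᵁ U))) :
    Q ((𝒥.subschemeι ≫ p₂) ∣_ (b ⁻¹ᵁ U)) := by
  haveI := hι
  rw [morphismRestrict_comp]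
  refine (MorphismProperty.cancel_left_of_respectsIso Q (𝒥.subschemeι ∣_ (p₂ ⁻¹ᵁ b ⁻¹ᵁ U))
    (p₂ ∣_ (b ⁻¹ᵁ U))).mpr ?_
  have e : p₂ ⁻¹ᵁ b ⁻¹ᵁ U = p₁ ⁻¹ᵁ f ⁻¹ᵁ U := by
    rw [← Scheme.Hom.comp_preimage, ← Scheme.Hom.comp_preimage, hpb.w]
  have h1 : IsPullback ((p₂ ∣_ (b ⁻¹ᵁ U))) ((p₂ ⁻¹ᵁ b ⁻¹ᵁ U).ι ≫ p₁) ((b ⁻¹ᵁ U).ι ≫ b) f := by
    have := (isPullback_morphismRestrict p₂ (b ⁻¹ᵁ U)).flip.paste_horiz hpb
    exact IsPullback.flip this
  rw [← morphismRestrict_ι b U] at h1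
  let l : ((p₂ ⁻¹ᵁ b ⁻¹ᵁ U : X'.Opens) : Scheme.{u}) ⟶ (f ⁻¹ᵁ U : X.Opens) :=
    IsOpenImmersion.lift (f ⁻¹ᵁ U).ι ((p₂ ⁻¹ᵁ b ⁻¹ᵁ U).ι ≫ p₁) (by
      rw [Scheme.Opens.range_ι]
      rintro _ ⟨z, rfl⟩
      exact e.le z.2)
  have hl : l ≫ (f ⁻¹ᵁ U).ι = (p₂ ⁻¹ᵁ b ⁻¹ᵁ U).ι ≫ p₁ := IsOpenImmersion.lift_fac _ _ _
  have h2 : IsPullback (p₂ ∣_ (b ⁻¹ᵁ U)) l (b ∣_ U) (f ∣_ U) := by
    have h3 := isPullback_morphismRestrict f U
    refine IsPullback.of_right (h₁₂ := (f ⁻¹ᵁ U).ι) ?_ ?_ h3.flip |>.flip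
    · rw [hl]; exact h1.flip
    · rw [← cancel_mono U.ι, Category.assoc, morphismRestrict_ι, reassoc_of% hl, Category.assoc, morphismRestrict_ι,
        ← Category.assoc (p₂ ∣_ (b ⁻¹ᵁ U)), morphismRestrict_ι, Category.assoc, hpb.w]
  exact MorphismProperty.of_isPullback h2.flip hQ

end RGFlatLib
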