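import Mathlib
import Groth.Agent.RGFlatLib.Strict

/-!
# A blow-up flattening a morphism, with centre supported exactly off the open
-/

set_option autoImplicit false

noncomputable section

universe u

open CategoryTheory CategoryTheory.Limits AlgebraicGeometry TopologicalSpace

namespace RGFlatLib

variable {X S : Scheme.{u}}

/-- An admissible blow-up with centre supported exactly off `U` flattening the strict transform of `f`. -/
theorem exists_flattening_blowUp [CompactSpace S] [QuasiSeparatedSpace S] (f : X ⟶ S) [LocallyOfFiniteType f]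
    [QuasiCompact f] (U : S.Opens) (hU : IsCompact (U : Set S)) [Flat (f ∣_ U)]
    [LocallyOfFinitePresentation (f ∣_ U)] :
    ∃ (𝓚 : S.IdealSheafData) (S' : Scheme.{u}) (b : S' ⟶ S), BlowUp.IsBlowUp b 𝓚 ∧
      BlowUp.IsAdmissibleFor U 𝓚 ∧ IsProper b ∧ IsIso (b ∣_ U) ∧
      ModPair.interior (𝓚.comap b) = b ⁻¹ᵁ U ∧
      ∀ (X' : Scheme.{u}) (p₁ : X' ⟶ X) (p₂ : X' ⟶ S'), IsPullback p₁ p₂ f b →
      ∀ (𝒥 : X'.IdealSheafData),
        (∀ (V : X'.affineOpens) (a : Γ(X', V.1)), a ∈ 𝒥.ideal V ↔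
          BlowUp.KilledByPowerNear ((𝓚.comap f).comap p₁) (Coh.structureModule X') V a) →
        Flat (𝒥.subschemeι ≫ p₂) ∧ LocallyOfFinitePresentation (𝒥.subschemeι ≫ p₂) ∧
          QuasiCompact (𝒥.subschemeι ≫ p₂) ∧ IsIso (𝒥.subschemeι ∣_ (p₂ ⁻¹ᵁ b ⁻¹ᵁ U)) ∧
          BlowUp.IsEffCartierIdeal ((𝓚.comap b).comap (𝒥.subschemeι ≫ p₂)) := by
  obtain ⟨𝓘, hadm, hflat⟩ := exists_admissible_flattening f U hU
  obtain ⟨𝓛, hL, hKadm, hint⟩ := exists_exact_mul hU hadm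
  obtain ⟨S', b, hb⟩ := BlowUpLib.exists_isBlowUp S (𝓘 * 𝓛)
  have hint' : ModPair.interior ((𝓘 * 𝓛).comap b) = b ⁻¹ᵁ U := by rw [ModPairLib.interior_comap, hint]
  refine ⟨𝓘 * 𝓛, S', b, hb, hKadm, BlowUpLib.isProper_of_isBlowUp hb hKadm.1,
    EffCartLib.isIso_off_center _ b hb U (le_of_eq hint.symm), hint', fun X' p₁ p₂ hpb 𝒥 h𝒥 => ?_⟩
  obtain ⟨h1, h2⟩ := hflat 𝓛 hL S' b hb.1 X' p₁ p₂ hpb 𝒥 h𝒥
  rw [exceptional_eq hpb] at h𝒥
  obtain ⟨hiso, hcart⟩ := strict_basic hb.1 p₂ h𝒥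
  rw [hint'] at hiso
  haveI : QuasiCompact p₂ := MorphismProperty.of_isPullback hpb ‹QuasiCompact f›
  exact ⟨h1, h2, inferInstance, hiso, hcart⟩

/-- A morphism that is a monomorphism over the complement of a Cartier divisor, with flat source and separated,
is a monomorphism. -/
theorem mono_of_flat_of_interior {Z T : Scheme.{u}} (Φ : Z ⟶ T) [Flat Φ] [IsSeparated Φ]
    {E : T.IdealSheafData} (hE : BlowUp.IsEffCartierIdeal E) [IsIso (Φ ∣_ ModPair.interior E)] : Mono Φ := by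
  have h12 : pullback.fst Φ Φ = pullback.snd Φ Φ := by
    haveI : Flat (pullback.fst Φ Φ ≫ Φ) := inferInstance
    have hK := BlowUpLib.isEffCartier_comap_of_flat (pullback.fst Φ Φ ≫ Φ) hE
    refine ModPairLib.ext_of_interior hK Φ pullback.condition ?_
    rw [ModPairLib.interior_comap]
    let O := (pullback.fst Φ Φ ≫ Φ) ⁻¹ᵁ ModPair.interior E
    have hr : ∀ (p : pullback Φ Φ ⟶ Z), p ≫ Φ = pullback.fst Φ Φ ≫ Φ →
        Set.range (O.ι ≫ p) ⊆ Set.range (Φ ⁻¹ᵁ ModPair.interior E).ι := by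
      intro p hp
      rw [Scheme.Opens.range_ι]
      rintro _ ⟨z, rfl⟩
      show Φ (p z.1) ∈ ModPair.interior E
      rw [← Scheme.Hom.comp_apply, hp]
      exact z.2
    let l₁ := IsOpenImmersion.lift _ _ (hr (pullback.fst Φ Φ) rfl)
    let l₂ := IsOpenImmersion.lift _ _ (hr (pullback.snd Φ Φ) pullback.condition.symm)
    have h : l₁ = l₂ := by
      rw [← cancel_mono (Φ ∣_ ModPair.interior E), ← cancel_mono (ModPair.interior E).ι, Category.assoc,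
        Category.assoc, morphismRestrict_ι, IsOpenImmersion.lift_fac_assoc, IsOpenImmersion.lift_fac_assoc,
        Category.assoc, Category.assoc, pullback.condition]
    show O.ι ≫ _ = O.ι ≫ _
    rw [← IsOpenImmersion.lift_fac (Φ ⁻¹ᵁ ModPair.interior E).ι _ (hr (pullback.fst Φ Φ) rfl),
      ← IsOpenImmersion.lift_fac (Φ ⁻¹ᵁ ModPair.interior E).ι _ (hr (pullback.snd Φ Φ) pullback.condition.symm)]
    exact congrArg (· ≫ _) h
  refine ⟨fun g h e => ?_⟩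
  rw [← pullback.lift_fst g h e, h12, pullback.lift_snd]

/-- A closed open immersion containing the complement of a Cartier divisor is an isomorphism. -/
theorem isIso_of_proper_of_interior {Z T : Scheme.{u}} (Φ : Z ⟶ T) [IsOpenImmersion Φ] [IsProper Φ]
    {E : T.IdealSheafData} (hE : BlowUp.IsEffCartierIdeal E) [IsIso (Φ ∣_ ModPair.interior E)] : IsIso Φ := by
  haveI : Surjective Φ := by
    refine ⟨fun y => ?_⟩
    obtain ⟨η, hη, hηy⟩ := ModPairLib.exists_specializes hE y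
    refine hηy.mem_closed Φ.isClosedMap.isClosed_range ?_
    obtain ⟨z, hz⟩ := (Scheme.Hom.surjective (Φ ∣_ ModPair.interior E)) ⟨η, hη⟩
    refine ⟨z.1, ?_⟩
    have h2 := congrArg (fun w => (ModPair.interior E).ι w) hz
    simp only [← Scheme.Hom.comp_apply] at h2
    rw [morphismRestrict_ι] at h2
    exact h2
  exact (isIso_iff_isOpenImmersion_and_surjective Φ).mpr ⟨inferInstance, inferInstance⟩

/-- A base change of a morphism which is an isomorphism over an open is one over the preimage. -/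
theorem isIso_restrict_of_isPullback {S' X' : Scheme.{u}} {f : X ⟶ S} {b : S' ⟶ S} {p₁ : X' ⟶ X} {p₂ : X' ⟶ S'}
    (hpb : IsPullback p₁ p₂ f b) {U : S.Opens} (hb : IsIso (b ∣_ U)) : IsIso (p₁ ∣_ (f ⁻¹ᵁ U)) := by
  have h1 : IsPullback ((p₁ ⁻¹ᵁ f ⁻¹ᵁ U).ι ≫ p₂) (p₁ ∣_ (f ⁻¹ᵁ U)) b ((f ⁻¹ᵁ U).ι ≫ f) :=
    (isPullback_morphismRestrict p₁ (f ⁻¹ᵁ U)).flip.paste_horiz hpb.flip
  rw [← morphismRestrict_ι f U] at h1
  let l : ((p₁ ⁻¹ᵁ f ⁻¹ᵁ U : X'.Opens) : Scheme.{u}) ⟶ (b ⁻¹ᵁ U : S'.Opens) :=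
    IsOpenImmersion.lift (b ⁻¹ᵁ U).ι ((p₁ ⁻¹ᵁ f ⁻¹ᵁ U).ι ≫ p₂) (by
      rw [Scheme.Opens.range_ι]
      rintro _ ⟨z, rfl⟩
      show b (p₂ z.1) ∈ U
      rw [← Scheme.Hom.comp_apply, ← hpb.w]
      exact z.2)
  have hl : l ≫ (b ⁻¹ᵁ U).ι = (p₁ ⁻¹ᵁ f ⁻¹ᵁ U).ι ≫ p₂ := IsOpenImmersion.lift_fac _ _ _
  have h2 : IsPullback l (p₁ ∣_ (f ⁻¹ᵁ U)) (b ∣_ U) (f ∣_ U) := by
    refine IsPullback.of_right (h₁₂ := (b ⁻¹ᵁ U).ι) ?_ ?_ (isPullback_morphismRestrict b U).flip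
    · rw [hl]; exact h1
    · rw [← cancel_mono U.ι, Category.assoc, morphismRestrict_ι, reassoc_of% hl, Category.assoc, morphismRestrict_ι,
        ← Category.assoc (p₁ ∣_ (f ⁻¹ᵁ U)), morphismRestrict_ι, Category.assoc, hpb.w]
  haveI := hb
  exact MorphismProperty.of_isPullback (P := MorphismProperty.isomorphisms Scheme.{u}) h2 hb

end RGFlatLib
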