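import Groth.Agent.RGFlatLib.Descend
import Groth.Agent.S1683

/-!
# Composites of blow-ups in finite type centres
-/

set_option autoImplicit false
universe u
open CategoryTheory CategoryTheory.Limits AlgebraicGeometry TopologicalSpace

namespace RGFlatLib

variable {X X' X'' : Scheme.{u}} {b : X' ⟶ X} {b' : X'' ⟶ X'} {𝓘 : X.IdealSheafData} {J : X'.IdealSheafData}

theorem isEffCartier_pow {I : X.IdealSheafData} (h : BlowUp.IsEffCartierIdeal I) :
    ∀ n : ℕ, BlowUp.IsEffCartierIdeal (I ^ n)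
  | 0 => by
    rw [pow_zero, show (1 : X.IdealSheafData) = ⊤ from
      Scheme.IdealSheafData.ext (funext fun U => by simp [Scheme.IdealSheafData.ideal_top])]
    exact EffCartLib.isEffCartier_top
  | n + 1 => by rw [pow_succ]; exact SDivLib.isEffCartier_mul (isEffCartier_pow h n) h

/-- A composite of blow-ups in finite type centres is a blow-up in a finite type centre. -/
theorem exists_blowUp_comp [CompactSpace X] [QuasiSeparatedSpace X] (hb : BlowUp.IsBlowUp b 𝓘)
    (h𝓘 : BlowUp.IsFiniteTypeIdeal 𝓘) (hb' : BlowUp.IsBlowUp b' J) (hJ : BlowUp.IsFiniteTypeIdeal J) :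
    ∃ K : X.IdealSheafData, BlowUp.IsFiniteTypeIdeal K ∧
      (K.support : Set X) = (𝓘.support : Set X) ∪ b '' (J.support : Set X') ∧ BlowUp.IsBlowUp (b' ≫ b) K := by
  obtain ⟨N, K, hKfg, hK⟩ := exists_descend hb h𝓘 J hJ
  have hb'' : BlowUp.IsBlowUp b' (K.comap b) := by
    rw [hK, mul_comm]
    exact BlowUpLib.isBlowUp_mul_effCartier hb' (isEffCartier_pow hb.1 N)
  refine ⟨𝓘 * K, fun W => ?_, ?_, Groth.Agent.S1683.result 𝓘 K b hb b' hb''⟩
  · rw [Scheme.IdealSheafData.ideal_mul, Pi.mul_apply]; exact Submodule.FG.mul (h𝓘 W) (hKfg W)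
  have hpre : ∀ x' : X', b x' ∈ (K.support : Set X) ↔
      x' ∈ (((𝓘.comap b) ^ N).support : Set X') ∪ (J.support : Set X') := by
    intro x'
    have := congrArg (fun Z : X'.IdealSheafData => (Z.support : Set X')) hK
    simp only [Scheme.IdealSheafData.support_comap, Scheme.IdealSheafData.support_mul] at this
    exact (Set.ext_iff.mp this x')
  have hN : ∀ x', x' ∈ (((𝓘.comap b) ^ N).support : Set X') → b x' ∈ (𝓘.support : Set X) := by
    intro x' hx'
    rcases Nat.eq_zero_or_pos N with rfl | hN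
    · exfalso
      rw [pow_zero] at hx'
      simpa [show (1 : X'.IdealSheafData) = ⊤ from
        Scheme.IdealSheafData.ext (funext fun U => by simp [Scheme.IdealSheafData.ideal_top])] using hx'
    · rw [Scheme.IdealSheafData.support_pow _ _ hN.ne', Scheme.IdealSheafData.support_comap] at hx'
      exact hx'
  ext x
  rw [Scheme.IdealSheafData.support_mul]
  constructor
  · rintro (h | h)
    · exact Or.inl h
    · by_cases hx : x ∈ (𝓘.support : Set X)
      · exact Or.inl hx
      · haveI := EffCartLib.isIso_off_center 𝓘 b hb _ (le_refl 𝓘.support.compl)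
        obtain ⟨⟨x', hx'⟩, hxx'⟩ := (b ∣_ 𝓘.support.compl).homeomorph.surjective ⟨x, hx⟩
        have hb' : b x' = x := by
          have := congrArg Subtype.val hxx'
          rw [Scheme.Hom.homeomorph_apply, morphismRestrict_base_coe] at this
          exact this
        refine Or.inr ⟨x', ?_, hb'⟩
        rcases (hpre x').mp (by rw [hb']; exact h) with h1 | h1
        · exact absurd (hb' ▸ hN x' h1) hx
        · exact h1
  · rintro (h | ⟨x', hx', rfl⟩)
    · exact Or.inl h
    · exact Or.inr ((hpre x').mpr (Or.inr hx'))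

/-- Composites of admissible blow-ups are admissible blow-ups. -/
theorem exists_admissible_comp [CompactSpace X] [QuasiSeparatedSpace X] {U : X.Opens}
    (hb : BlowUp.IsBlowUp b 𝓘) (ha : BlowUp.IsAdmissibleFor U 𝓘) (hb' : BlowUp.IsBlowUp b' J)
    (ha' : BlowUp.IsAdmissibleFor (b ⁻¹ᵁ U) J) :
    ∃ K : X.IdealSheafData, BlowUp.IsAdmissibleFor U K ∧ BlowUp.IsBlowUp (b' ≫ b) K := by
  obtain ⟨K, hK, hsupp, hbl⟩ := exists_blowUp_comp hb ha.1 hb' ha'.1
  refine ⟨K, ⟨hK, ?_⟩, hbl⟩
  rw [hsupp]
  refine Disjoint.union_left ha.2 (Set.disjoint_left.2 ?_)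
  rintro _ ⟨x', hx', rfl⟩ hxU
  exact Set.disjoint_left.mp ha'.2 hx' hxU

end RGFlatLib
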