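import Groth.Prelude
import Groth.Agent.RGFlatLib.Extend

/-!
# Extending a finite type ideal from a quasi-compact open
-/

set_option autoImplicit false

universe u
open CategoryTheory CategoryTheory.Limits TopologicalSpace Opposite AlgebraicGeometry

noncomputable section

namespace RGFlatLib

open QCohLib QCohLib.LocSub MiscFlat6

variable {X : Scheme.{u}}

/-- The sections of a quasi-coherent ideal, seen only on `V`. -/
def sectionsOf (I : X.IdealSheafData) (V : X.Opens) : LocSub (Coh.structureModule X) where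
  mem O a := ∀ W : X.affineOpens, ∀ h : W.1 ≤ O, W.1 ≤ V →
    X.presheaf.map (homOfLE h).op (OmegaSh.fnSect X O a) ∈ I.ideal W
  zero O W h _ := by rw [show OmegaSh.fnSect X O 0 = (0 : Γ(X, O)) from rfl, map_zero]; exact zero_mem _
  add {O a b} ha hb W h hV := by
    rw [show OmegaSh.fnSect X O (a + b) = (OmegaSh.fnSect X O a + OmegaSh.fnSect X O b : Γ(X, O)) from rfl, map_add]
    exact add_mem (ha W h hV) (hb W h hV)
  smul {O} r {a} ha W h hV := by
    rw [show OmegaSh.fnSect X O (r • a) = (r * OmegaSh.fnSect X O a : Γ(X, O)) from rfl, map_mul]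
    exact Ideal.mul_mem_left _ _ (ha W h hV)
  res {O O'} h {a} ha W hW hV := by
    have := ha W (hW.trans h) hV
    change X.presheaf.map (homOfLE hW).op (X.presheaf.map (homOfLE h).op (OmegaSh.fnSect X O a)) ∈ _
    rw [← CommRingCat.comp_apply, ← Functor.map_comp, ← op_comp, homOfLE_comp]
    exact this
  local' {O} a hloc W h hV := by
    suffices hs : Ideal.span {X.presheaf.map (homOfLE h).op (OmegaSh.fnSect X O a)} ≤ I.ideal W from
      hs (Ideal.mem_span_singleton_self _)
    rw [W.2.ideal_le_iff]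
    intro p hp
    rw [Ideal.map_span, Set.image_singleton, Ideal.span_singleton_le_iff_mem]
    obtain ⟨O', hO', hpO', hm⟩ := hloc p (h hp)
    obtain ⟨_, ⟨D, hD, rfl⟩, hpD, hDle⟩ := X.isBasis_affineOpens.exists_subset_of_mem_open
      (show p ∈ ((W.1 ⊓ O' : X.Opens) : Set X) from ⟨hp, hpO'⟩) (W.1 ⊓ O').isOpen
    have hDO' : D ≤ O' := fun y hy => (hDle hy).2
    have hDW : D ≤ W.1 := fun y hy => (hDle hy).1
    have h1 := hm ⟨D, hD⟩ hDO' (hDW.trans hV)
    change X.presheaf.map (homOfLE hDO').op (X.presheaf.map (homOfLE hO').op (OmegaSh.fnSect X O a)) ∈ _ at h1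
    rw [← I.map_ideal (U := ⟨D, hD⟩) (V := W) hDW] at h1
    have h2 := Ideal.mem_map_of_mem (X.presheaf.germ D p hpD).hom h1
    rw [TopCat.Presheaf.germ_res_apply, TopCat.Presheaf.germ_res_apply, Ideal.map_map,
      ← CommRingCat.hom_comp] at h2
    erw [TopCat.Presheaf.germ_res] at h2
    rw [TopCat.Presheaf.germ_res_apply]
    exact h2

theorem sectionsOf_mem_iff (I : X.IdealSheafData) {V : X.Opens} (W : X.affineOpens) (hW : W.1 ≤ V)
    (a : Γ(Coh.structureModule X, W.1)) :
    (sectionsOf I V).mem W.1 a ↔ OmegaSh.fnSect X W.1 a ∈ I.ideal W := by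
  refine ⟨fun h => by simpa using h W le_rfl hW, fun h W' hW' _ => ?_⟩
  exact I.ideal_le_comap_ideal (U := W') (V := W) hW' h

/-- A local finite type submodule of the structure sheaf extends to a finite type ideal sheaf. -/
theorem exists_ideal_of_localSub [CompactSpace X] [QuasiSeparatedSpace X] (V₀ : X.Opens)
    (hV₀ : IsCompact (V₀ : Set X)) (S₀ : LocSub (Coh.structureModule X)) (hc₀ : Canon S₀ V₀)
    (hft₀ : FTBelow S₀ V₀) :
    ∃ 𝓘 : X.IdealSheafData, (∀ V : X.affineOpens, (𝓘.ideal V).FG) ∧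
      ∀ O : X.affineOpens, O.1 ≤ V₀ → 𝓘.ideal O = idealOf S₀ O.1 := by
  classical
  haveI : Coh.IsQCoh (Coh.structureModule X) := QCohLib.isQCoh_unit
  have key : ∀ t : Finset X.affineOpens, ∃ (V : X.Opens) (S : LocSub (Coh.structureModule X)), V₀ ≤ V ∧
      (∀ O ∈ t, O.1 ≤ V) ∧ IsCompact (V : Set X) ∧ Canon S V ∧ FTBelow S V ∧
      ∀ O ≤ V₀, ∀ a, S.mem O a ↔ S₀.mem O a := by
    intro t
    induction t using Finset.induction_on with
    | empty => exact ⟨V₀, S₀, le_rfl, fun O hO => absurd hO (Finset.notMem_empty O), hV₀, hc₀, hft₀,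
        fun _ _ _ => Iff.rfl⟩
    | insert O t hOt ih =>
      obtain ⟨V, S, hUV, htV, hV, hc, hft, hag⟩ := ih
      obtain ⟨S', h1, h2, h3⟩ := exists_extend_affine S hc hft O.2
        (QuasiSeparatedSpace.inter_isCompact _ _ O.1.isOpen O.2.isCompact V.isOpen hV)
      exact ⟨V ⊔ O.1, S', hUV.trans le_sup_left, fun O' hO' => (Finset.mem_insert.mp hO').elim
        (fun e => e ▸ le_sup_right) fun h => (htV O' h).trans le_sup_left,
        hV.union O.2.isCompact, h1, h2, fun O' hO' a => (h3 O' (hO'.trans hUV) a).trans (hag O' hO' a)⟩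
  obtain ⟨t, ht⟩ : ∃ t : Finset X.affineOpens, (Set.univ : Set X) ⊆ ⋃ V ∈ t, (V.1 : Set X) :=
    isCompact_univ.elim_finite_subcover (fun V : X.affineOpens => (V.1 : Set X))
      (fun V => V.1.isOpen) (fun p _ => by
        obtain ⟨V, hV, hp⟩ := exists_affine_nhd p
        exact Set.mem_iUnion.mpr ⟨⟨V, hV⟩, hp⟩)
  obtain ⟨V, S, -, htV, -, -, hft, hag⟩ := key t
  obtain rfl : V = ⊤ := eq_top_iff.mpr fun p _ => by
    obtain ⟨O, hO, hpO⟩ := Set.mem_iUnion₂.mp (ht (Set.mem_univ p))
    exact htV O hO hpO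
  let 𝓘 : X.IdealSheafData :=
    { ideal := fun V => idealOf S V.1
      map_ideal_basicOpen := fun V f => by
        refine le_antisymm (Ideal.map_le_iff_le_comap.mpr fun a ha => S.res (X.basicOpen_le f) ha) ?_
        intro b hb
        obtain ⟨N, m, hm⟩ := (localizingAt_of_isQCoh V.2 (Coh.structureModule X) f).exists_extend b
        obtain ⟨k, hk⟩ := exists_pow_smul_mem S (canon_top S) hft V.2
          (by rw [inf_top_eq]; exact V.2.isCompact) f m (by
            have h1 := S.res (inf_le_left : X.basicOpen f ⊓ ⊤ ≤ X.basicOpen f) (hm ▸ S.smul _ hb)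
            rw [map_map'] at h1
            exact h1)
        let u := X.presheaf.map (homOfLE (X.basicOpen_le f)).op f
        have hu : IsUnit (u ^ (k + N)) := (isUnit_res f le_rfl).pow _
        have key : u ^ (k + N) * b =
            X.presheaf.map (homOfLE (X.basicOpen_le f)).op (f ^ k * OmegaSh.fnSect X V.1 m) := by
          rw [map_mul, map_pow, pow_add, mul_assoc]
          exact congrArg _ hm.symm
        have hmem := Ideal.mem_map_of_mem (X.presheaf.map (homOfLE (X.basicOpen_le f)).op).hom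
          (show f ^ k * OmegaSh.fnSect X V.1 m ∈ idealOf S V.1 from hk)
        rw [← Ideal.unit_mul_mem_iff_mem _ hu, key]
        exact hmem }
  refine ⟨𝓘, fun V => ?_, fun O hO => Ideal.ext fun a => hag O.1 hO a⟩
  · haveI := isQCoh_toModules S hft
    obtain ⟨t, ht⟩ := (finite_of_isFT (isFT_toModules S hft) V.2).fg_top
    refine ⟨t.image fun z => OmegaSh.fnSect X V.1 (S.ι.app V.1 z), le_antisymm ?_ fun a ha => ?_⟩
    · refine Submodule.span_le.mpr fun z hz => ?_
      obtain ⟨z, -, rfl⟩ := Finset.mem_image.mp (Finset.mem_coe.mp hz)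
      exact S.ι_app_mem z
    · have hz := ht.ge (Submodule.mem_top (x := S.lift a ha))
      change (fun z => OmegaSh.fnSect X V.1 (S.ι.app V.1 z)) (S.lift a ha) ∈ Submodule.span _ _
      generalize S.lift a ha = z at hz ⊢
      induction hz using Submodule.span_induction with
      | mem z hz => exact Submodule.subset_span (Finset.mem_coe.mpr (Finset.mem_image_of_mem _ hz))
      | zero => simp
      | add y z _ _ hy hz => simpa using add_mem hy hz
      | smul c y _ hy =>
        simp only [app_smul]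
        exact Submodule.smul_mem _ c hy

theorem map_comap_of_isOpenImmersion {Y : Scheme.{u}} (f : Y ⟶ X) [IsOpenImmersion f] [QuasiCompact f]
    (I : Y.IdealSheafData) : (I.map f).comap f = I := by
  refine le_antisymm (Scheme.IdealSheafData.comap_map_le _ _) fun W a ha => ?_
  rw [Scheme.IdealSheafData.ideal_comap_of_isOpenImmersion, Ideal.mem_comap,
    Scheme.IdealSheafData.ideal_map _ _ _ ((f.preimage_image_eq W.1).symm ▸ W.2), Ideal.mem_comap,
    ← CommRingCat.comp_apply, Scheme.Hom.appIso_inv_app]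
  refine I.ideal_le_comap_ideal (U := ⟨f ⁻¹ᵁ (f ''ᵁ W.1), (f.preimage_image_eq W.1).symm ▸ W.2⟩) (V := W) ?_ ha

/-- A finite type ideal on a quasi-compact open, trivial on `U`, extends keeping both properties. -/
theorem exists_extend_ideal_global [CompactSpace X] [QuasiSeparatedSpace X] (U : X.Opens)
    (hU : IsCompact (U : Set X)) (V : X.Opens) (hV : IsCompact (V : Set X))
    (I : (V : Scheme.{u}).IdealSheafData) (hI : ∀ W, (I.ideal W).FG)
    (hd : Disjoint (I.support : Set (V : Scheme.{u})) ((V.ι ⁻¹ᵁ U : (V : Scheme.{u}).Opens) : Set (V : Scheme.{u}))) :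
    ∃ 𝓙 : X.IdealSheafData, ((∀ W, (𝓙.ideal W).FG) ∧ Disjoint (𝓙.support : Set X) (U : Set X)) ∧
      𝓙.comap V.ι = I := by
  classical
  haveI : QuasiCompact V.ι := by
    refine ⟨fun T hT hTc => ?_⟩
    rw [V.ι.isOpenEmbedding.isCompact_iff, Set.image_preimage_eq_inter_range, Scheme.Opens.range_ι]
    exact QuasiSeparatedSpace.inter_isCompact _ _ hT hTc V.isOpen hV
  let I' := I.map V.ι
  have hI' : I'.comap V.ι = I := map_comap_of_isOpenImmersion _ I
  have hd' : Disjoint (I'.support : Set X) (U : Set X) := by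
    rw [Scheme.IdealSheafData.support_map]
    refine Disjoint.closure_left ?_ U.isOpen
    rw [Set.disjoint_image_left]
    exact hd
  have htop : ∀ W : X.affineOpens, W.1 ≤ U → I'.ideal W = ⊤ := by
    intro W hW
    have hW2 : IsAffineOpen W.1 := W.2
    by_contra hne
    obtain ⟨m, hm, hle⟩ := Ideal.exists_le_maximal _ hne
    haveI := hm.isPrime
    have hxW : hW2.fromSpec ⟨m, hm.isPrime⟩ ∈ W.1 := by
      rw [← SetLike.mem_coe, ← hW2.range_fromSpec]; exact ⟨_, rfl⟩
    refine Set.disjoint_left.mp hd' ((Scheme.IdealSheafData.mem_support_iff_of_mem hxW).mpr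
      ((Scheme.mem_zeroLocus_iff _ _ _).mpr fun a ha hxa => ?_)) (hW hxW)
    have : (⟨m, hm.isPrime⟩ : PrimeSpectrum Γ(X, W.1)) ∈ hW2.fromSpec ⁻¹ᵁ X.basicOpen a := hxa
    rw [hW2.fromSpec_preimage_basicOpen] at this
    exact this (hle ha)
  have hft₀ : FTBelow (sectionsOf I' (U ⊔ V)) (U ⊔ V) := by
    intro p hp
    obtain ⟨W, hpW, hWle, hfg⟩ : ∃ W : X.affineOpens, p ∈ W.1 ∧ W.1 ≤ U ⊔ V ∧ (I'.ideal W).FG := by
      rcases hp with hpU | hpV
      · obtain ⟨_, ⟨W, hW, rfl⟩, hpW, hWU⟩ := X.isBasis_affineOpens.exists_subset_of_mem_open hpU U.isOpen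
        exact ⟨⟨W, hW⟩, hpW, le_sup_of_le_left hWU, by rw [htop ⟨W, hW⟩ hWU]; exact ⟨{1}, by simp⟩⟩
      · obtain ⟨_, ⟨W, hW, rfl⟩, hpW, hWV⟩ := X.isBasis_affineOpens.exists_subset_of_mem_open hpV V.isOpen
        refine ⟨⟨W, hW⟩, hpW, le_sup_of_le_right hWV, ?_⟩
        have hW' : IsAffineOpen (V.ι ⁻¹ᵁ W) := hW.preimage_of_isOpenImmersion _ (by rw [Scheme.Opens.opensRange_ι]; exact hWV)
        rw [Scheme.IdealSheafData.ideal_map _ _ _ hW']
        haveI : IsIso (V.ι.app W) := Scheme.Hom.isIso_app _ _ (by rw [Scheme.Opens.opensRange_ι]; exact hWV)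
        let e := (asIso (V.ι.app W)).commRingCatIsoToRingEquiv
        rw [show (V.ι.app W).hom = (e : _ →+* _) from rfl]
        erw [← Ideal.map_symm]
        exact (hI _).map _
    obtain ⟨t, ht⟩ := hfg
    let e : ULift.{u} (Fin t.card) ≃ t := Equiv.ulift.trans t.equivFin.symm
    let s : ULift.{u} (Fin t.card) → Γ(Coh.structureModule X, W.1) := fun i => ((e i).1 : Γ(X, W.1))
    refine ⟨W.1, hWle, hpW, t.card, s, fun i => (sectionsOf_mem_iff I' W hWle _).mpr ?_,
      fun O hO a ha q hq _ => ?_⟩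
    · exact ht ▸ Ideal.subset_span (e i).2
    obtain ⟨_, ⟨D, hD, rfl⟩, hqD, hDO⟩ := X.isBasis_affineOpens.exists_subset_of_mem_open hq O.isOpen
    have h1 := ha ⟨D, hD⟩ hDO ((hDO.trans hO).trans hWle)
    have hrange : I'.ideal W = Ideal.span (Set.range fun i => OmegaSh.fnSect X W.1 (s i)) := by
      rw [← ht]
      congr 1
      ext x
      exact ⟨fun hx => ⟨e.symm ⟨x, hx⟩, by simp [s]; rfl⟩, by rintro ⟨i, rfl⟩; exact (e i).2⟩
    rw [← I'.map_ideal (U := ⟨D, hD⟩) (V := W) (hDO.trans hO), hrange, Ideal.map_span, ← Set.range_comp] at h1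
    obtain ⟨c, hc⟩ := Ideal.mem_span_range_iff_exists_fun.mp h1
    exact ⟨D, hDO, hDO.trans hO, hqD, c, hc.symm⟩
  obtain ⟨𝓙, hfg, heq⟩ := exists_ideal_of_localSub (U ⊔ V) (hU.union hV) (sectionsOf I' (U ⊔ V))
    (fun O a ha W hWO hWle => by
      have := ha W (le_inf hWO hWle) hWle
      change X.presheaf.map (homOfLE _).op (X.presheaf.map (homOfLE _).op (OmegaSh.fnSect X O a)) ∈ _ at this
      rw [← CommRingCat.comp_apply, ← Functor.map_comp, ← op_comp, homOfLE_comp] at this
      exact this) hft₀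
  have heq' : ∀ W : X.affineOpens, W.1 ≤ U ⊔ V → 𝓙.ideal W = I'.ideal W := fun W hW => by
    rw [heq W hW]
    exact Ideal.ext fun a => sectionsOf_mem_iff I' W hW a
  refine ⟨𝓙, ⟨hfg, Set.disjoint_left.2 fun x hx hxU => ?_⟩, ?_⟩
  · obtain ⟨_, ⟨W, hW, rfl⟩, hxW, hWU⟩ := X.isBasis_affineOpens.exists_subset_of_mem_open hxU U.isOpen
    have h1 := (Scheme.IdealSheafData.mem_support_iff_of_mem (U := ⟨W, hW⟩) hxW).mp hx
    rw [heq' ⟨W, hW⟩ (le_sup_of_le_left hWU), htop ⟨W, hW⟩ hWU] at h1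
    exact ((Scheme.mem_zeroLocus_iff _ _ _).mp h1 1 trivial) (by rw [X.basicOpen_of_isUnit isUnit_one]; exact hxW)
  · rw [← hI']
    refine Scheme.IdealSheafData.ext (funext fun W => ?_)
    rw [Scheme.IdealSheafData.ideal_comap_of_isOpenImmersion, Scheme.IdealSheafData.ideal_comap_of_isOpenImmersion,
      heq' ⟨V.ι ''ᵁ W.1, _⟩ (le_sup_of_le_right (by simpa using V.ι.image_le_opensRange W.1))]

end RGFlatLib
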