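import Groth.Agent.RGFlatLib.GlueTwo
import Groth.Agent.RGFlatLib.Compose
import Groth.Agent.RGFlatLib.ExtendGlobal

/-!
# A common target after admissible blow-ups
-/

set_option autoImplicit false
universe u
open CategoryTheory CategoryTheory.Limits AlgebraicGeometry TopologicalSpace

namespace RGFlatLib

variable {S : Scheme.{u}}

/-- The preimage of the open over which the closure of a section is that section. -/
theorem preimage_opensRange_eq {U X W : Scheme.{u}} (s : U ⟶ X) [QuasiCompact s] (f : X ⟶ W) [IsSeparated f]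
    (u : U ⟶ W) [IsOpenImmersion u] (hs : s ≫ f = u) :
    (((s.imageι ≫ f) ⁻¹ᵁ u.opensRange : s.image.Opens) : Set s.image) = Set.range s.toImage := by
  haveI := isIso_image_of_section s f u hs
  have hf₀ : s.toImage ≫ s.imageι ≫ f = u := by rw [Scheme.Hom.toImage_imageι_assoc, hs]
  ext z
  constructor
  · intro hz
    obtain ⟨w, hw⟩ := hz
    have hmem : s.toImage w ∈ (s.imageι ≫ f) ⁻¹ᵁ u.opensRange :=
      ⟨w, by rw [← Scheme.Hom.comp_apply s.toImage, hf₀]⟩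
    have := ((s.imageι ≫ f) ∣_ u.opensRange).homeomorph.injective (a₁ := ⟨s.toImage w, hmem⟩) (a₂ := ⟨z, ⟨w, hw⟩⟩)
      (Subtype.ext (by
        rw [Scheme.Hom.homeomorph_apply, Scheme.Hom.homeomorph_apply, morphismRestrict_base_coe, morphismRestrict_base_coe]
        show (s.imageι ≫ f) (s.toImage w) = (s.imageι ≫ f) z
        rw [← Scheme.Hom.comp_apply s.toImage, hf₀, hw]))
    exact ⟨w, congrArg Subtype.val this⟩
  · rintro ⟨w, rfl⟩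
    exact ⟨w, by rw [← Scheme.Hom.comp_apply s.toImage, hf₀]⟩

/-- An open immersion into a base, a blow-up upstairs: extend to the base. -/
theorem exists_extended_blowUp {R Y W : Scheme.{u}} [CompactSpace Y] [QuasiSeparatedSpace Y] [CompactSpace R]
    (O : Y.Opens) (hO : IsCompact (O : Set Y)) (o : R ⟶ Y) [IsOpenImmersion o]
    (C : R.IdealSheafData) (hC : BlowUp.IsAdmissibleFor (o ⁻¹ᵁ O) C) (w : W ⟶ R) (hw : BlowUp.IsBlowUp w C) :
    ∃ (D : Y.IdealSheafData) (Y' : Scheme.{u}) (c : Y' ⟶ Y) (k : W ⟶ Y'),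
      BlowUp.IsBlowUp c D ∧ BlowUp.IsAdmissibleFor O D ∧ IsOpenImmersion k ∧ k ≫ c = w ≫ o := by
  have hV : IsCompact (o.opensRange : Set Y) := by
    rw [Scheme.Hom.coe_opensRange]; exact isCompact_range o.continuous
  have hC' : BlowUp.IsAdmissibleFor (o.opensRange.ι ⁻¹ᵁ O) (C.comap o.isoOpensRange.inv) := by
    have := admissible_comap hC o.isoOpensRange.inv
    rwa [← Scheme.Hom.comp_preimage, Scheme.Hom.isoOpensRange_inv_comp] at this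
  obtain ⟨D, hD, hDC⟩ := exists_extend_ideal_global O hO o.opensRange hV _ hC'.1 hC'.2
  obtain ⟨Y', c, hc⟩ := BlowUpLib.exists_isBlowUp Y D
  have hr : BlowUp.IsBlowUp (c ∣_ o.opensRange) (C.comap o.isoOpensRange.inv) :=
    hDC ▸ BlowUpLib.isBlowUp_of_isPullback (isPullback_morphismRestrict c o.opensRange).flip hc
  have hw' : BlowUp.IsBlowUp (w ≫ o.isoOpensRange.hom) (C.comap o.isoOpensRange.inv) :=
    BlowUpLib.isBlowUp_comp_iso o.isoOpensRange (by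
      rw [← Scheme.IdealSheafData.comap_comp, Iso.hom_inv_id, Scheme.IdealSheafData.comap_id]; exact hw)
  obtain ⟨e, he⟩ := BlowUpLib.exists_iso hr hw'
  refine ⟨D, Y', c, e.hom ≫ (c ⁻¹ᵁ o.opensRange).ι, hc, hD, inferInstance, ?_⟩
  rw [Category.assoc, ← morphismRestrict_ι, reassoc_of% he, Scheme.Hom.isoOpensRange]
  simp

/-- Two compactifications of a common open have blow-ups with a common target. -/
theorem exists_common_target {U X₁ X₂ : Scheme.{u}} [CompactSpace S] [QuasiSeparatedSpace S]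
    (gU : U ⟶ S) (g₁ : X₁ ⟶ S) (g₂ : X₂ ⟶ S) [QuasiCompact gU]
    [IsSeparated g₁] [LocallyOfFiniteType g₁] [QuasiCompact g₁]
    [IsSeparated g₂] [LocallyOfFiniteType g₂] [QuasiCompact g₂]
    (j₁ : U ⟶ X₁) (j₂ : U ⟶ X₂) [IsOpenImmersion j₁] [IsOpenImmersion j₂] (hj₁ : j₁ ≫ g₁ = gU) (hj₂ : j₂ ≫ g₂ = gU) :
    ∃ (X : Scheme.{u}) (q : X ⟶ S) (_ : IsSeparated q) (_ : LocallyOfFiniteType q) (_ : QuasiCompact q)
      (𝓘₁ : X₁.IdealSheafData) (𝓘₂ : X₂.IdealSheafData) (X₁' X₂' : Scheme.{u}) (b₁ : X₁' ⟶ X₁) (b₂ : X₂' ⟶ X₂)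
      (o₁ : X₁' ⟶ X) (o₂ : X₂' ⟶ X) (u₁ : U ⟶ X₁') (u₂ : U ⟶ X₂'),
      BlowUp.IsBlowUp b₁ 𝓘₁ ∧ BlowUp.IsAdmissibleFor j₁.opensRange 𝓘₁ ∧
      BlowUp.IsBlowUp b₂ 𝓘₂ ∧ BlowUp.IsAdmissibleFor j₂.opensRange 𝓘₂ ∧
      IsOpenImmersion o₁ ∧ IsOpenImmersion o₂ ∧ o₁ ≫ q = b₁ ≫ g₁ ∧ o₂ ≫ q = b₂ ≫ g₂ ∧
      u₁ ≫ b₁ = j₁ ∧ u₂ ≫ b₂ = j₂ ∧ u₁ ≫ o₁ = u₂ ≫ o₂ := by
  haveI : CompactSpace U := QuasiCompact.compactSpace_of_compactSpace gU
  haveI : CompactSpace X₁ := QuasiCompact.compactSpace_of_compactSpace g₁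
  haveI : CompactSpace X₂ := QuasiCompact.compactSpace_of_compactSpace g₂
  haveI : QuasiSeparatedSpace X₁ := quasiSeparatedSpace_of_quasiSeparated g₁
  haveI : QuasiSeparatedSpace X₂ := quasiSeparatedSpace_of_quasiSeparated g₂
  let σ : U ⟶ pullback g₁ g₂ := pullback.lift j₁ j₂ (hj₁.trans hj₂.symm)
  have hσ₁ : σ ≫ pullback.fst g₁ g₂ = j₁ := pullback.lift_fst _ _ _
  have hσ₂ : σ ≫ pullback.snd g₁ g₂ = j₂ := pullback.lift_snd _ _ _
  haveI : QuasiCompact (σ ≫ pullback.fst g₁ g₂) := by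
    rw [hσ₁]
    exact QuasiCompact.of_comp j₁ g₁
  haveI : QuasiCompact σ := QuasiCompact.of_comp σ (pullback.fst g₁ g₂)
  let φ₁ : σ.image ⟶ X₁ := σ.imageι ≫ pullback.fst g₁ g₂
  let φ₂ : σ.image ⟶ X₂ := σ.imageι ≫ pullback.snd g₁ g₂
  haveI hφ₁ : IsIso (φ₁ ∣_ j₁.opensRange) := isIso_image_of_section σ _ j₁ hσ₁
  haveI hφ₂ : IsIso (φ₂ ∣_ j₂.opensRange) := isIso_image_of_section σ _ j₂ hσ₂
  have hpre : φ₁ ⁻¹ᵁ j₁.opensRange = φ₂ ⁻¹ᵁ j₂.opensRange :=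
    Opens.ext ((preimage_opensRange_eq σ _ j₁ hσ₁).trans (preimage_opensRange_eq σ _ j₂ hσ₂).symm)
  have hO₁ : IsCompact (j₁.opensRange : Set X₁) := by rw [Scheme.Hom.coe_opensRange]; exact isCompact_range j₁.continuous
  have hO₂ : IsCompact (j₂.opensRange : Set X₂) := by rw [Scheme.Hom.coe_opensRange]; exact isCompact_range j₂.continuous
  -- the two strict transforms
  have side : ∀ {Xi : Scheme.{u}} [CompactSpace Xi] [QuasiSeparatedSpace Xi] (φ : σ.image ⟶ Xi) [IsSeparated φ]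
      [LocallyOfFiniteType φ] [QuasiCompact φ] (O : Xi.Opens), IsCompact (O : Set Xi) → IsIso (φ ∣_ O) →
      ∃ (K : Xi.IdealSheafData) (X' : Scheme.{u}) (b : X' ⟶ Xi) (Z : Scheme.{u}) (o : Z ⟶ X') (z : Z ⟶ σ.image),
        BlowUp.IsBlowUp b K ∧ BlowUp.IsAdmissibleFor O K ∧ IsOpenImmersion o ∧ o ≫ b = z ≫ φ ∧
        BlowUp.IsBlowUp z (K.comap φ) ∧ BlowUp.IsAdmissibleFor (φ ⁻¹ᵁ O) (K.comap φ) := by
    intro Xi _ _ φ _ _ _ O hO hφ
    haveI := hφ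
    obtain ⟨K, X', b, hb, hadm, -, -, hint, hall⟩ := exists_flattening_blowUp φ O hO
    have hpb := IsPullback.of_hasPullback φ b
    obtain ⟨𝒥, h𝒥⟩ := exists_strictIdeal hb.1 (pullback.snd φ b)
    obtain ⟨hF, hP, -, hι, -⟩ := hall _ _ _ hpb 𝒥 (by rw [exceptional_eq hpb]; exact h𝒥)
    let o := 𝒥.subschemeι ≫ pullback.snd φ b
    haveI : IsOpenImmersion o := by
      haveI : IsIso (o ∣_ ModPair.interior (K.comap b)) := by
        rw [hint]; exact strict_restrict hpb (MorphismProperty.isomorphisms Scheme.{u}) hφ hι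
      haveI := mono_of_flat_of_interior o hb.1
      exact IsOpenImmersion.of_flat_of_mono _
    exact ⟨K, X', b, _, o, 𝒥.subschemeι ≫ pullback.fst φ b, hb, hadm, inferInstance,
      by rw [Category.assoc, Category.assoc, pullback.condition], isBlowUp_strict hb hpb h𝒥, admissible_comap hadm φ⟩
  obtain ⟨K₁, X₁a, b₁, Z₁, p₁, z₁, hb₁, ha₁, hp₁o, hp₁, hz₁, hA₁⟩ := side φ₁ j₁.opensRange hO₁ hφ₁
  obtain ⟨K₂, X₂a, b₂, Z₂, p₂, z₂, hb₂, ha₂, hp₂o, hp₂, hz₂, hA₂⟩ := side φ₂ j₂.opensRange hO₂ hφ₂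
  rw [← hpre] at hA₂
  have hM : BlowUp.IsAdmissibleFor (φ₁ ⁻¹ᵁ j₁.opensRange) (K₁.comap φ₁ * K₂.comap φ₂) := by
    refine ⟨fun V => ?_, ?_⟩
    · rw [Scheme.IdealSheafData.ideal_mul, Pi.mul_apply]; exact Submodule.FG.mul (hA₁.1 V) (hA₂.1 V)
    · rw [Scheme.IdealSheafData.support_mul]; exact Disjoint.union_left hA₁.2 hA₂.2
  obtain ⟨W, w, hw⟩ := BlowUpLib.exists_isBlowUp σ.image (K₁.comap φ₁ * K₂.comap φ₂)
  obtain ⟨w₁, hw₁, hw₁'⟩ := exists_factor (R := K₂.comap φ₂) (I := K₁.comap φ₁) hz₁ (mul_comm (K₁.comap φ₁) _ ▸ hw)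
  obtain ⟨w₂, hw₂, hw₂'⟩ := exists_factor (R := K₁.comap φ₁) (I := K₂.comap φ₂) hz₂ hw
  have hM' : BlowUp.IsAdmissibleFor (φ₂ ⁻¹ᵁ j₂.opensRange) (K₁.comap φ₁ * K₂.comap φ₂) := hpre ▸ hM
  haveI := BlowUpLib.isProper_of_isBlowUp hb₁ ha₁.1
  haveI := BlowUpLib.isProper_of_isBlowUp hb₂ ha₂.1
  haveI : CompactSpace X₁a := QuasiCompact.compactSpace_of_compactSpace b₁
  haveI : CompactSpace X₂a := QuasiCompact.compactSpace_of_compactSpace b₂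
  haveI : QuasiSeparatedSpace X₁a := quasiSeparatedSpace_of_quasiSeparated b₁
  haveI : QuasiSeparatedSpace X₂a := quasiSeparatedSpace_of_quasiSeparated b₂
  haveI := BlowUpLib.isProper_of_isBlowUp hz₁ hA₁.1
  haveI := BlowUpLib.isProper_of_isBlowUp hz₂ hA₂.1
  haveI : CompactSpace σ.image := QuasiCompact.compactSpace_of_compactSpace φ₁
  haveI : CompactSpace Z₁ := QuasiCompact.compactSpace_of_compactSpace z₁
  haveI : CompactSpace Z₂ := QuasiCompact.compactSpace_of_compactSpace z₂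
  haveI := hp₁o
  haveI := hp₂o
  obtain ⟨D₁, Y₁, c₁, k₁, hc₁, hD₁, hk₁o, hk₁⟩ := exists_extended_blowUp (b₁ ⁻¹ᵁ j₁.opensRange)
    (b₁.isCompact_preimage hO₁) p₁ _
    (by
      rw [← Scheme.Hom.comp_preimage, hp₁, Scheme.Hom.comp_preimage, mul_comm (K₂.comap φ₂)]
      exact admissible_comap hM z₁) w₁ hw₁'
  obtain ⟨D₂, Y₂, c₂, k₂, hc₂, hD₂, hk₂o, hk₂⟩ := exists_extended_blowUp (b₂ ⁻¹ᵁ j₂.opensRange)
    (b₂.isCompact_preimage hO₂) p₂ _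
    (by rw [← Scheme.Hom.comp_preimage, hp₂, Scheme.Hom.comp_preimage]; exact admissible_comap hM' z₂) w₂ hw₂'
  obtain ⟨E₁, hE₁, hE₁b⟩ := exists_admissible_comp hb₁ ha₁ hc₁ hD₁
  obtain ⟨E₂, hE₂, hE₂b⟩ := exists_admissible_comp hb₂ ha₂ hc₂ hD₂
  haveI := hk₁o
  haveI := hk₂o
  haveI := BlowUpLib.isProper_of_isBlowUp hc₁ hD₁.1
  haveI := BlowUpLib.isProper_of_isBlowUp hc₂ hD₂.1
  haveI := BlowUpLib.isProper_of_isBlowUp hw hM.1
  have e₁ : k₁ ≫ c₁ ≫ b₁ = w ≫ φ₁ := by rw [reassoc_of% hk₁, hp₁, reassoc_of% hw₁]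
  have e₂ : k₂ ≫ c₂ ≫ b₂ = w ≫ φ₂ := by rw [reassoc_of% hk₂, hp₂, reassoc_of% hw₂]
  have hwS : k₁ ≫ (c₁ ≫ b₁) ≫ g₁ = k₂ ≫ (c₂ ≫ b₂) ≫ g₂ := by
    rw [← Category.assoc k₁, e₁, ← Category.assoc k₂, e₂]
    simp only [φ₁, φ₂, Category.assoc, pullback.condition]
  haveI : IsClosedImmersion (pullback.lift k₁ k₂ hwS) := by
    let m : pullback ((c₁ ≫ b₁) ≫ g₁) ((c₂ ≫ b₂) ≫ g₂) ⟶ pullback g₁ g₂ :=
      pullback.map _ _ _ _ (c₁ ≫ b₁) (c₂ ≫ b₂) (𝟙 S) (Category.comp_id _) (Category.comp_id _)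
    haveI : IsSeparated m := by
      haveI : IsSeparated (m ≫ pullback.fst g₁ g₂ ≫ g₁) := by
        rw [pullback.lift_fst_assoc, Category.assoc]; infer_instance
      exact IsSeparated.of_comp m (pullback.fst g₁ g₂ ≫ g₁)
    haveI : IsProper (pullback.lift k₁ k₂ hwS ≫ m) := by
      rw [show pullback.lift k₁ k₂ hwS ≫ m = w ≫ σ.imageι from pullback.hom_ext
        (by rw [Category.assoc, pullback.lift_fst, pullback.lift_fst_assoc, Category.assoc]; exact e₁)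
        (by rw [Category.assoc, pullback.lift_snd, pullback.lift_snd_assoc, Category.assoc]; exact e₂)]
      infer_instance
    haveI : IsProper (pullback.lift k₁ k₂ hwS) := IsProper.of_comp _ m
    haveI : Mono (pullback.lift k₁ k₂ hwS) := by
      haveI : Mono (pullback.lift k₁ k₂ hwS ≫ pullback.fst ((c₁ ≫ b₁) ≫ g₁) ((c₂ ≫ b₂) ≫ g₂)) := by
        rw [pullback.lift_fst]; infer_instance
      exact mono_of_mono _ (pullback.fst ((c₁ ≫ b₁) ≫ g₁) ((c₂ ≫ b₂) ≫ g₂))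
    exact (IsClosedImmersion.iff_isProper_and_mono (pullback.lift k₁ k₂ hwS)).mpr ⟨inferInstance, inferInstance⟩
  obtain ⟨X, q, o₁, o₂, hq, hqft, hqc, ho₁, ho₂, hq₁, hq₂, hko, -⟩ :=
    exists_glue_two k₁ k₂ ((c₁ ≫ b₁) ≫ g₁) ((c₂ ≫ b₂) ≫ g₂) hwS
  obtain ⟨u, hu, -⟩ := hw.2 U σ.toImage (by
    rw [show (K₁.comap φ₁ * K₂.comap φ₂).comap σ.toImage = ⊤ from ?_]
    · exact EffCartLib.isEffCartier_top
    rw [← Scheme.IdealSheafData.support_eq_bot_iff, Scheme.IdealSheafData.support_comap]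
    refine SetLike.ext fun x => iff_of_false (fun hx => ?_) (fun hx => hx)
    refine Set.disjoint_left.mp hM.2 hx ?_
    rw [preimage_opensRange_eq σ _ j₁ hσ₁]
    exact ⟨x, rfl⟩)
  refine ⟨X, q, hq, hqft, hqc, E₁, E₂, Y₁, Y₂, c₁ ≫ b₁, c₂ ≫ b₂, o₁, o₂, u ≫ k₁, u ≫ k₂,
    hE₁b, hE₁, hE₂b, hE₂, ho₁, ho₂, hq₁, hq₂, ?_, ?_, by rw [Category.assoc, Category.assoc, hko]⟩
  · rw [Category.assoc, e₁, reassoc_of% hu]; simp only [φ₁, Scheme.Hom.toImage_imageι_assoc, hσ₁]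
  · rw [Category.assoc, e₂, reassoc_of% hu]; simp only [φ₂, Scheme.Hom.toImage_imageι_assoc, hσ₂]

end RGFlatLib
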