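import Mathlib
import Groth.Prelude.Def_BlowUp2
import Groth.Agent.QCohLib.Coherent
import Groth.Agent.RichLib.IsFPAffine
import Groth.Agent.KFlatLib.QCohPull

/-!
# Strict transforms of quasi-coherent modules, affine sections of finitely presented modules
-/

set_option autoImplicit false
universe u

open CategoryTheory CategoryTheory.Limits AlgebraicGeometry TopologicalSpace Opposite

noncomputable section

namespace RGFlatLib

variable {X : Scheme.{u}}

/-- restriction as a linear map -/
def resLin (M : X.Modules) {V W : X.Opens} (h : W ≤ V) [Module Γ(X, V) Γ(M, W)]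
    (hmod : ∀ (r : Γ(X, V)) (m : Γ(M, W)), r • m = X.presheaf.map (homOfLE h).op r • m) :
    Γ(M, V) →ₗ[Γ(X, V)] Γ(M, W) where
  toFun m := M.presheaf.map (homOfLE h).op m
  map_add' := map_add _
  map_smul' r m := by
    rw [RingHom.id_apply, hmod]
    exact M.map_smul (homOfLE h) r m

theorem isLocalizedModule_resLin (M : X.Modules) [Coh.IsQCoh M] {U : X.Opens} (hU : IsAffineOpen U)
    (a : Γ(X, U)) [Module Γ(X, U) Γ(M, X.basicOpen a)]
    (hmod : ∀ (r : Γ(X, U)) (m : Γ(M, X.basicOpen a)),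
      r • m = X.presheaf.map (homOfLE (X.basicOpen_le a)).op r • m) :
    IsLocalizedModule (Submonoid.powers a) (resLin M (X.basicOpen_le a) hmod) := by
  have h := QCohLib.localizingAt_of_isQCoh hU M a
  refine IsLocalizedModule.Away.mk_of_addCommGroup ?_ ?_ ?_
  · rw [Module.End.isUnit_iff]
    have hu : IsUnit (X.presheaf.map (homOfLE (X.basicOpen_le a)).op a) :=
      RingedSpace.isUnit_res_basicOpen X.toRingedSpace a
    refine ⟨fun x y hxy => ?_, fun y => ⟨hu.unit⁻¹.1 • y, ?_⟩⟩
    · have h1 : a • x = a • y := hxy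
      rw [hmod, hmod] at h1
      exact hu.smul_left_cancel.mp h1
    · show a • (hu.unit⁻¹.1 • y) = y
      rw [hmod, smul_smul, IsUnit.mul_val_inv, one_smul]
  · intro s
    obtain ⟨n, t, ht⟩ := h.exists_extend s
    refine ⟨n, t, ?_⟩
    rw [hmod, map_pow]
    exact ht.symm
  · intro t ht
    obtain ⟨n, hn⟩ := h.eq_zero t ht
    refine ⟨n, Eq.trans ?_ hn⟩
    congr 1
    rw [show homOfLE (le_refl U) = 𝟙 _ from rfl, op_id, CategoryTheory.Functor.map_id]
    rfl

/-- sections of a module of finite presentation on an affine open -/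
theorem finitePresentation_affine (M : X.Modules) [Coh.IsQCoh M] (hM : CohB1.IsFP M) {V : X.Opens}
    (hV : IsAffineOpen V) : Module.FinitePresentation Γ(X, V) Γ(M, V) := by
  let s : Set Γ(X, V) := {g | ∃ (O : X.Opens) (P : (M.restrict O.ι).Presentation),
    P.IsFinite ∧ X.basicOpen g ≤ O}
  have hs : Ideal.span s = ⊤ := by
    rw [← hV.self_le_iSup_basicOpen_iff]
    intro x hx
    obtain ⟨O, P, hxO, hP⟩ := FlatLib.exists_presentation_nhd hM x
    obtain ⟨g, hg, hxg⟩ := hV.exists_basicOpen_le (V := O) ⟨x, hxO⟩ hx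
    exact Opens.mem_iSup.mpr ⟨⟨g, O, P, hP, hg⟩, hxg⟩
  letI alg : ∀ g : s, Algebra Γ(X, V) Γ(X, X.basicOpen g.1) := fun g =>
    (X.presheaf.map (homOfLE (X.basicOpen_le g.1)).op).hom.toAlgebra
  letI md : ∀ g : s, Module Γ(X, V) Γ(M, X.basicOpen g.1) := fun g =>
    Module.compHom _ (X.presheaf.map (homOfLE (X.basicOpen_le g.1)).op).hom
  haveI : ∀ g : s, IsScalarTower Γ(X, V) Γ(X, X.basicOpen g.1) Γ(M, X.basicOpen g.1) := fun g =>
    IsScalarTower.of_algebraMap_smul fun _ _ => rfl
  haveI : ∀ g : s, IsLocalization.Away g.1 Γ(X, X.basicOpen g.1) := fun g => hV.isLocalization_basicOpen g.1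
  haveI : ∀ g : s, IsLocalizedModule (Submonoid.powers g.1)
      (resLin M (X.basicOpen_le g.1) fun _ _ => rfl) := fun g => isLocalizedModule_resLin M hV g.1 _
  exact Module.FinitePresentation.of_localizationSpan' s hs (Rₚ := fun g => Γ(X, X.basicOpen g.1))
    (fun g => resLin M (X.basicOpen_le g.1) fun _ _ => rfl) fun g => by
      obtain ⟨O, P, hP, hgO⟩ := g.2
      haveI := hP
      exact RichLib.IsFPAffine.finitePresentation_of_le P (hV.basicOpen g.1) hgO

/-- sections of a module which is finitely presented on an open -/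
theorem finitePresentation_affine_of_pullback (M : X.Modules) [Coh.IsQCoh M] {U : X.Opens}
    (hM : CohB1.IsFP ((Scheme.Modules.pullback U.ι).obj M)) {V : X.Opens} (hV : IsAffineOpen V) (hVU : V ≤ U) :
    Module.FinitePresentation Γ(X, V) Γ(M, V) := by
  let e := (Scheme.Modules.restrictFunctorIsoPullback U.ι).app M
  have hM' : CohB1.IsFP (M.restrict U.ι) :=
    (SheafOfModules.isFinitePresentation (R := (↑U : Scheme).ringCatSheaf)).prop_of_iso e.symm hM
  haveI : Coh.IsQCoh (M.restrict U.ι) := inferInstance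
  have key : ∀ W₀ : (U : Scheme.{u}).Opens, IsAffineOpen W₀ →
      Module.FinitePresentation Γ(X, U.ι ''ᵁ W₀) Γ(M, U.ι ''ᵁ W₀) := by
    intro W₀ hW₀
    haveI := finitePresentation_affine (M.restrict U.ι) hM' hW₀
    exact FlatLib.finitePresentation_semilinear (A := Γ((U : Scheme.{u}), W₀)) (M := Γ(M.restrict U.ι, W₀))
      (U.ι.appIso W₀).inv.hom
      (U.ι.appIso W₀).commRingCatIsoToRingEquiv.symm.surjective
      (M.restrictAppIso U.ι W₀).addCommGroupIsoToAddEquiv
      fun r m ↦ Scheme.Modules.smul_restrictAppIso_hom_apply U.ι M W₀ r m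
  have e : U.ι ''ᵁ (U.ι ⁻¹ᵁ V) = V := by
    rw [Scheme.Hom.image_preimage_eq_opensRange_inf, Scheme.Opens.opensRange_ι, inf_eq_right]
    exact hVU
  exact e ▸ key _ (hV.preimage_of_isOpenImmersion U.ι (by rwa [Scheme.Opens.opensRange_ι]))

/-- the target of a strict transform is quasi-coherent -/
theorem isQCoh_strictTransform {𝓔 : X.IdealSheafData} (hE : BlowUp.IsFiniteTypeIdeal 𝓔) {P G : X.Modules}
    [Coh.IsQCoh P] (π : P ⟶ G) [Epi π]
    (h : ∀ (V : X.affineOpens) (m : Γ(P, V.1)), π.app V.1 m = 0 ↔ BlowUp.KilledByPowerNear 𝓔 P V m) :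
    Coh.IsQCoh G := by
  classical
  let S := ShortComplex.mk (kernel.ι π) π (kernel.condition π)
  have hS : S.Exact := ShortComplex.exact_of_f_is_kernel _ (kernelIsKernel π)
  haveI : Coh.IsQCoh S.X₂ := ‹Coh.IsQCoh P›
  haveI : Coh.IsQCoh S.X₁ := by
    show Coh.IsQCoh (kernel π)
    refine (QCohLib.isQCoh_iff_localizingAt _).mpr fun U hU a => ?_
    have hloc := QCohLib.localizingAt_of_isQCoh hU P a
    have hinj := fun W : X.Opens => QCohLib.app_injective_of_mono (kernel.ι π) W
    let r := fun x : Γ(P, U) => P.presheaf.map (homOfLE (X.basicOpen_le a)).op x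
    let a' := X.presheaf.map (homOfLE (X.basicOpen_le a)).op a
    have hmapid : ∀ (N : X.Modules) (x : Γ(N, U)) (l : ℕ),
        (X.presheaf.map (homOfLE (le_refl U)).op a) ^ l • x = a ^ l • x := fun N x l => by
      rw [show homOfLE (le_refl U) = 𝟙 _ from rfl, op_id, CategoryTheory.Functor.map_id]; rfl
    refine ⟨fun s => ?_, fun t ht => ?_⟩
    · let m := (kernel.ι π).app (X.basicOpen a) s
      obtain ⟨k, hk⟩ := (h ⟨X.basicOpen a, hU.basicOpen a⟩ m).mp
        (QCohLib.map_eq_zero_of_zero (S := S) s)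
      obtain ⟨n, t, ht⟩ := hloc.exists_extend m
      obtain ⟨T, hT⟩ : ((𝓔 ^ k).ideal ⟨U, hU⟩).FG := by
        rw [Scheme.IdealSheafData.ideal_pow, Pi.pow_apply]; exact (hE ⟨U, hU⟩).pow
      have hkill : ∀ e : Γ(X, U), ∃ l : ℕ, e ∈ (𝓔 ^ k).ideal ⟨U, hU⟩ → a ^ l • e • t = 0 := fun e => by
        by_cases he : e ∈ (𝓔 ^ k).ideal ⟨U, hU⟩
        · obtain ⟨l, hl⟩ := hloc.eq_zero (e • t) (by
            refine (P.map_smul (homOfLE (X.basicOpen_le a)) e t).trans ?_
            rw [ht, smul_comm, hk _ ?_, smul_zero]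
            show _ ∈ (𝓔 ^ k).ideal (X.affineBasicOpen (U := ⟨U, hU⟩) a)
            rw [← Scheme.IdealSheafData.map_ideal_basicOpen _ ⟨U, hU⟩ a]
            exact Ideal.mem_map_of_mem _ he)
          exact ⟨l, fun _ => (hmapid P _ l).symm.trans hl⟩
        · exact ⟨0, fun h => absurd h he⟩
      choose l hl using hkill
      let L := T.sup l
      have hkilled : BlowUp.KilledByPowerNear 𝓔 P ⟨U, hU⟩ (a ^ L • t) := by
        refine ⟨k, fun e he => ?_⟩
        rw [← hT] at he
        induction he using Submodule.span_induction with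
        | mem e he =>
          obtain ⟨d, hd⟩ := Nat.exists_eq_add_of_le (show l e ≤ L from Finset.le_sup he)
          rw [hd, add_comm, pow_add, mul_smul, smul_comm e (a ^ d), smul_comm e,
            hl e (hT ▸ Submodule.subset_span he), smul_zero]
        | zero => rw [zero_smul]
        | add x y _ _ hx hy => rw [add_smul, hx, hy, add_zero]
        | smul c x _ hx => rw [smul_eq_mul, mul_smul, hx, smul_zero]
      obtain ⟨z, hz⟩ := QCohLib.exists_of_app_eq_zero hS inferInstance _ ((h ⟨U, hU⟩ _).mpr hkilled)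
      refine ⟨L + n, z, hinj _ ?_⟩
      refine (QCohLib.app_map (kernel.ι π) _ z).trans ?_
      refine (congrArg r hz).trans ((P.map_smul (homOfLE (X.basicOpen_le a)) (a ^ L) t).trans ?_)
      rw [QCohLib.app_smul, pow_add, mul_smul, map_pow, ht]
    · obtain ⟨n, hn⟩ := hloc.eq_zero ((kernel.ι π).app U t) (by
        rw [← QCohLib.app_map, ht, map_zero])
      refine ⟨n, hinj U ?_⟩
      rw [QCohLib.app_smul, map_zero]
      exact hn
  exact QCohLib.isQCoh_of_exact_right hS ‹Epi π›

end RGFlatLib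

end
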