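import Mathlib
import Groth.Prelude.Def_BlowUp2
import Groth.Prelude.Def_W4c6modpairsegaMP
import Groth.Agent.RGFlatLib.ModSheaf

/-!
# Existence of strict transforms of quasi-coherent modules
-/

set_option autoImplicit false

noncomputable section

universe u

open CategoryTheory CategoryTheory.Limits AlgebraicGeometry TopologicalSpace Opposite

namespace RGFlatLib

variable {X : Scheme.{u}}

/-- killed by a power iff zero away from the support -/
theorem killed_iff_res_interior {𝓔 : X.IdealSheafData} (hE : BlowUp.IsFiniteTypeIdeal 𝓔) (P : X.Modules)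
    [Coh.IsQCoh P] (V : X.affineOpens) (m : Γ(P, V.1)) (W : X.Opens) (hWV : W ≤ V.1)
    (hW : ∀ x : X, x ∈ W ↔ x ∈ V.1 ∧ x ∉ 𝓔.support) :
    BlowUp.KilledByPowerNear 𝓔 P V m ↔ P.presheaf.map (homOfLE hWV).op m = 0 := by
  have hg : ∀ g ∈ 𝓔.ideal V, X.basicOpen g ≤ W := fun g hg x hx => by
    refine (hW x).2 ⟨X.basicOpen_le g hx, fun hs => ?_⟩
    have h1 := (Scheme.IdealSheafData.mem_support_iff_of_mem (U := V) (X.basicOpen_le g hx)).1 hs
    rw [Scheme.mem_zeroLocus_iff] at h1
    exact h1 g hg hx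
  constructor
  · rintro ⟨n, hn⟩
    refine TopCat.Presheaf.IsSheaf.section_ext P.isSheaf fun x hx => ?_
    obtain ⟨hxV, hxs⟩ := (hW x).1 hx
    obtain ⟨g, hgE, hxg⟩ : ∃ g ∈ 𝓔.ideal V, x ∈ X.basicOpen g := by
      by_contra! hne
      refine hxs ((Scheme.IdealSheafData.mem_support_iff_of_mem (U := V) hxV).2 ?_)
      rw [Scheme.mem_zeroLocus_iff]
      exact hne
    refine ⟨X.basicOpen g, hg g hgE, hxg, ?_⟩
    rw [map_zero, ← ConcreteCategory.comp_apply, ← Functor.map_comp, ← op_comp, homOfLE_comp]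
    have h1 := congrArg (P.presheaf.map (homOfLE ((hg g hgE).trans hWV)).op)
      (hn (g ^ n) (by
        rw [Scheme.IdealSheafData.ideal_pow, Pi.pow_apply]; exact Ideal.pow_mem_pow hgE n))
    rw [map_zero, P.map_smul, map_pow] at h1
    have hu : IsUnit ((X.presheaf.map (homOfLE ((hg g hgE).trans hWV)).op).hom g) :=
      RingedSpace.isUnit_res_basicOpen X.toRingedSpace g
    exact (hu.pow n).smul_eq_zero.1 h1
  · intro h
    let A : Ideal Γ(X, V.1) := LinearMap.ker (LinearMap.toSpanSingleton Γ(X, V.1) Γ(P, V.1) m)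
    have hle : 𝓔.ideal V ≤ A.radical := fun g hgE => by
      obtain ⟨l, hl⟩ := (QCohLib.localizingAt_of_isQCoh V.2 P g).eq_zero m (by
        have h1 := congrArg (P.presheaf.map (homOfLE (hg g hgE)).op) h
        rw [map_zero, ← ConcreteCategory.comp_apply, ← Functor.map_comp] at h1
        exact h1)
      refine ⟨l, ?_⟩
      show g ^ l • m = 0
      refine Eq.trans ?_ hl
      rw [show homOfLE (le_refl V.1) = 𝟙 _ from rfl, op_id, CategoryTheory.Functor.map_id]
      rfl
    obtain ⟨N, hN⟩ := Ideal.exists_pow_le_of_le_radical_of_fg hle (hE V)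
    exact ⟨N, fun a ha => hN (by rwa [Scheme.IdealSheafData.ideal_pow, Pi.pow_apply] at ha)⟩

/-- Strict transforms exist -/
theorem exists_strictTransform_mod {𝓔 : X.IdealSheafData} (hE : BlowUp.IsFiniteTypeIdeal 𝓔) (P : X.Modules)
    [Coh.IsQCoh P] :
    ∃ (G : X.Modules) (π : P ⟶ G), Epi π ∧
      ∀ (V : X.affineOpens) (m : Γ(P, V.1)), π.app V.1 m = 0 ↔ BlowUp.KilledByPowerNear 𝓔 P V m := by
  let W₀ : X.Opens := ModPair.interior 𝓔
  let η := (Scheme.Modules.restrictAdjunction W₀.ι).unit.app P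
  refine ⟨Abelian.image η, Abelian.factorThruImage η, inferInstance, fun V m => ?_⟩
  have hfac : η.app V.1 m = (Abelian.image.ι η).app V.1 ((Abelian.factorThruImage η).app V.1 m) := by
    conv_lhs => rw [← Abelian.image.fac η]
    rfl
  rw [killed_iff_res_interior hE P V m _ (W₀.ι.image_preimage_le V.1) fun x => ?_]
  · have h1 : η.app V.1 = P.presheaf.map (homOfLE (W₀.ι.image_preimage_le V.1)).op :=
      Scheme.Modules.restrictAdjunction_unit_app_app W₀.ι P V.1
    refine Iff.trans ?_ (Iff.of_eq (congrArg (· = 0) (ConcreteCategory.congr_hom h1 m)))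
    rw [hfac]
    exact ⟨fun h => (congrArg _ h).trans (map_zero _),
      fun h => QCohLib.app_injective_of_mono _ _ (h.trans (map_zero _).symm)⟩
  · rw [Scheme.Hom.image_preimage_eq_opensRange_inf, Scheme.Opens.opensRange_ι]
    exact ⟨fun h => ⟨h.2, h.1⟩, fun h => ⟨h.2, h.1⟩⟩

end RGFlatLib

end
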