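import Groth.Agent.RGFlatLib.Dominate
import Groth.Agent.BlowUpLib.Strict

/-!
# Strict transforms along blow-ups are blow-ups
-/

set_option autoImplicit false
universe u
open CategoryTheory CategoryTheory.Limits AlgebraicGeometry TopologicalSpace

namespace RGFlatLib

variable {X S : Scheme.{u}}

/-- The strict transform of `X` is the blow-up of `X` in the pulled back centre. -/
theorem isBlowUp_strict {S' X' : Scheme.{u}} {f : X ⟶ S} {b : S' ⟶ S} {K : S.IdealSheafData}
    (hb : BlowUp.IsBlowUp b K) {p₁ : X' ⟶ X} {p₂ : X' ⟶ S'} (hpb : IsPullback p₁ p₂ f b)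
    {𝒥 : X'.IdealSheafData} (h𝒥 : ∀ (V : X'.affineOpens) (a : Γ(X', V.1)), a ∈ 𝒥.ideal V ↔
      BlowUp.KilledByPowerNear ((K.comap b).comap p₂) (Coh.structureModule X') V a) :
    BlowUp.IsBlowUp (𝒥.subschemeι ≫ p₁) (K.comap f) := by
  haveI := quasiCompact_interior (isLocPrincipal_comap hb.1 p₂)
  have he := strictIdeal_eq_ker (isLocPrincipal_comap hb.1 p₂) h𝒥
  refine ⟨?_, fun Z g hg => ?_⟩
  · rw [← Scheme.IdealSheafData.comap_comp, Category.assoc, hpb.w, ← Category.assoc, Scheme.IdealSheafData.comap_comp]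
    exact (strict_basic hb.1 p₂ h𝒥).2
  rw [← Scheme.IdealSheafData.comap_comp] at hg
  obtain ⟨l, hl, -⟩ := hb.2 Z (g ≫ f) hg
  let k : Z ⟶ X' := hpb.lift g l hl.symm
  have hdz := ModPairLib.isDominant_interior hg
  have hr : Set.range ((ModPair.interior (K.comap (g ≫ f))).ι ≫ k) ⊆
      Set.range (ModPair.interior ((K.comap b).comap p₂)).ι := by
    rintro _ ⟨w, rfl⟩
    rw [Scheme.Opens.range_ι, SetLike.mem_coe]
    change k w.1 ∈ ModPair.interior ((K.comap b).comap p₂)
    rw [ModPairLib.interior_comap]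
    show p₂ (k w.1) ∈ ModPair.interior (K.comap b)
    rw [← Scheme.Hom.comp_apply, hpb.lift_snd]
    have hw : (w.1 : Z) ∈ ModPair.interior ((K.comap b).comap l) := by
      rw [← Scheme.IdealSheafData.comap_comp, hl]
      exact w.2
    exact (ModPairLib.interior_comap _ l).le hw
  have hle : 𝒥.subschemeι.ker ≤ k.ker := calc
    𝒥.subschemeι.ker = (ModPair.interior ((K.comap b).comap p₂)).ι.ker := by
      rw [Scheme.IdealSheafData.ker_subschemeι]; exact he
    _ ≤ (IsOpenImmersion.lift (ModPair.interior ((K.comap b).comap p₂)).ι _ hr ≫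
          (ModPair.interior ((K.comap b).comap p₂)).ι).ker := Scheme.Hom.le_ker_comp _ _
    _ = ((ModPair.interior (K.comap (g ≫ f))).ι ≫ k).ker := by rw [IsOpenImmersion.lift_fac]
    _ = k.ker := by rw [Scheme.Hom.ker_comp, hdz.ker_eq_bot, Scheme.IdealSheafData.map_bot]
  let m : Z ⟶ 𝒥.subscheme := IsClosedImmersion.lift 𝒥.subschemeι k hle
  have hm : m ≫ 𝒥.subschemeι = k := IsClosedImmersion.lift_fac _ _ _
  refine ⟨m, show m ≫ 𝒥.subschemeι ≫ p₁ = g by rw [reassoc_of% hm, hpb.lift_fst], fun m' hm' => ?_⟩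
  rw [← cancel_mono 𝒥.subschemeι, hm]
  refine hpb.hom_ext ((Category.assoc _ _ _).trans (hm'.trans (hpb.lift_fst _ _ _).symm)) ?_
  rw [hpb.lift_snd]
  refine BlowUpLib.hom_ext hb (g ≫ f) hg ?_ hl
  rw [Category.assoc, Category.assoc, ← hpb.w]
  simp [← hm']

/-- A separated morphism dominated by a blow-up whose centre has exact complement where it is an
isomorphism: the lift is the blow-up of the pulled back centre. -/
theorem isBlowUp_lift {X' Y : Scheme.{u}} (f : X' ⟶ X) [IsSeparated f] {K : X.IdealSheafData}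
    [IsIso (f ∣_ ModPair.interior K)] {b : Y ⟶ X} (hb : BlowUp.IsBlowUp b K) (h : Y ⟶ X') (hh : h ≫ f = b) :
    BlowUp.IsBlowUp h (K.comap f) := by
  refine ⟨by rw [← Scheme.IdealSheafData.comap_comp, hh]; exact hb.1, fun T g hg => ?_⟩
  rw [← Scheme.IdealSheafData.comap_comp] at hg
  obtain ⟨l, hl, hu⟩ := hb.2 T (g ≫ f) hg
  refine ⟨l, ?_, fun m hm => hu m (show m ≫ b = g ≫ f by rw [← hh, ← Category.assoc, hm])⟩
  refine ModPairLib.ext_of_interior hg f (by rw [Category.assoc, hh, hl]) ?_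
  refine ModPairLib.eq_of_isIso_restrict (s := f) (V := ModPair.interior K)
    (by simp only [Category.assoc, hh, hl]) fun w => ?_
  show f (((ModPair.interior (K.comap (g ≫ f))).ι ≫ l ≫ h) w) ∈ _
  rw [← Scheme.Hom.comp_apply, Category.assoc, Category.assoc, hh, hl]
  exact (ModPairLib.interior_comap K (g ≫ f)).le w.2

end RGFlatLib
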