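import Mathlib
import Groth.Agent.MiscFlat6.AmpleFamilyRel
import Groth.Agent.MiscFlat6.RelTwistOne
import Groth.Agent.MiscFlat6.InvDual
import Groth.Agent.AVAmpleLib.CartierSection
import Groth.Agent.IntMultLib.Cartier
import Groth.Agent.LinSysLib.BlowUp
import Groth.Agent.FlatModifLib.Main
import Groth.Agent.MiscFlat6.FTIdeal
import Groth.Agent.AmpleDevLib.Devissage

/-!
# An ample family of invertible modules after a blowing up
-/

set_option autoImplicit false

universe u

open CategoryTheory CategoryTheory.Limits AlgebraicGeometry TopologicalSpace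
open AmpleLib AmpleThLib MiscFlat6
open TwistLib (genSet)

noncomputable section

namespace RGFlatLib

/-- an affine locus through a point of the locus of a section with ample restriction -/
theorem exists_affine_locus {X : Scheme.{u}} [CompactSpace X] [QuasiSeparatedSpace X] {L K : X.Modules}
    (hL : PicF.IsInvertible L) (hK : PicF.IsInvertible K) (t : Γ(K, ⊤)) {x : X} (hxV : x ∈ genSet hK t)
    (hA : CohB1.IsAmple (L.restrict (genSet hK t).ι)) :
    ∃ (L' : X.Modules) (n : ℕ) (s : Coh.structureModule X ⟶ CohB1.tensorPow L' n),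
      PicF.IsInvertible L' ∧ 1 ≤ n ∧ x ∈ CohB1.genLocus (CohB1.tensorPow L' n) s ∧
        IsAffineOpen (CohB1.genLocus (CohB1.tensorPow L' n) s) := by
  let U : X.Opens := genSet hK t
  have hLU := restrict_isInvertible hL U.ι
  obtain ⟨n, W, hn, ⟨σ, hσ⟩, hxW, hW⟩ := ((isAmple_iff (hL := hLU)).mp hA).2 ⟨x, hxV⟩
  have hM := tensorPow_isInvertible hL n
  let φ := (exists_restrIso hL U.ι n).choose
  let σ' : Γ((CohB1.tensorPow L n).restrict U.ι, ⊤) := φ.hom.app ⊤ σ
  have hσ' : genSet (restrict_isInvertible hM U.ι) σ' = W := (genSet_iso _ _ φ σ).trans hσ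
  have htop : U.ι ''ᵁ ⊤ = genSet hK t := U.ι_image_top
  let σX : Γ(CohB1.tensorPow L n, genSet hK t) :=
    res (CohB1.tensorPow L n) htop.ge (show Γ(CohB1.tensorPow L n, U.ι ''ᵁ ⊤) from σ')
  obtain ⟨N, hN⟩ := exists_extend_mixed hM hK t σX
  obtain ⟨u, hu⟩ := hN N le_rfl
  have hMN := tensorMod_isInvertible hM (tensorPow_isInvertible hK N)
  have hMf := tensorMod_isInvertible hMN hK
  let w : Γ(CohB1.tensorMod (CohB1.tensorMod (CohB1.tensorPow L n)
    (CohB1.tensorPow K N)) K, ⊤) := shT u t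
  have hw : genSet hMf w = U.ι ''ᵁ W := by
    rw [mem_genSet_shT hMN hK u t]
    ext y
    by_cases hy : y ∈ genSet hK t
    · have hyU : y ∈ U := hy
      have e0 : GenAt _ u (show y ∈ (⊤ : X.Opens) from trivial) ↔ GenAt (CohB1.tensorPow L n) σX hy := by
        rw [← genAt_res (le_top : genSet hK t ≤ ⊤) u hy, hu]
        have htN : GenOn _ (res (CohB1.tensorPow K N) (le_top : genSet hK t ≤ ⊤) (pS t N)) := by
          rw [pS_res]; exact pS_genOn (TwistLib.genSet_genOn hK t) N
        obtain ⟨A, e, hyA, he⟩ := TwistLib.exists_genOn hM y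
        have he' := he.res (inf_le_left : A ⊓ genSet hK t ≤ A)
        have htN' := htN.res (inf_le_right : A ⊓ genSet hK t ≤ genSet hK t)
        have hyA' : y ∈ A ⊓ genSet hK t := ⟨hyA, hy⟩
        obtain ⟨c, hc⟩ := (he' (A ⊓ genSet hK t) le_rfl).2 (res _ inf_le_right σX)
        dsimp only at hc
        rw [res_refl] at hc
        have hsm : ∀ B : Γ(CohB1.tensorPow K N, A ⊓ genSet hK t),
            shT (c • res (CohB1.tensorPow L n) inf_le_left e) B = c • shT (res (CohB1.tensorPow L n) inf_le_left e) B := fun B => by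
          have := shT_smul c 1 (res (CohB1.tensorPow L n) (inf_le_left : A ⊓ genSet hK t ≤ A) e) B
          rwa [one_smul, mul_one] at this
        rw [← genAt_res (inf_le_right : A ⊓ genSet hK t ≤ genSet hK t) (shT σX _) hyA',
          ← genAt_res (inf_le_right : A ⊓ genSet hK t ≤ genSet hK t) σX hyA', shT_res, ← hc, hsm,
          genAt_smul_iff c _ hyA' ((shT_genOn he' htN').genAt hyA'), genAt_smul_iff c _ hyA' (he'.genAt hyA')]
      have e1 : GenAt (CohB1.tensorPow L n) σX hy ↔ (⟨y, hyU⟩ : U) ∈ genSet (restrict_isInvertible hM U.ι) σ' := by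
        exact (genAt_res htop.ge _ hy).trans (genAt_restrict_iff hM U.ι σ' ⟨y, hyU⟩).symm
      rw [hσ'] at e1
      constructor
      · rintro ⟨h, -⟩; exact ⟨⟨y, hyU⟩, e1.1 (e0.1 h), rfl⟩
      · rintro ⟨z, hz, rfl⟩; exact ⟨e0.2 (e1.2 hz), hy⟩
    · refine ⟨fun h => absurd h.2 hy, ?_⟩
      rintro ⟨z, -, rfl⟩
      exact absurd z.2 hy
  refine ⟨_, 1, QCohLib.unitHom _ (pS w 1), hMf, le_rfl, ?_, ?_⟩ <;>
    rw [genLocus_unitHom (tensorPow_isInvertible hMf 1), genSet_pS hMf w one_pos, hw]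
  · exact ⟨⟨x, hxV⟩, hxW, rfl⟩
  · exact hW.image_of_isOpenImmersion U.ι

/-- finitely many affine opens through a common dense quasi-compact open -/
theorem exists_affine_cover_dense (X : Scheme.{u}) [CompactSpace X] (hirr : (irreducibleComponents ↥X).Finite) :
    ∃ U : X.Opens, IsCompact (U : Set X) ∧ Dense (U : Set X) ∧
      ∃ (s : Finset X) (V : X → X.Opens), (∀ i, IsAffineOpen (V i)) ∧ (∀ i, U ≤ V i) ∧ ∀ x, ∃ i ∈ s, x ∈ V i := by
  classical
  choose A hA hxA _h using fun x : X => exists_isAffineOpen_mem_and_subset (x := x) (U := ⊤) trivial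
  obtain ⟨s, hs⟩ := isCompact_univ.elim_finite_subcover (fun x => (A x : Set X)) (fun x => (A x).2)
    fun x _ => Set.mem_iUnion.mpr ⟨x, hxA x⟩
  let C := irreducibleComponents ↥X
  let η : C → X := fun c => IsIrreducible.genericPoint c.2.1
  have hη : ∀ c : C, closure ({η c} : Set X) = c.1 := fun c =>
    IsIrreducible.closure_genericPoint c.2.1 (isClosed_of_mem_irreducibleComponents c.1 c.2)
  have hηc : ∀ c : C, η c ∈ c.1 := fun c => (hη c).subset (subset_closure (Set.mem_singleton _))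
  have hmax : ∀ c c' : C, η c ∈ c'.1 → c = c' := fun c c' h => by
    have h1 : c.1 ⊆ c'.1 := (hη c).symm.subset.trans
      ((isClosed_of_mem_irreducibleComponents c'.1 c'.2).closure_subset_iff.2 (Set.singleton_subset_iff.2 h))
    exact Subtype.ext (Set.Subset.antisymm h1 (c.2.2 c'.2.1 h1))
  haveI : Finite C := hirr.to_subtype
  let O : C → X.Opens := fun c =>
    ⟨(⋃ c' : {c' : C // c' ≠ c}, (c'.1.1 : Set X))ᶜ ∩ ⋂ i : {i : X // i ∈ s ∧ η c ∈ A i}, (A i.1 : Set X), by
      haveI : Finite {i : X // i ∈ s ∧ η c ∈ A i} :=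
        ((s.finite_toSet).subset fun i (hi : i ∈ {i : X | i ∈ s ∧ η c ∈ A i}) => hi.1).to_subtype
      exact ((isClosed_iUnion_of_finite fun c' : {c' : C // c' ≠ c} =>
        isClosed_of_mem_irreducibleComponents _ c'.1.2).isOpen_compl).inter (isOpen_iInter_of_finite fun i => (A i.1).2)⟩
  have hηO : ∀ c, η c ∈ O c := fun c => ⟨fun h => by
    obtain ⟨c', hc'⟩ := Set.mem_iUnion.1 h
    exact c'.2 (hmax c c'.1 hc').symm, Set.mem_iInter.2 fun i => i.2.2⟩
  choose W hW hηW hWO using fun c => exists_isAffineOpen_mem_and_subset (hηO c)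
  have hWc : ∀ c, ∀ x ∈ W c, x ∈ c.1 ∧ ∀ c' : C, x ∈ c'.1 → c' = c := by
    intro c x hx
    have h1 : ∀ c' : C, x ∈ c'.1 → c' = c := fun c' h' => by
      by_contra hne
      exact (hWO c hx).1 (Set.mem_iUnion.2 ⟨⟨c', hne⟩, h'⟩)
    obtain ⟨D, hD, hxD⟩ := Set.mem_sUnion.1
      ((sUnion_irreducibleComponents (X := ↥X)).ge (Set.mem_univ x))
    exact ⟨h1 ⟨D, hD⟩ hxD ▸ hxD, h1⟩
  have hdisj : ∀ c c', c ≠ c' → Disjoint (W c) (W c') := fun c c' hne => by
    rw [← Opens.coe_disjoint, Set.disjoint_left]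
    exact fun x hx hx' => hne ((hWc c' x hx').2 c (hWc c x hx).1)
  have hgen : ∀ c, ∀ i, η c ∉ A i → Disjoint (A i) (W c) := fun c i hi => by
    rw [← Opens.coe_disjoint, Set.disjoint_left]
    intro x hx hx'
    exact hi ((specializes_iff_mem_closure.2 ((hη c).ge (hWc c x hx').1)).mem_open (A i).2 hx)
  let Wi : X → X.Opens := fun i => ⨆ c : {c : C // η c ∉ A i}, W c.1
  refine ⟨⨆ c, W c, ?_, ?_, s, fun i => if i ∈ s then A i ⊔ Wi i else ⨆ c, W c, fun i => ?_, fun i => ?_, fun x => ?_⟩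
  · rw [Opens.coe_iSup]
    exact isCompact_iUnion fun c => (hW c).isCompact
  · rw [dense_iff_closure_eq, Set.eq_univ_iff_forall]
    intro x
    obtain ⟨D, hD, hxD⟩ := Set.mem_sUnion.1 ((sUnion_irreducibleComponents (X := ↥X)).ge (Set.mem_univ x))
    refine closure_mono ?_ ((hη ⟨D, hD⟩).ge hxD)
    exact Set.singleton_subset_iff.2 (Opens.mem_iSup.2 ⟨_, hηW ⟨D, hD⟩⟩)
  · have hU : IsAffineOpen (⨆ c, W c) := IsAffineOpen.iSup_of_disjoint hW fun c c' hne => hdisj c c' hne
    dsimp only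
    split_ifs
    · refine IsAffineOpen.sup_of_disjoint (hA i)
        (IsAffineOpen.iSup_of_disjoint (fun c => hW c.1) fun c c' hne => hdisj _ _ fun h => hne (Subtype.ext h)) ?_
      rw [← Opens.coe_disjoint, Set.disjoint_left]
      intro x hx hx'
      obtain ⟨c, hc⟩ := Opens.mem_iSup.1 hx'
      exact Set.disjoint_left.1 (Opens.coe_disjoint.2 (hgen c.1 i c.2)) hx hc
    · exact hU
  · dsimp only
    split_ifs with hi
    · refine iSup_le fun c => ?_
      by_cases h : η c ∈ A i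
      · exact fun x hx => Or.inl (Set.mem_iInter.1 (hWO c hx).2 ⟨i, hi, h⟩)
      · exact (le_iSup (fun c : {c : C // η c ∉ A i} => W c.1) ⟨c, h⟩).trans le_sup_right
    · exact le_rfl
  · obtain ⟨i, hi, hxi⟩ := Set.mem_iUnion₂.1 (hs (Set.mem_univ x))
    exact ⟨i, hi, by dsimp only; rw [if_pos hi]; exact Or.inl hxi⟩

/-- An admissible blow-up with an ample family. -/
theorem exists_blowUp_ampleFamily (X : Scheme.{u}) [CompactSpace X] [QuasiSeparatedSpace X]
    (hirr : (irreducibleComponents ↥X).Finite) :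
    ∃ (U : X.Opens) (𝓘 : X.IdealSheafData) (X' : Scheme.{u}) (b : X' ⟶ X),
      IsCompact (U : Set X) ∧ Dense (U : Set X) ∧ BlowUp.IsAdmissibleFor U 𝓘 ∧ BlowUp.IsBlowUp b 𝓘 ∧
      MoreMor.HasAmpleFamily X' := by
  classical
  obtain ⟨U, hUc, hUd, s, V, hV, hUV, hcov⟩ := exists_affine_cover_dense X hirr
  choose I hIfg hIs using fun i => MiscFlat6.exists_finiteType_idealSheaf (V i) (hV i).isCompact
  let P := ∏ i ∈ s, I i
  have hPfg : BlowUp.IsFiniteTypeIdeal P := by
    refine Finset.prod_induction I BlowUp.IsFiniteTypeIdeal (fun a b ha hb W => ?_) (fun W => ?_) fun i _ => hIfg i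
    · rw [Scheme.IdealSheafData.ideal_mul, Pi.mul_apply]
      exact (ha W).mul (hb W)
    · exact ⟨{1}, by simp [Scheme.IdealSheafData.one_eq_top]⟩
  have hPU : Disjoint (P.support : Set X) (U : Set X) := Set.disjoint_left.2 fun x hx hxU =>
    FlatModifLib.support_finsetProd s I x (fun i _ hxi => by
      rw [← SetLike.mem_coe, hIs i] at hxi
      exact hxi (hUV i hxU)) hx
  obtain ⟨X', b, hb⟩ := BlowUpLib.exists_isBlowUp X P
  refine ⟨U, P, X', b, hUc, hUd, ⟨hPfg, hPU⟩, hb, ?_⟩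
  haveI := BlowUpLib.isProper_of_isBlowUp hb hPfg
  haveI : CompactSpace X' := QuasiCompact.compactSpace_of_compactSpace b
  haveI : QuasiSeparatedSpace X' := quasiSeparatedSpace_of_quasiSeparated b
  obtain ⟨⟨-, -, L, hR⟩, -⟩ := MiscFlat6.isQuasiProjective_of_isProjective
    (LinSysLib.isProjective_of_isBlowUp hb hPfg)
  refine ⟨inferInstance, fun x => ?_⟩
  obtain ⟨i, hi, hxi⟩ := hcov (b x)
  let E := (I i).comap b
  have hE : BlowUp.IsEffCartierIdeal E := FlatModifLib.isEffCartier_factor b s I hb.1 i hi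
  have hJ := IntMultLib.isInvertible_idealMod E hE
  let K := MiscFlat6.dual (ClSub.idealMod E)
  have hK : PicF.IsInvertible K := MiscFlat6.dual_isInvertible hJ
  obtain ⟨eJ⟩ := MiscFlat6.nonempty_dualIso hJ
  have hinv : ClSub.IsInverseOf K (ClSub.idealMod E) := ⟨AmpleDevLib.tensComm _ _ ≪≫ eJ⟩
  obtain ⟨σ, hσ⟩ := AVAmpleLib.exists_section hK hinv
  have hgen : genSet hK σ = b ⁻¹ᵁ V i := by
    refine Opens.ext (hσ.trans ?_)
    rw [Scheme.IdealSheafData.support_comap, Closeds.coe_preimage, hIs i, Set.preimage_compl, compl_compl]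
    rfl
  have hLi : PicF.IsInvertible L := isRelAmple_pb.invertible_of_restrict b hR
  refine exists_affine_locus hLi hK σ (show x ∈ genSet hK σ by rw [hgen]; exact hxi) ?_
  rw [hgen]
  exact hR.2 ⟨V i, hV i⟩

end RGFlatLib

end
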