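import Mathlib
import Groth.Agent.RGFlatLib.Main
import Groth.Agent.RGFlatLib.GenAvoid
import Groth.Agent.RichLib.FlatLociOpen
import Groth.Agent.LCILocusLib.Scheme
import Groth.Agent.StrictModLib.Basic
import Groth.Agent.KFlatLib.PerfectPull

/-!
# An admissible blow-up keeping generic points of fibres in the closure of a given open
-/

set_option autoImplicit false
set_option maxHeartbeats 1000000

noncomputable section

universe u

open CategoryTheory CategoryTheory.Limits AlgebraicGeometry TensorProduct BlowUpLib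

namespace RGFlatLib

variable {X S : Scheme.{u}}

/-- a generator of an effective Cartier ideal on an affine open is a nonzerodivisor -/
theorem isNonZeroDivisor_of_span {𝓔 : X.IdealSheafData} (hE : BlowUp.IsEffCartierIdeal 𝓔) {T : X.Opens}
    (hT : IsAffineOpen T) {g : Γ(X, T)} (h : 𝓔.ideal ⟨T, hT⟩ = Ideal.span {g}) : g ∈ nonZeroDivisors Γ(X, T) := by
  refine mem_nonZeroDivisors_iff_right.2 fun a ha => ?_
  refine StrictModLib.eq_zero_of_killed hE (Coh.structureModule X)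
    (fun x _ => KFlatLib.flat_structureModule X x) ⟨T, hT⟩ a ⟨1, fun c hc => ?_⟩
  rw [pow_one, h] at hc
  obtain ⟨d, rfl⟩ := Ideal.mem_span_singleton'.1 hc
  show (d * g) * a = 0
  rw [mul_assoc, mul_comm g a, ha, mul_zero]

/-- outside the support the generator is invertible -/
theorem mem_basicOpen_of_span {𝓔 : X.IdealSheafData} {T : X.Opens} (hT : IsAffineOpen T) {g : Γ(X, T)}
    (h : 𝓔.ideal ⟨T, hT⟩ = Ideal.span {g}) {x : X} (hx : x ∈ T) (hs : x ∉ (𝓔.support : Set X)) :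
    x ∈ X.basicOpen g := by
  by_contra hg
  refine hs ((Scheme.IdealSheafData.mem_support_iff_of_mem (U := ⟨T, hT⟩) hx).2 ?_)
  rw [h, Scheme.zeroLocus_span, Scheme.mem_zeroLocus_iff]
  exact fun a ha => by rw [Set.mem_singleton_iff.1 ha]; exact hg

/-- field valued fibres of an affine morphism with geometrically integral fibres are domains -/
theorem isDomain_fibre (f : X ⟶ S) [GeometricallyIntegral f] [IsAffineHom f] {W : S.Opens} (hW : IsAffineOpen W)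
    (K : Type u) [Field K] (φ : Γ(S, W) →+* K) :
    letI : Algebra Γ(S, W) Γ(X, f ⁻¹ᵁ W) := (f.appLE W (f ⁻¹ᵁ W) le_rfl).hom.toAlgebra
    letI : Algebra Γ(S, W) K := φ.toAlgebra
    IsDomain (K ⊗[Γ(S, W)] Γ(X, f ⁻¹ᵁ W)) := by
  letI : Algebra Γ(S, W) Γ(X, f ⁻¹ᵁ W) := (f.appLE W (f ⁻¹ᵁ W) le_rfl).hom.toAlgebra
  letI : Algebra Γ(S, W) K := φ.toAlgebra
  let SK := Spec (CommRingCat.of K)
  let b : SK ⟶ S := Spec.map (CommRingCat.ofHom φ) ≫ hW.fromSpec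
  have eT : (⊤ : SK.Opens) ≤ b ⁻¹ᵁ W := fun z _ => by
    show hW.fromSpec (Spec.map (CommRingCat.ofHom φ) z) ∈ W
    exact hW.range_fromSpec.le ⟨_, rfl⟩
  have happ : b.appLE W ⊤ eT = CommRingCat.ofHom φ ≫ (Scheme.ΓSpecIso (CommRingCat.of K)).inv := by
    apply Spec.map_injective
    rw [← cancel_mono hW.fromSpec, IsAffineOpen.SpecMap_appLE_fromSpec b hW (isAffineOpen_top SK) eT,
      IsAffineOpen.fromSpec_top, Spec.map_comp]
    simp only [b, SK, Category.assoc]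
    rw [← Category.assoc, ← Category.assoc]
    congr 2
    rw [Scheme.isoSpec_Spec_inv]
  haveI : IsIntegral (pullback f b) := GeometricallyIntegral.geometrically_isIntegral b _ _ (IsPullback.of_hasPullback f b)
  let T := Γ(SK, ⊤)
  letI : Algebra Γ(S, W) T := (b.appLE W ⊤ eT).hom.toAlgebra
  obtain ⟨j, hj, hjr, -⟩ := exists_bc_piece f b (IsPullback.of_hasPullback f b) (hW.preimage f) hW
    (isAffineOpen_top SK) le_rfl eT
  haveI := hj
  haveI : Surjective j := ⟨fun z => hjr z (by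
    show f (pullback.fst f b z) ∈ W
    rw [← Scheme.Hom.comp_apply, pullback.condition, Scheme.Hom.comp_apply]
    exact eT (Set.mem_univ _)) trivial⟩
  haveI : IsIso j := (isIso_iff_isOpenImmersion_and_surjective j).mpr ⟨hj, inferInstance⟩
  haveI : IsDomain (T ⊗[Γ(S, W)] Γ(X, f ⁻¹ᵁ W)) := by
    obtain ⟨z, -⟩ := Scheme.Hom.surjective j (Classical.arbitrary ↥(pullback f b))
    haveI : Nonempty ↥(Spec (CommRingCat.of (T ⊗[Γ(S, W)] Γ(X, f ⁻¹ᵁ W)))) := ⟨z⟩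
    exact (affine_isIntegral_iff _).1 (isIntegral_of_isOpenImmersion j)
  let e : K ≃ₐ[Γ(S, W)] T := AlgEquiv.ofRingEquiv
    (f := (Scheme.ΓSpecIso (CommRingCat.of K)).commRingCatIsoToRingEquiv.symm) fun a => by
      show (Scheme.ΓSpecIso (CommRingCat.of K)).inv (φ a) = (b.appLE W ⊤ eT).hom a
      rw [happ]; rfl
  exact MulEquiv.isDomain (T ⊗[Γ(S, W)] Γ(X, f ⁻¹ᵁ W))
    (Algebra.TensorProduct.congr e AlgEquiv.refl).toRingEquiv.toMulEquiv

/-- an element outside a prime over the kernel survives in every field valued fibre -/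
theorem one_tmul_ne_zero {A B K : Type u} [CommRing A] [CommRing B] [Field K] [Algebra A B] [Module.Flat A B]
    [Algebra A K] {h : B} {q : Ideal B} (hq : q.comap (algebraMap A B) = RingHom.ker (algebraMap A K)) (hh : h ∉ q) :
    (1 : K) ⊗ₜ[A] h ≠ 0 := by
  intro h0
  let p := RingHom.ker (algebraMap A K)
  let l : (A ⧸ p) →ₗ[A] K := (Ideal.kerLiftAlg (Algebra.ofId A K)).toLinearMap
  have hl : Function.Injective l := Ideal.kerLiftAlg_injective (Algebra.ofId A K)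
  have h1 : (1 : A ⧸ p) ⊗ₜ[A] h = 0 := Module.Flat.rTensor_preserves_injective_linearMap l hl (by
    rw [LinearMap.rTensor_tmul, map_zero, show l 1 = 1 from map_one (Ideal.kerLiftAlg (Algebra.ofId A K))]
    exact h0)
  have h2 := congrArg (TensorProduct.quotTensorEquivQuotSMul B p) h1
  rw [TensorProduct.quotTensorEquivQuotSMul_mk_one_tmul, map_zero, Submodule.Quotient.mk_eq_zero,
    Ideal.smul_top_eq_map] at h2
  refine hh ((Ideal.map_le_iff_le_comap.2 hq.ge) ?_)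
  exact h2

/-- The centre for one affine open of the base. -/
theorem exists_center_affine_generic [CompactSpace S] [QuasiSeparatedSpace S] (f : X ⟶ S) [IsAffineHom f]
    [LocallyOfFinitePresentation f] [Flat f] [GeometricallyIntegral f] (U : S.Opens) (hU : IsCompact (U : Set S))
    (O₀ : X.Opens) (hO₀ : ∀ s ∈ U, ∃ z ∈ O₀, f z = s) {W : S.Opens} (hW : IsAffineOpen W) :
    ∃ 𝓘 : S.IdealSheafData, BlowUp.IsAdmissibleFor U 𝓘 ∧ ∀ (𝓚 : S.IdealSheafData),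
      Disjoint (𝓚.support : Set S) (U : Set S) → 𝓚.ideal ⟨W, hW⟩ ≤ 𝓘.ideal ⟨W, hW⟩ →
      ∀ (S' : Scheme.{u}) (b : S' ⟶ S), BlowUp.IsEffCartierIdeal (𝓘.comap b) → BlowUp.IsEffCartierIdeal (𝓚.comap b) →
      ∀ (X' : Scheme.{u}) (p₁ : X' ⟶ X) (p₂ : X' ⟶ S'), IsPullback p₁ p₂ f b →
      ∀ y : S', b y ∈ W →
        ∃ D : X'.Opens, IsAffineOpen D ∧ (∃ z ∈ D, p₂ z = y) ∧ ∀ z ∈ D, b (p₂ z) ∈ U → p₁ z ∈ O₀ := by
  classical
  let Bo : X.Opens := f ⁻¹ᵁ W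
  have hB : IsAffineOpen Bo := hW.preimage f
  letI : Algebra Γ(S, W) Γ(X, f ⁻¹ᵁ W) := (f.appLE W (f ⁻¹ᵁ W) le_rfl).hom.toAlgebra
  haveI : Module.Flat Γ(S, W) Γ(X, f ⁻¹ᵁ W) := by
    exact f.flat_appLE hW hB le_rfl
  haveI : Algebra.FinitePresentation Γ(S, W) Γ(X, f ⁻¹ᵁ W) := by
    exact f.finitePresentation_appLE hW hB le_rfl
  -- `U ∩ W` is covered by finitely many basic opens
  have hUW : IsCompact ((W ⊓ U : S.Opens) : Set S) :=
    QuasiSeparatedSpace.inter_isCompact _ _ W.isOpen hW.isCompact U.isOpen hU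
  choose r hrU hr using fun x : (W ⊓ U : S.Opens) => hW.exists_basicOpen_le (V := W ⊓ U) x x.2.1
  obtain ⟨t, ht⟩ := hUW.elim_finite_subcover (fun x : (W ⊓ U : S.Opens) => (S.basicOpen (r x) : Set S))
    (fun x => (S.basicOpen _).isOpen) (fun x hx => Set.mem_iUnion.2 ⟨⟨x, hx⟩, hr ⟨x, hx⟩⟩)
  let s : Finset Γ(S, W) := t.image r
  have hsU : ∀ j ∈ s, S.basicOpen j ≤ W ⊓ U := fun j hj => by
    obtain ⟨x, -, rfl⟩ := Finset.mem_image.1 hj
    exact hrU x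
  -- finitely many functions on `f ⁻¹ W` cutting out a dense open of each fibre inside `O₀`
  have hpick : ∀ x : (W ⊓ U : S.Opens), ∃ h : Γ(X, f ⁻¹ᵁ W), X.basicOpen h ≤ O₀ ∧ x.1 ∈ f '' (X.basicOpen h : Set X) := by
    intro x
    obtain ⟨z, hz, hzx⟩ := hO₀ x.1 x.2.2
    obtain ⟨h, hh, hzh⟩ := hB.exists_basicOpen_le (V := O₀) ⟨z, hz⟩
      (show z ∈ f ⁻¹ᵁ W by show f z ∈ W; rw [hzx]; exact x.2.1)
    exact ⟨h, hh, z, hzh, hzx⟩
  choose h₀ hh₀ hxh₀ using hpick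
  obtain ⟨κ, hκ⟩ := hUW.elim_finite_subcover (fun x : (W ⊓ U : S.Opens) => f '' (X.basicOpen (h₀ x) : Set X))
    (fun x => f.isOpenMap _ (X.basicOpen (h₀ x)).isOpen) (fun x hx => Set.mem_iUnion.2 ⟨⟨x, hx⟩, hxh₀ ⟨x, hx⟩⟩)
  let ι : Type u := ↥κ
  let h : ι → Γ(X, f ⁻¹ᵁ W) := fun i => h₀ i.1
  have hd : ∀ (K : Type u) [Field K] [Algebra Γ(S, W) K], IsDomain (K ⊗[Γ(S, W)] Γ(X, f ⁻¹ᵁ W)) := by
    intro K _ i
    have := isDomain_fibre f hW K (algebraMap Γ(S, W) K)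
    convert this <;> exact Algebra.algebra_ext _ _ fun _ => rfl
  have hne : ∀ j ∈ s, ∀ (K : Type u) [Field K] [Algebra Γ(S, W) K], algebraMap Γ(S, W) K j ≠ 0 →
      ∃ i, (1 : K) ⊗ₜ[Γ(S, W)] h i ≠ 0 := by
    intro j hj K _ _ hjK
    let p : PrimeSpectrum Γ(S, W) := ⟨RingHom.ker (algebraMap Γ(S, W) K), RingHom.ker_isPrime _⟩
    let x := hW.fromSpec p
    have hxW : x ∈ W := hW.range_fromSpec.le ⟨p, rfl⟩
    have hpx : hW.primeIdealOf ⟨x, hxW⟩ = p := hW.fromSpec.isOpenEmbedding.injective (hW.fromSpec_primeIdealOf _)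
    have hxj : x ∈ S.basicOpen j := by
      rw [show x ∈ S.basicOpen j ↔ _ from RichLib.FlatLoci.mem_basicOpen_iff_primeIdealOf hW j ⟨x, hxW⟩, hpx]
      exact hjK
    obtain ⟨i, hi, z, hz, hzx⟩ := Set.mem_iUnion₂.1 (hκ (hsU j hj hxj))
    have hzB : z ∈ f ⁻¹ᵁ W := X.basicOpen_le _ hz
    refine ⟨⟨i, hi⟩, one_tmul_ne_zero (q := (hB.primeIdealOf ⟨z, hzB⟩).asIdeal) ?_
      ((RichLib.FlatLoci.mem_basicOpen_iff_primeIdealOf hB _ ⟨z, hzB⟩).1 hz)⟩
    have h1 := IsAffineOpen.comap_primeIdealOf_appLE (f := f) W hW (f ⁻¹ᵁ W) hB le_rfl (x := z) hzB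
    rw [show (⟨f z, le_rfl (a := f ⁻¹ᵁ W) hzB⟩ : W) = ⟨x, hxW⟩ from Subtype.ext hzx, hpx] at h1
    have h2 := congrArg PrimeSpectrum.asIdeal h1
    exact h2
  let R := MvPolynomial ι Γ(X, f ⁻¹ᵁ W)
  let Q := R ⧸ Ideal.span {combi h}
  haveI : Algebra.FinitePresentation Γ(S, W) R := Algebra.FinitePresentation.trans _ Γ(X, f ⁻¹ᵁ W) R
  haveI : Module.Flat Γ(S, W) R := Module.Flat.trans Γ(S, W) Γ(X, f ⁻¹ᵁ W) R
  haveI : Algebra.FiniteType Γ(S, W) Q := Algebra.FiniteType.of_surjective (Ideal.Quotient.mkₐ Γ(S, W) _) Ideal.Quotient.mk_surjective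
  obtain ⟨τ, hτ, π, hπ⟩ := Algebra.FiniteType.iff_quotient_mvPolynomial'.1
    (inferInstance : Algebra.FiniteType Γ(S, W) Q)
  haveI : Finite τ := @Finite.of_fintype _ hτ
  have hloc : ∀ j ∈ s, Module.Flat (Localization.Away j) (MvPolynomial τ (Localization.Away j) ⧸
      (RingHom.ker π).map (MvPolynomial.map (algebraMap Γ(S, W) (Localization.Away j)))) ∧
      ((RingHom.ker π).map (MvPolynomial.map (algebraMap Γ(S, W) (Localization.Away j)))).FG := by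
    intro j hj
    let A' := Localization.Away j
    obtain ⟨-, hfl, hfp⟩ := regular_flat_fp_of_fields (combi h) A' fun K _ _ _ _ => combi_fields h K (hd K)
      (hne j hj K (by
        rw [IsScalarTower.algebraMap_apply Γ(S, W) A' K]
        exact ((IsLocalization.Away.algebraMap_isUnit j).map (algebraMap A' K)).ne_zero))
    obtain ⟨θ, hθ, hθk⟩ := RzLib.UnivOpen.quot_bc π hπ (MvPolynomial.algebraTensorAlgEquiv (σ := τ) Γ(S, W) A')
      (MvPolynomial.map (algebraMap Γ(S, W) A')) fun x => by rw [MvPolynomial.algebraTensorAlgEquiv_tmul, one_smul]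
    haveI := hfl
    haveI := hfp
    refine ⟨Module.Flat.of_linearEquiv ((Ideal.quotientEquivAlgOfEq A' hθk.symm).trans
      (Ideal.quotientKerAlgEquivOfSurjective hθ)).toLinearEquiv, ?_⟩
    rw [← hθk]
    exact Algebra.FinitePresentation.ker_fG_of_surjective θ hθ
  obtain ⟨I, hIfg, hIs, hIrad, hgood⟩ := exists_flattening_center s (κ := PUnit.{u + 1}) (fun _ => τ)
    (fun _ => RingHom.ker π) (fun _ j hj => (hloc j hj).1) (fun _ j hj => (hloc j hj).2)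
  obtain ⟨𝓘, h𝓘fg, h𝓘U, h𝓘W⟩ := exists_extend_ideal U hU hW I hIfg fun x hxU hxW => by
    obtain ⟨y, hy, hxy⟩ := Set.mem_iUnion₂.1 (ht (show x ∈ W ⊓ U from ⟨hxW, hxU⟩))
    obtain ⟨m, hm⟩ := hIrad (r y) (Finset.mem_image_of_mem r hy)
    refine ⟨r y ^ (m + 1), ?_, ?_⟩
    · rw [pow_succ]; exact Ideal.mul_mem_right _ _ hm
    · rw [S.basicOpen_pow (r y) (Nat.succ_pos m)]
      exact hxy
  refine ⟨𝓘, ⟨h𝓘fg, h𝓘U⟩, fun 𝓚 hKU hK S' b hI' hK' X' p₁ p₂ hpb y hy => ?_⟩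
  have hrad : ∀ j ∈ s, j ∈ (𝓚.ideal ⟨W, hW⟩).radical := fun j hj =>
    mem_radical_of_support hW 𝓚 fun z hz hz' => Set.disjoint_left.1 hKU hz' (hsU j hj hz).2
  obtain ⟨T, hT, eT, hyT, g, hgK, hG⟩ := exists_good_nhd b hW s (fun _ : PUnit.{u + 1} => RingHom.ker π) 𝓘 𝓚
    (h𝓘W ▸ hIs) hK hrad (by rw [h𝓘W]; exact hgood) hI' hK' hy
  obtain ⟨hO, hpo⟩ := LCILocusLib.pullback_chart hpb hW hT eT hB le_rfl
  let O : X'.Opens := p₁ ⁻¹ᵁ Bo ⊓ p₂ ⁻¹ᵁ T
  have eO₁ : O ≤ p₁ ⁻¹ᵁ Bo := inf_le_left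
  have eO₂ : O ≤ p₂ ⁻¹ᵁ T := inf_le_right
  letI : Algebra Γ(S, W) Γ(S', T) := (b.appLE W T eT).hom.toAlgebra
  letI : Algebra Γ(X, f ⁻¹ᵁ W) Γ(X', O) := (p₁.appLE Bo O eO₁).hom.toAlgebra
  letI : Algebra Γ(S', T) Γ(X', O) := (p₂.appLE T O eO₂).hom.toAlgebra
  letI : Algebra Γ(S, W) Γ(X', O) := ((p₂.appLE T O eO₂).hom.comp (b.appLE W T eT).hom).toAlgebra
  haveI : IsScalarTower Γ(S, W) Γ(S', T) Γ(X', O) := IsScalarTower.of_algebraMap_eq fun _ => rfl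
  haveI : IsScalarTower Γ(S, W) Γ(X, f ⁻¹ᵁ W) Γ(X', O) := IsScalarTower.of_algebraMap_eq fun a => by
    exact (RingHom.congr_fun (congrArg CommRingCat.Hom.hom hpo.w) a).symm
  haveI : Algebra.IsPushout Γ(S, W) Γ(S', T) Γ(X, f ⁻¹ᵁ W) Γ(X', O) :=
    CommRingCat.isPushout_iff_isPushout.mp hpo.flip
  let p := (hT.primeIdealOf ⟨y, hyT⟩).asIdeal
  have hdC : IsDomain (p.ResidueField ⊗[Γ(S', T)] Γ(X', O)) := by
    haveI := hd p.ResidueField
    exact MulEquiv.isDomain (p.ResidueField ⊗[Γ(S, W)] Γ(X, f ⁻¹ᵁ W))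
      ((Algebra.TensorProduct.congr (AlgEquiv.refl (R := Γ(S', T)) (A₁ := p.ResidueField))
          (Algebra.IsPushout.equiv Γ(S, W) Γ(S', T) Γ(X, f ⁻¹ᵁ W) Γ(X', O)).symm).trans
        ((Algebra.TensorProduct.cancelBaseChange Γ(S, W) Γ(S', T) Γ(S', T) p.ResidueField Γ(X, f ⁻¹ᵁ W)))).toRingEquiv.toMulEquiv
  haveI : Module.Flat Γ(S', T) Γ(X', O) :=
    Module.Flat.of_linearEquiv (Algebra.IsPushout.equiv Γ(S, W) Γ(S', T) Γ(X, f ⁻¹ᵁ W) Γ(X', O)).symm.toLinearEquiv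
  obtain ⟨hq, hqp⟩ := isPrime_map_of_fibre (T := Γ(S', T)) (C := Γ(X', O)) p hdC
  have hgn : g ∈ nonZeroDivisors Γ(S', T) :=
    isNonZeroDivisor_of_span hK' hT ((ideal_comap_appLE b 𝓚 hW hT eT).symm.trans hgK)
  have hgs : g ∈ (Ideal.span (s : Set Γ(S, W))).map (algebraMap Γ(S, W) Γ(S', T)) := by
    refine Ideal.map_mono ((hK.trans h𝓘W.le).trans hIs) ?_
    rw [show (𝓚.ideal ⟨W, hW⟩).map (algebraMap Γ(S, W) Γ(S', T)) = _ from hgK]
    exact Ideal.mem_span_singleton_self g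
  obtain ⟨c, hc, hcP⟩ := exists_avoid (C := Γ(X', O)) s h hd hne π hπ g hgn hgs (hG PUnit.unit) p
  let q : PrimeSpectrum Γ(X', O) := ⟨p.map (algebraMap Γ(S', T) Γ(X', O)), hq⟩
  let z₀ := hO.fromSpec q
  have hz₀O : z₀ ∈ O := hO.range_fromSpec.le ⟨q, rfl⟩
  have hq₀ : hO.primeIdealOf ⟨z₀, hz₀O⟩ = q := hO.fromSpec.isOpenEmbedding.injective (hO.fromSpec_primeIdealOf _)
  refine ⟨X'.basicOpen c, hO.basicOpen c, ⟨z₀, ?_, ?_⟩, fun z hz hzU => ?_⟩
  · refine (RichLib.FlatLoci.mem_basicOpen_iff_primeIdealOf hO c ⟨z₀, hz₀O⟩).2 ?_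
    rw [hq₀]; exact hc
  · have h1 := IsAffineOpen.comap_primeIdealOf_appLE (f := p₂) T hT O hO eO₂ (x := z₀) hz₀O
    rw [hq₀] at h1
    have h2 : hT.primeIdealOf ⟨p₂ z₀, eO₂ hz₀O⟩ = hT.primeIdealOf ⟨y, hyT⟩ := h1.symm.trans (PrimeSpectrum.ext hqp)
    have h3 := congrArg (fun w => hT.fromSpec w) h2
    simp only [hT.fromSpec_primeIdealOf] at h3
    exact h3
  · have hzO : z ∈ O := X'.basicOpen_le c hz
    obtain ⟨i, hi⟩ := hcP (hO.primeIdealOf ⟨z, hzO⟩).asIdeal (hO.primeIdealOf ⟨z, hzO⟩).isPrime (by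
      refine (RichLib.FlatLoci.mem_basicOpen_iff_primeIdealOf hO _ ⟨z, hzO⟩).1 ?_
      show z ∈ X'.basicOpen ((p₂.appLE T O eO₂).hom g)
      rw [show X'.basicOpen ((p₂.appLE T O eO₂).hom g) = _ from Scheme.basicOpen_appLE p₂ _ _ eO₂ g]
      refine ⟨hzO, ?_⟩
      exact mem_basicOpen_of_span hT ((ideal_comap_appLE b 𝓚 hW hT eT).symm.trans hgK) (eO₂ hzO) fun hsupp => by
        rw [Scheme.IdealSheafData.support_comap] at hsupp
        exact Set.disjoint_left.1 hKU hsupp hzU)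
      ((RichLib.FlatLoci.mem_basicOpen_iff_primeIdealOf hO c ⟨z, hzO⟩).1 hz)
    have h1 : z ∈ X'.basicOpen ((p₁.appLE Bo O eO₁).hom (h i)) :=
      (RichLib.FlatLoci.mem_basicOpen_iff_primeIdealOf hO _ ⟨z, hzO⟩).2 hi
    rw [show X'.basicOpen ((p₁.appLE Bo O eO₁).hom (h i)) = _ from Scheme.basicOpen_appLE p₁ _ _ eO₁ (h i)] at h1
    exact hh₀ i.1 h1.2

end RGFlatLib

end
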