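import Mathlib
import Groth.Agent.RGFlatLib.StrictExists
import Groth.Agent.RGFlatLib.Strict
import Groth.Agent.FlatLib.PullbackInjective
import Groth.Agent.RichLib.IsFPAffine
import Groth.Agent.KFlatLib.AffinePull
import Groth.Agent.RGFlatLib.GenMain
import Groth.Agent.S4666

/-!
# Torsion of pullbacks of quotients by torsion
-/

set_option autoImplicit false
set_option maxHeartbeats 1000000

noncomputable section

universe u

open CategoryTheory CategoryTheory.Limits AlgebraicGeometry TensorProduct TopologicalSpace Opposite QCohLib KFlatLib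

namespace RGFlatLib

variable {X Z : Scheme.{u}}

/-- no sections killed by powers of the ideal -/
def IsTorsionFree (E : X.IdealSheafData) (M : X.Modules) : Prop :=
  ∀ (V : X.affineOpens) (m : Γ(M, V.1)), BlowUp.KilledByPowerNear E M V m → m = 0

/-- restriction of a killed section -/
theorem killed_res {E : X.IdealSheafData} (hE : BlowUp.IsFiniteTypeIdeal E) (P : X.Modules) [Coh.IsQCoh P]
    {V W : X.affineOpens} (h : W.1 ≤ V.1) {m : Γ(P, V.1)} (hm : BlowUp.KilledByPowerNear E P V m) :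
    BlowUp.KilledByPowerNear E P W (P.presheaf.map (homOfLE h).op m) := by
  let W₀ := ModPair.interior E
  rw [killed_iff_res_interior hE P V m (W₀ ⊓ V.1) inf_le_right fun x => ⟨fun hx => ⟨hx.2, hx.1⟩, fun hx => ⟨hx.2, hx.1⟩⟩] at hm
  rw [killed_iff_res_interior hE P W _ (W₀ ⊓ W.1) inf_le_right fun x => ⟨fun hx => ⟨hx.2, hx.1⟩, fun hx => ⟨hx.2, hx.1⟩⟩]
  have h1 := congrArg (P.presheaf.map (homOfLE (inf_le_inf_left W₀ h)).op) hm
  rw [map_zero, ← ConcreteCategory.comp_apply, ← Functor.map_comp] at h1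
  rw [← ConcreteCategory.comp_apply, ← Functor.map_comp]
  exact h1

/-- being killed is local -/
theorem killed_of_local {E : X.IdealSheafData} (hE : BlowUp.IsFiniteTypeIdeal E) (P : X.Modules) [Coh.IsQCoh P]
    (V : X.affineOpens) (m : Γ(P, V.1))
    (h : ∀ x ∈ V.1, ∃ (W : X.affineOpens) (hWV : W.1 ≤ V.1), x ∈ W.1 ∧
      BlowUp.KilledByPowerNear E P W (P.presheaf.map (homOfLE hWV).op m)) :
    BlowUp.KilledByPowerNear E P V m := by
  let W₀ := ModPair.interior E
  rw [killed_iff_res_interior hE P V m (W₀ ⊓ V.1) inf_le_right fun x => ⟨fun hx => ⟨hx.2, hx.1⟩, fun hx => ⟨hx.2, hx.1⟩⟩]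
  refine TopCat.Presheaf.IsSheaf.section_ext P.isSheaf fun x hx => ?_
  obtain ⟨W, hWV, hxW, hk⟩ := h x hx.2
  rw [killed_iff_res_interior hE P W _ (W₀ ⊓ W.1) inf_le_right fun x => ⟨fun hx => ⟨hx.2, hx.1⟩, fun hx => ⟨hx.2, hx.1⟩⟩] at hk
  refine ⟨W₀ ⊓ W.1, inf_le_inf_left _ hWV, ⟨hx.1, hxW⟩, ?_⟩
  rw [map_zero]
  rw [← ConcreteCategory.comp_apply, ← Functor.map_comp] at hk ⊢
  exact hk

/-- being killed only depends on the support -/
theorem killed_of_support_le {E E' : X.IdealSheafData} (hE : BlowUp.IsFiniteTypeIdeal E)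
    (hE' : BlowUp.IsFiniteTypeIdeal E') (hs : (E.support : Set X) ⊆ E'.support) (P : X.Modules) [Coh.IsQCoh P]
    (V : X.affineOpens) (m : Γ(P, V.1)) (hm : BlowUp.KilledByPowerNear E P V m) :
    BlowUp.KilledByPowerNear E' P V m := by
  have hle : ModPair.interior E' ≤ ModPair.interior E := fun x hx hx' => hx (hs hx')
  rw [killed_iff_res_interior hE P V m (ModPair.interior E ⊓ V.1) inf_le_right
    fun x => ⟨fun hx => ⟨hx.2, hx.1⟩, fun hx => ⟨hx.2, hx.1⟩⟩] at hm
  rw [killed_iff_res_interior hE' P V m (ModPair.interior E' ⊓ V.1) inf_le_right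
    fun x => ⟨fun hx => ⟨hx.2, hx.1⟩, fun hx => ⟨hx.2, hx.1⟩⟩]
  have h1 := congrArg (P.presheaf.map (homOfLE (inf_le_inf_right V.1 hle)).op) hm
  rw [map_zero, ← ConcreteCategory.comp_apply, ← Functor.map_comp] at h1
  exact h1

/-- strict transforms are torsion free -/
theorem isTorsionFree_strict {E : X.IdealSheafData} (hE : BlowUp.IsFiniteTypeIdeal E) {P G : X.Modules}
    [Coh.IsQCoh P] (π : P ⟶ G) [Epi π]
    (h : ∀ (V : X.affineOpens) (m : Γ(P, V.1)), π.app V.1 m = 0 ↔ BlowUp.KilledByPowerNear E P V m) :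
    IsTorsionFree E G := by
  haveI : Coh.IsQCoh G := isQCoh_strictTransform hE π h
  intro V g hg
  obtain ⟨m, rfl⟩ := RichLib.IsFPAffine.appLin_surjective π V.2 g
  refine (h V m).2 ?_
  obtain ⟨n, hn⟩ := hg
  obtain ⟨T, hT⟩ : ((E ^ n).ideal V).FG := by
    rw [Scheme.IdealSheafData.ideal_pow, Pi.pow_apply]; exact (hE V).pow
  have hk : ∀ a ∈ T, BlowUp.KilledByPowerNear E P V (a • m) := fun a ha => (h V _).1 (by
    rw [QCohLib.app_smul]
    exact hn a (hT ▸ Submodule.subset_span ha))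
  classical
  choose! l hl using hk
  refine ⟨n + T.sup l, fun a ha => ?_⟩
  rw [Scheme.IdealSheafData.ideal_pow, Pi.pow_apply, pow_add] at ha
  refine Submodule.mul_induction_on ha (fun x hx y hy => ?_) fun x y hx hy => by rw [add_smul, hx, hy, add_zero]
  rw [← Pi.pow_apply, ← Scheme.IdealSheafData.ideal_pow, ← hT] at hx
  induction hx using Submodule.span_induction with
  | mem a ha' =>
    rw [mul_comm, mul_smul]
    refine hl a ha' y ?_
    rw [Scheme.IdealSheafData.ideal_pow, Pi.pow_apply]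
    exact Ideal.pow_le_pow_right (Finset.le_sup ha') hy
  | zero => rw [zero_mul, zero_smul]
  | add p q _ _ hp hq => rw [add_mul, add_smul, hp, hq, add_zero]
  | smul c p _ hp => rw [smul_eq_mul, mul_assoc, mul_smul, hp, smul_zero]

/-- multiplication by a generator is injective on torsion free modules -/
theorem eq_zero_of_generator {E : X.IdealSheafData} {M : X.Modules} (hM : IsTorsionFree E M) {V : X.affineOpens}
    {t : Γ(X, V.1)} (ht : E.ideal V = Ideal.span {t}) {m : Γ(M, V.1)} (h : t • m = 0) : m = 0 := by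
  refine hM V m ⟨1, fun a ha => ?_⟩
  rw [pow_one, ht] at ha
  obtain ⟨c, rfl⟩ := Ideal.mem_span_singleton'.1 ha
  rw [mul_smul, h, smul_zero]

/-- injectivity of a generator kills torsion, locally -/
theorem isTorsionFree_of_local {E : X.IdealSheafData} {M : X.Modules}
    (h : ∀ (V : X.affineOpens), ∀ x ∈ V.1, ∃ (W : X.affineOpens) (_ : W.1 ≤ V.1) (t : Γ(X, W.1)), x ∈ W.1 ∧
      t ∈ E.ideal W ∧ ∀ m : Γ(M, W.1), t • m = 0 → m = 0) :
    IsTorsionFree E M := by
  intro V m ⟨n, hn⟩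
  refine TopCat.Presheaf.IsSheaf.section_ext M.isSheaf fun x hx => ?_
  obtain ⟨W, hWV, t, hxW, ht, hinj⟩ := h V x hx
  refine ⟨W.1, hWV, hxW, ?_⟩
  rw [map_zero]
  have hmem : t ^ n ∈ (E ^ n).ideal W := by
    rw [Scheme.IdealSheafData.ideal_pow, Pi.pow_apply]; exact Ideal.pow_mem_pow ht n
  rw [← Scheme.IdealSheafData.map_ideal (E ^ n) (U := W) (V := V) hWV] at hmem
  have h0 : ∀ c ∈ ((E ^ n).ideal V).map (X.presheaf.map (homOfLE hWV).op).hom,
      c • M.presheaf.map (homOfLE hWV).op m = 0 := fun c hc => by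
    induction hc using Submodule.span_induction with
    | mem c hc' =>
      obtain ⟨a, ha, rfl⟩ := hc'
      rw [← M.map_smul, hn a ha, map_zero]
    | zero => rw [zero_smul]
    | add p q _ _ hp hq => rw [add_smul, hp, hq, add_zero]
    | smul c p _ hp => rw [smul_eq_mul, mul_smul, hp, smul_zero]
  have key : ∀ (k : ℕ) (y : Γ(M, W.1)), t ^ k • y = 0 → y = 0 := fun k => by
    induction k with
    | zero => intro y hy; rwa [pow_zero, one_smul] at hy
    | succ k ih => intro y hy; rw [pow_succ', mul_smul] at hy; exact ih y (hinj _ hy)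
  exact key n _ (h0 _ hmem)

/-- modules flat over a base are torsion free for pulled back Cartier ideals -/
theorem isTorsionFree_of_flatOver {T : Scheme.{u}} (f : X ⟶ T) {E : T.IdealSheafData}
    (hE : BlowUp.IsEffCartierIdeal E) (M : X.Modules) [Coh.IsQCoh M] (hM : FlatMod.IsFlatOver f M) :
    IsTorsionFree (E.comap f) M := by
  refine isTorsionFree_of_local fun V x hx => ?_
  obtain ⟨T₀, hxT, t, ht, hT⟩ := hE (f x)
  obtain ⟨W₁, hW, hxW, hle⟩ := exists_isAffineOpen_mem_and_subset (x := x) (U := V.1 ⊓ f ⁻¹ᵁ T₀.1) ⟨hx, hxT⟩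
  have e : W₁ ≤ f ⁻¹ᵁ T₀.1 := fun z hz => (hle hz).2
  refine ⟨⟨W₁, hW⟩, fun z hz => (hle hz).1, (f.appLE T₀.1 W₁ e).hom t, hxW, ?_, fun m hm => ?_⟩
  · rw [Groth.Agent.S4666.ideal_comap_eq _ f T₀ ⟨W₁, hW⟩ e]
    exact Ideal.mem_map_of_mem _ (hT ▸ Ideal.mem_span_singleton_self t)
  · letI : Algebra Γ(T, T₀.1) Γ(X, W₁) := (f.appLE T₀.1 W₁ e).hom.toAlgebra
    letI : Module Γ(T, T₀.1) Γ(M, W₁) := Module.compHom _ (f.appLE T₀.1 W₁ e).hom
    haveI : IsScalarTower Γ(T, T₀.1) Γ(X, W₁) Γ(M, W₁) := IsScalarTower.of_algebraMap_smul fun _ _ => rfl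
    haveI : Module.Flat Γ(T, T₀.1) Γ(M, W₁) :=
      RichLib.IsFPAffine.flat_sections f M T₀.2 hW e rfl fun z _ => hM z
    refine Module.Flat.isSMulRegular_of_nonZeroDivisors (M := Γ(M, W₁)) ht ?_
    show t • m = t • (0 : Γ(M, W₁))
    rw [smul_zero]
    exact hm

/-- flat pullbacks of torsion free modules are torsion free -/
theorem isTorsionFree_pullback (u : Z ⟶ X) [Flat u] {E : X.IdealSheafData} (hloc : IsLocPrincipalIdeal E)
    (M : X.Modules) [Coh.IsQCoh M] (hM : IsTorsionFree E M) :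
    IsTorsionFree (E.comap u) ((Scheme.Modules.pullback u).obj M) := by
  refine isTorsionFree_of_local fun V x hx => ?_
  obtain ⟨X₀, hxX, t, hX₀⟩ := hloc (u x)
  obtain ⟨W₁, hW, hxW, hle⟩ := exists_isAffineOpen_mem_and_subset (x := x) (U := V.1 ⊓ u ⁻¹ᵁ X₀.1) ⟨hx, hxX⟩
  have e : W₁ ≤ u ⁻¹ᵁ X₀.1 := fun z hz => (hle hz).2
  refine ⟨⟨W₁, hW⟩, fun z hz => (hle hz).1, (u.appLE X₀.1 W₁ e).hom t, hxW, ?_, fun m hm => ?_⟩
  · rw [Groth.Agent.S4666.ideal_comap_eq _ u X₀ ⟨W₁, hW⟩ e]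
    exact Ideal.mem_map_of_mem _ (hX₀ ▸ Ideal.mem_span_singleton_self t)
  · letI : Algebra Γ(X, X₀.1) Γ(Z, W₁) := (u.appLE X₀.1 W₁ e).hom.toAlgebra
    letI : Module Γ(X, X₀.1) Γ(pb u M, W₁) := Module.compHom _ (u.appLE X₀.1 W₁ e).hom
    haveI : IsScalarTower Γ(X, X₀.1) Γ(Z, W₁) Γ(pb u M, W₁) := IsScalarTower.of_algebraMap_smul fun _ _ => rfl
    haveI : Module.Flat Γ(X, X₀.1) Γ(Z, W₁) := u.flat_appLE X₀.2 hW e
    let ψ : Γ(M, X₀.1) →ₗ[Γ(X, X₀.1)] Γ(pb u M, W₁) :=
      { toFun := puSecLE u M e, map_add' := map_add _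
        map_smul' := fun r m => puSecLE_smul u M e r m }
    have hb := isBaseChange_puSec u M X₀.2 hW e (fun _ => rfl) ψ fun _ => rfl
    have hinj : Function.Injective ((LinearMap.lsmul Γ(X, X₀.1) Γ(M, X₀.1) t).lTensor Γ(Z, W₁)) :=
      Module.Flat.lTensor_preserves_injective_linearMap _
        ((injective_iff_map_eq_zero _).2 fun g hg => eq_zero_of_generator hM hX₀ hg)
    obtain ⟨z, rfl⟩ := hb.equiv.surjective m
    have h1 : ∀ w, (LinearMap.lsmul Γ(X, X₀.1) Γ(M, X₀.1) t).lTensor Γ(Z, W₁) w = t • w := fun w => by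
      induction w using TensorProduct.induction_on with
      | zero => rw [map_zero, smul_zero]
      | add a b ha hb => rw [map_add, ha, hb, smul_add]
      | tmul a b => rw [LinearMap.lTensor_tmul, LinearMap.lsmul_apply, tmul_smul]
    rw [show (u.appLE X₀.1 W₁ e).hom t • hb.equiv z = hb.equiv (t • z) from
      ((map_smul hb.equiv _ z).symm.trans (congrArg hb.equiv (algebraMap_smul Γ(Z, W₁) t z)))] at hm
    have h2 := hinj (((h1 z).trans (hb.equiv.map_eq_zero_iff.1 hm)).trans (map_zero _).symm)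
    rw [h2, map_zero]

/-- the kernel of the pullback of a quotient by torsion is torsion -/
theorem killed_of_pullback (u : Z ⟶ X) {E : X.IdealSheafData} (hE : BlowUp.IsFiniteTypeIdeal E)
    (hEu : BlowUp.IsFiniteTypeIdeal (E.comap u)) {P G : X.Modules} [Coh.IsQCoh P] [Coh.IsQCoh G] (π : P ⟶ G)
    [Epi π] (h : ∀ (V : X.affineOpens) (m : Γ(P, V.1)), π.app V.1 m = 0 → BlowUp.KilledByPowerNear E P V m)
    (V : Z.affineOpens) (m : Γ((Scheme.Modules.pullback u).obj P, V.1))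
    (hm : ((Scheme.Modules.pullback u).map π).app V.1 m = 0) :
    BlowUp.KilledByPowerNear (E.comap u) ((Scheme.Modules.pullback u).obj P) V m := by
  classical
  haveI : Coh.IsQCoh ((Scheme.Modules.pullback u).obj P) := KFlatLib.isQCoh_pullback u P
  refine killed_of_local hEu _ V m fun x hx => ?_
  obtain ⟨X₁, hX₁, hxX, -⟩ := exists_isAffineOpen_mem_and_subset (x := u x) (U := ⊤) trivial
  obtain ⟨W₁, hW, hxW, hle⟩ := exists_isAffineOpen_mem_and_subset (x := x) (U := V.1 ⊓ u ⁻¹ᵁ X₁) ⟨hx, hxX⟩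
  have e : W₁ ≤ u ⁻¹ᵁ X₁ := fun z hz => (hle hz).2
  have hWV : W₁ ≤ V.1 := fun z hz => (hle hz).1
  refine ⟨⟨W₁, hW⟩, hWV, hxW, ?_⟩
  let m' := ((Scheme.Modules.pullback u).obj P).presheaf.map (homOfLE hWV).op m
  have hm' : ((Scheme.Modules.pullback u).map π).app W₁ m' = 0 := by
    rw [QCohLib.app_map, hm, map_zero]
  letI : Algebra Γ(X, X₁) Γ(Z, W₁) := (u.appLE X₁ W₁ e).hom.toAlgebra
  letI : Module Γ(X, X₁) Γ(pb u P, W₁) := Module.compHom _ (u.appLE X₁ W₁ e).hom
  haveI : IsScalarTower Γ(X, X₁) Γ(Z, W₁) Γ(pb u P, W₁) := IsScalarTower.of_algebraMap_smul fun _ _ => rfl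
  letI : Module Γ(X, X₁) Γ(pb u G, W₁) := Module.compHom _ (u.appLE X₁ W₁ e).hom
  haveI : IsScalarTower Γ(X, X₁) Γ(Z, W₁) Γ(pb u G, W₁) := IsScalarTower.of_algebraMap_smul fun _ _ => rfl
  let ψP : Γ(P, X₁) →ₗ[Γ(X, X₁)] Γ(pb u P, W₁) :=
    { toFun := puSecLE u P e, map_add' := map_add _
      map_smul' := fun r m => puSecLE_smul u P e r m }
  let ψG : Γ(G, X₁) →ₗ[Γ(X, X₁)] Γ(pb u G, W₁) :=
    { toFun := puSecLE u G e, map_add' := map_add _
      map_smul' := fun r m => puSecLE_smul u G e r m }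
  have hP := isBaseChange_puSec u P hX₁ hW e (fun _ => rfl) ψP fun _ => rfl
  have hG := isBaseChange_puSec u G hX₁ hW e (fun _ => rfl) ψG fun _ => rfl
  let p : Γ(P, X₁) →ₗ[Γ(X, X₁)] Γ(G, X₁) := appLin π X₁
  have hnat : ∀ z, appLin ((Scheme.Modules.pullback u).map π) W₁ (hP.equiv z) = hG.equiv (p.baseChange Γ(Z, W₁) z) :=
    fun z => by
    induction z using TensorProduct.induction_on with
    | zero => simp
    | add a b ha hb => simp only [map_add, ha, hb]
    | tmul r n =>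
      rw [LinearMap.baseChange_tmul, IsBaseChange.equiv_tmul, IsBaseChange.equiv_tmul, map_smul]
      exact congrArg (r • ·) (FlatLib.appLin_pullback_puSecLE u π e n)
  obtain ⟨z, hz⟩ := hP.equiv.surjective m'
  have hz0 : p.baseChange Γ(Z, W₁) z = 0 := by
    refine hG.equiv.map_eq_zero_iff.1 ((hnat z).symm.trans ?_)
    rw [hz]; exact hm'
  obtain ⟨w, hw⟩ := ((lTensor_exact Γ(Z, W₁) (LinearMap.exact_subtype_ker_map p)
    (RichLib.IsFPAffine.appLin_surjective π hX₁)) z).1 hz0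
  show BlowUp.KilledByPowerNear (E.comap u) _ ⟨W₁, hW⟩ m'
  rw [← hz, ← hw]
  clear hz hz0 hw
  induction w using TensorProduct.induction_on with
  | zero => exact ⟨0, fun a _ => by rw [map_zero, map_zero, smul_zero]⟩
  | add a b ha hb =>
    obtain ⟨i, hi⟩ := ha
    obtain ⟨j, hj⟩ := hb
    refine ⟨i + j, fun c hc => ?_⟩
    rw [Scheme.IdealSheafData.ideal_pow, Pi.pow_apply] at hc
    rw [map_add, map_add, smul_add, hi c (by rw [Scheme.IdealSheafData.ideal_pow, Pi.pow_apply]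
                                             exact Ideal.pow_le_pow_right (Nat.le_add_right i j) hc),
      hj c (by rw [Scheme.IdealSheafData.ideal_pow, Pi.pow_apply]
               exact Ideal.pow_le_pow_right (Nat.le_add_left j i) hc), add_zero]
  | tmul c k =>
    obtain ⟨n, hn⟩ := h ⟨X₁, hX₁⟩ k.1 k.2
    refine ⟨n, fun a ha => ?_⟩
    rw [Scheme.IdealSheafData.ideal_pow, Pi.pow_apply,
      Groth.Agent.S4666.ideal_comap_eq _ u ⟨X₁, hX₁⟩ ⟨W₁, hW⟩ e, ← Ideal.map_pow] at ha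
    rw [LinearMap.lTensor_tmul, ← map_smul, ← map_zero hP.equiv]
    congr 1
    rw [smul_tmul', smul_eq_mul]
    induction ha using Submodule.span_induction with
    | mem y hy =>
      obtain ⟨b, hb, rfl⟩ := hy
      rw [show (u.appLE X₁ W₁ e).hom b * c = b • c from rfl, smul_tmul]
      have h0 : b • k.1 = 0 := hn b (by rw [Scheme.IdealSheafData.ideal_pow, Pi.pow_apply]; exact hb)
      show c ⊗ₜ[Γ(X, X₁)] (b • k.1) = 0
      rw [h0, tmul_zero]
    | zero => rw [zero_mul, zero_tmul]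
    | add p q _ _ hp hq => rw [add_mul, add_tmul, hp, hq, add_zero]
    | smul d p _ hp => rw [smul_eq_mul, mul_assoc, ← smul_eq_mul, ← smul_tmul', hp, smul_zero]

end RGFlatLib

end
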