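import Mathlib
import Groth.Agent.RGFlatLib.EtaleTorsion
import Groth.Agent.LCILocusLib.Scheme

/-!
# Flatness of modules: base change and transfer along equal kernels
-/

set_option autoImplicit false
set_option maxHeartbeats 1000000

noncomputable section

universe u

open CategoryTheory CategoryTheory.Limits AlgebraicGeometry TensorProduct TopologicalSpace Opposite QCohLib KFlatLib

namespace RGFlatLib

/-- flat sections on an affine open give flatness at its points -/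
theorem isFlatOverAt_of_flat_sections {X Y : Scheme.{u}} (f : X ⟶ Y) (M : X.Modules) [Coh.IsQCoh M]
    {U : Y.Opens} (hU : IsAffineOpen U) {V : X.Opens} (hV : IsAffineOpen V) (hVU : V ≤ f ⁻¹ᵁ U)
    [Algebra Γ(Y, U) Γ(X, V)] (halg : algebraMap Γ(Y, U) Γ(X, V) = (f.appLE U V hVU).hom)
    [Module Γ(Y, U) Γ(M, V)] [IsScalarTower Γ(Y, U) Γ(X, V) Γ(M, V)]
    [Module.Flat Γ(Y, U) Γ(M, V)] {x : X} (hx : x ∈ V) : FlatMod.IsFlatOverAt f M x :=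
  (FlatLib.isFlatOverAt_iff f M U hU V hV hVU hx halg).2
    (FlatLib.flat_localized (hV.primeIdealOf ⟨x, hx⟩).asIdeal.primeCompl
      (LocalizedModule.mkLinearMap _ Γ(M, V)))

/-- flatness of a module is stable under base change -/
theorem isFlatOver_pullback_of_isPullback {X T X'' Y : Scheme.{u}} {m : X'' ⟶ X} {r : X'' ⟶ Y} {q : X ⟶ T}
    {h : Y ⟶ T} (sq : IsPullback m r q h) (G : X.Modules) [Coh.IsQCoh G] (hG : FlatMod.IsFlatOver q G) :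
    FlatMod.IsFlatOver r ((Scheme.Modules.pullback m).obj G) := by
  intro z
  haveI : Coh.IsQCoh ((Scheme.Modules.pullback m).obj G) := KFlatLib.isQCoh_pullback m G
  obtain ⟨T₀, hT₀, hzT, -⟩ := exists_isAffineOpen_mem_and_subset (x := h (r z)) (U := ⊤) trivial
  obtain ⟨Y₀, hY₀, hzY, hY₀T⟩ := exists_isAffineOpen_mem_and_subset (x := r z) (U := h ⁻¹ᵁ T₀) hzT
  have hzX : m z ∈ q ⁻¹ᵁ T₀ := by
    show q (m z) ∈ T₀
    rw [← Scheme.Hom.comp_apply, sq.w]; exact hzT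
  obtain ⟨X₀, hX₀, hzX₀, hX₀T⟩ := exists_isAffineOpen_mem_and_subset (x := m z) (U := q ⁻¹ᵁ T₀) hzX
  obtain ⟨hO, hpo⟩ := LCILocusLib.pullback_chart sq hT₀ hY₀ hY₀T hX₀ hX₀T
  let O : X''.Opens := m ⁻¹ᵁ X₀ ⊓ r ⁻¹ᵁ Y₀
  have e₁ : O ≤ m ⁻¹ᵁ X₀ := inf_le_left
  have e₂ : O ≤ r ⁻¹ᵁ Y₀ := inf_le_right
  letI : Algebra Γ(T, T₀) Γ(X, X₀) := (q.appLE T₀ X₀ hX₀T).hom.toAlgebra
  letI : Algebra Γ(T, T₀) Γ(Y, Y₀) := (h.appLE T₀ Y₀ hY₀T).hom.toAlgebra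
  letI : Algebra Γ(X, X₀) Γ(X'', O) := (m.appLE X₀ O e₁).hom.toAlgebra
  letI : Algebra Γ(Y, Y₀) Γ(X'', O) := (r.appLE Y₀ O e₂).hom.toAlgebra
  letI : Algebra Γ(T, T₀) Γ(X'', O) := ((m.appLE X₀ O e₁).hom.comp (q.appLE T₀ X₀ hX₀T).hom).toAlgebra
  haveI : IsScalarTower Γ(T, T₀) Γ(X, X₀) Γ(X'', O) := IsScalarTower.of_algebraMap_eq fun _ => rfl
  haveI : IsScalarTower Γ(T, T₀) Γ(Y, Y₀) Γ(X'', O) := IsScalarTower.of_algebraMap_eq fun x =>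
    RingHom.congr_fun (congrArg CommRingCat.Hom.hom hpo.w) x
  haveI : Algebra.IsPushout Γ(T, T₀) Γ(Y, Y₀) Γ(X, X₀) Γ(X'', O) :=
    Algebra.IsPushout.symm (CommRingCat.isPushout_iff_isPushout.mp hpo)
  letI : Module Γ(T, T₀) Γ(G, X₀) := Module.compHom _ (q.appLE T₀ X₀ hX₀T).hom
  haveI : IsScalarTower Γ(T, T₀) Γ(X, X₀) Γ(G, X₀) := IsScalarTower.of_algebraMap_smul fun _ _ => rfl
  haveI : Module.Flat Γ(T, T₀) Γ(G, X₀) :=
    RichLib.IsFPAffine.flat_sections q G hT₀ hX₀ hX₀T rfl fun w _ => hG w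
  letI : Module Γ(X, X₀) Γ(pb m G, O) := Module.compHom _ (m.appLE X₀ O e₁).hom
  haveI : IsScalarTower Γ(X, X₀) Γ(X'', O) Γ(pb m G, O) := IsScalarTower.of_algebraMap_smul fun _ _ => rfl
  letI : Module Γ(Y, Y₀) Γ(pb m G, O) := Module.compHom _ (r.appLE Y₀ O e₂).hom
  haveI : IsScalarTower Γ(Y, Y₀) Γ(X'', O) Γ(pb m G, O) := IsScalarTower.of_algebraMap_smul fun _ _ => rfl
  let ψ : Γ(G, X₀) →ₗ[Γ(X, X₀)] Γ(pb m G, O) :=
    { toFun := puSecLE m G e₁, map_add' := map_add _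
      map_smul' := fun a g => puSecLE_smul m G e₁ a g }
  have hb := isBaseChange_puSec m G hX₀ hO e₁ (fun _ => rfl) ψ fun _ => rfl
  let E := (Algebra.IsPushout.cancelBaseChange Γ(T, T₀) Γ(Y, Y₀) Γ(X, X₀) Γ(X'', O) Γ(G, X₀))
  haveI : Module.Flat Γ(Y, Y₀) (Γ(Y, Y₀) ⊗[Γ(T, T₀)] Γ(G, X₀)) := inferInstance
  haveI : Module.Flat Γ(Y, Y₀) Γ(pb m G, O) :=
    Module.Flat.of_linearEquiv (((hb.equiv.restrictScalars Γ(Y, Y₀)).symm.trans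
      (E.restrictScalars Γ(Y, Y₀))))
  exact isFlatOverAt_of_flat_sections r _ hY₀ hO e₂ rfl ⟨hzX₀, hzY⟩

/-- quotients of the same module with the same kernels are flat together -/
theorem isFlatOverAt_of_ker_eq {X Y : Scheme.{u}} (r : X ⟶ Y) {P Q₁ Q₂ : X.Modules} [Coh.IsQCoh P]
    [Coh.IsQCoh Q₁] [Coh.IsQCoh Q₂] (π₁ : P ⟶ Q₁) (π₂ : P ⟶ Q₂) [Epi π₁] [Epi π₂]
    (hker : ∀ (V : X.affineOpens) (m : Γ(P, V.1)), π₁.app V.1 m = 0 ↔ π₂.app V.1 m = 0)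
    (h₂ : FlatMod.IsFlatOver r Q₂) : FlatMod.IsFlatOver r Q₁ := by
  intro z
  obtain ⟨Y₀, hY₀, hzY, -⟩ := exists_isAffineOpen_mem_and_subset (x := r z) (U := ⊤) trivial
  obtain ⟨O, hO, hzO, hOY⟩ := exists_isAffineOpen_mem_and_subset (x := z) (U := r ⁻¹ᵁ Y₀) hzY
  letI : Algebra Γ(Y, Y₀) Γ(X, O) := (r.appLE Y₀ O hOY).hom.toAlgebra
  letI : Module Γ(Y, Y₀) Γ(Q₁, O) := Module.compHom _ (r.appLE Y₀ O hOY).hom
  haveI : IsScalarTower Γ(Y, Y₀) Γ(X, O) Γ(Q₁, O) := IsScalarTower.of_algebraMap_smul fun _ _ => rfl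
  letI : Module Γ(Y, Y₀) Γ(Q₂, O) := Module.compHom _ (r.appLE Y₀ O hOY).hom
  haveI : IsScalarTower Γ(Y, Y₀) Γ(X, O) Γ(Q₂, O) := IsScalarTower.of_algebraMap_smul fun _ _ => rfl
  haveI : Module.Flat Γ(Y, Y₀) Γ(Q₂, O) := RichLib.IsFPAffine.flat_sections r Q₂ hY₀ hO hOY rfl fun w _ => h₂ w
  have hk : LinearMap.ker (appLin π₁ O) = LinearMap.ker (appLin π₂ O) :=
    SetLike.ext fun m => hker ⟨O, hO⟩ m
  let e : Γ(Q₁, O) ≃ₗ[Γ(X, O)] Γ(Q₂, O) :=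
    ((appLin π₁ O).quotKerEquivOfSurjective (RichLib.IsFPAffine.appLin_surjective π₁ hO)).symm.trans
      ((Submodule.quotEquivOfEq _ _ hk).trans
        ((appLin π₂ O).quotKerEquivOfSurjective (RichLib.IsFPAffine.appLin_surjective π₂ hO)))
  haveI : Module.Flat Γ(Y, Y₀) Γ(Q₁, O) := Module.Flat.of_linearEquiv (e.restrictScalars Γ(Y, Y₀))
  exact isFlatOverAt_of_flat_sections r Q₁ hY₀ hO hOY rfl hzO

end RGFlatLib

end
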