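import Mathlib
import Groth.Agent.RGFlatLib.Piece
import Groth.Agent.FlatLib.SectionsFP
import Groth.Agent.KFlatLib.ResolProps

/-!
# Flattening modules through the trivial square zero extension
-/

set_option autoImplicit false
set_option maxHeartbeats 1000000

noncomputable section

universe u

open TensorProduct TrivSqZeroExt

namespace RGFlatLib

section Local

variable {A : Type u} [CommRing A] (P : Type u) [CommRing P] [Algebra A P] (M : Type u) [AddCommGroup M]
  [Module P M] [Module Pᵐᵒᵖ M] [IsCentralScalar P M] [Module A M] [IsScalarTower A P M]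
  [IsScalarTower A Pᵐᵒᵖ M]

theorem finite_sqZero [Module.Finite P M] : Module.Finite P (TrivSqZeroExt P M) :=
  Module.Finite.equiv ({ AddEquiv.refl _ with map_smul' := fun p q => rfl } :
    (P × M) ≃ₗ[P] TrivSqZeroExt P M)

theorem finiteType_sqZero [Algebra.FiniteType A P] [Module.Finite P M] :
    Algebra.FiniteType A (TrivSqZeroExt P M) := by
  haveI := finite_sqZero P M
  haveI : IsScalarTower A P (TrivSqZeroExt P M) := IsScalarTower.of_algebraMap_eq fun a => rfl
  exact Algebra.FiniteType.trans (S := P) ‹_› inferInstance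

/-- over a basic open, the square zero extension is flat and finitely presented -/
theorem flat_fg_sqZero [Module.Flat A P] [Algebra.FinitePresentation A P] (j : A)
    (P' : Type u) [CommRing P'] [Algebra P P'] [IsLocalization.Away (algebraMap A P j) P']
    {M' : Type u} [AddCommGroup M'] [Module P M'] [Module A M'] [IsScalarTower A P M'] [Module P' M']
    [IsScalarTower P P' M'] (ι : M →ₗ[P] M') [IsLocalizedModule (Submonoid.powers (algebraMap A P j)) ι]
    [Module.Flat A M'] [Module.FinitePresentation P' M']
    {τ : Type u} [Finite τ] (π : MvPolynomial τ A →ₐ[A] TrivSqZeroExt P M) (hπ : Function.Surjective π) :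
    Module.Flat (Localization.Away j) (MvPolynomial τ (Localization.Away j) ⧸
      (RingHom.ker π).map (MvPolynomial.map (algebraMap A (Localization.Away j)))) ∧
    ((RingHom.ker π).map (MvPolynomial.map (algebraMap A (Localization.Away j)))).FG := by
  let Q := TrivSqZeroExt P M
  haveI : IsScalarTower A P Q := IsScalarTower.of_algebraMap_eq fun a => rfl
  let S := Submonoid.powers (algebraMap A P j)
  let Q' := Localization.Away (algebraMap A Q j)
  haveI hQ' : IsLocalization (Algebra.algebraMapSubmonoid Q S) Q' := by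
    rw [Algebra.algebraMapSubmonoid, Submonoid.map_powers, ← IsScalarTower.algebraMap_apply]
    exact inferInstanceAs (IsLocalization (Submonoid.powers (algebraMap A Q j)) Q')
  letI : Algebra P' Q' := (IsLocalization.lift (M := S) (S := P') (g := algebraMap P Q') fun y => by
    rw [IsScalarTower.algebraMap_apply P Q Q']
    exact IsLocalization.map_units Q' (⟨_, y.1, y.2, rfl⟩ : Algebra.algebraMapSubmonoid Q S)).toAlgebra
  haveI : IsScalarTower P P' Q' := IsScalarTower.of_algebraMap_eq fun p => (IsLocalization.lift_eq _ p).symm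
  let A' := Localization.Away j
  letI : Algebra A' Q' := (IsLocalization.lift (M := Submonoid.powers j) (S := A') (g := algebraMap A Q') fun y => by
    obtain ⟨_, n, rfl⟩ := y
    rw [IsScalarTower.algebraMap_apply A Q Q', map_pow, map_pow]
    exact (IsLocalization.Away.algebraMap_isUnit _).pow n).toAlgebra
  haveI : IsScalarTower A A' Q' := IsScalarTower.of_algebraMap_eq fun a => (IsLocalization.lift_eq _ a).symm
  letI : Algebra A P' := ((algebraMap P P').comp (algebraMap A P)).toAlgebra
  haveI : IsScalarTower A P P' := IsScalarTower.of_algebraMap_eq fun a => rfl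
  haveI : IsScalarTower A P' Q' := IsScalarTower.of_algebraMap_eq fun a => by
    rw [IsScalarTower.algebraMap_apply A P P', ← IsScalarTower.algebraMap_apply P P' Q',
      ← IsScalarTower.algebraMap_apply A P Q']
  let eQ : Q ≃ₗ[P] P × M := { AddEquiv.refl _ with map_smul' := fun p q => rfl }
  let f : Q →ₗ[P] P' × M' := ((Algebra.linearMap P P').prodMap ι).comp eQ.toLinearMap
  haveI : IsLocalizedModule S (Algebra.linearMap P P') :=
    (isLocalizedModule_iff_isLocalization' S P').mpr ‹_›
  haveI : IsLocalizedModule S f := IsLocalizedModule.of_linearEquiv_right _ _ _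
  haveI : IsLocalizedModule S (IsScalarTower.toAlgHom P Q Q').toLinearMap :=
    isLocalizedModule_iff_isLocalization.mpr hQ'
  let e : Q' ≃ₗ[P] P' × M' := IsLocalizedModule.linearEquiv S (IsScalarTower.toAlgHom P Q Q').toLinearMap f
  haveI : Module.FinitePresentation P' Q' :=
    Module.FinitePresentation.of_equiv (e.extendScalarsOfIsLocalization S P').symm
  haveI : Algebra.FinitePresentation P' Q' := Algebra.FinitePresentation.of_finitePresentation P' Q'
  haveI : Algebra.FinitePresentation P P' := IsLocalization.Away.finitePresentation (algebraMap A P j)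
  haveI : Algebra.FinitePresentation A P' := Algebra.FinitePresentation.trans A P P'
  haveI : Algebra.FinitePresentation A Q' := Algebra.FinitePresentation.trans A P' Q'
  haveI : Algebra.FinitePresentation A' Q' := Algebra.FinitePresentation.of_restrict_scalars_finitePresentation A A' Q'
  haveI : Module.Flat P P' := IsLocalization.flat P' S
  haveI : Module.Flat A P' := Module.Flat.trans A P P'
  haveI : Module.Flat A (P' × M') := KFlatLib.flat_prod
  haveI : Module.Flat A Q' := Module.Flat.of_linearEquiv (e.restrictScalars A)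
  haveI : Module.Flat A' Q' := (Module.flat_iff_of_isLocalization A' (Submonoid.powers j) Q').mpr ‹_›
  exact flat_fg_of_localization (A' := A') (R' := Q') j π hπ

end Local

/-- the torsion free quotient of a base change is flat and of finite presentation when the square zero extension
is good -/
theorem flat_fp_of_good {A B R C : Type u} [CommRing A] [CommRing B] [CommRing R] [CommRing C] [Algebra A B]
    [Algebra A R] [Algebra A C] [Algebra B C] [Algebra R C] [IsScalarTower A B C] [IsScalarTower A R C]
    [Algebra.IsPushout A B R C] {σ : Type u} [Finite σ] (πR : MvPolynomial σ A →ₐ[A] R)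
    (hπR : Function.Surjective πR) (M : Type u) [AddCommGroup M] [Module R M] [Module A M] [IsScalarTower A R M]
    [Module (MvPolynomial σ A) M] [Module (MvPolynomial σ A)ᵐᵒᵖ M] [IsCentralScalar (MvPolynomial σ A) M]
    [IsScalarTower A (MvPolynomial σ A) M] [IsScalarTower A (MvPolynomial σ A)ᵐᵒᵖ M]
    [Module.Finite (MvPolynomial σ A) M] (hPM : ∀ (p : MvPolynomial σ A) (m : M), p • m = πR p • m)
    {N : Type u} [AddCommGroup N] [Module C N] [Module R N] [IsScalarTower R C N] [Module B N]
    [IsScalarTower B C N] (ψ : M →ₗ[R] N) (hψ : IsBaseChange C ψ)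
    {τ : Type u} [Finite τ] (π : MvPolynomial τ A →ₐ[A] TrivSqZeroExt (MvPolynomial σ A) M)
    (hπ : Function.Surjective π) (g : B) (hG : Good (RingHom.ker π) B g)
    (K : Submodule C N) (hK : ∀ x, x ∈ K ↔ ∃ n : ℕ, g ^ n • x = 0) :
    Module.Flat B (N ⧸ K) ∧ Module.FinitePresentation C (N ⧸ K) := by
  let P := MvPolynomial σ A
  let Q := TrivSqZeroExt P M
  haveI : IsScalarTower A P Q := IsScalarTower.of_algebraMap_eq fun a => rfl
  let E := B ⊗[A] Q
  letI : Module A N := Module.compHom N (algebraMap A C)
  haveI : IsScalarTower A C N := IsScalarTower.of_algebraMap_smul fun _ _ => rfl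
  haveI : IsScalarTower A B N := IsScalarTower.of_algebraMap_smul fun a x => by
    rw [← algebraMap_smul C (algebraMap A B a) x, ← IsScalarTower.algebraMap_apply]; rfl
  haveI : IsScalarTower A R N := IsScalarTower.of_algebraMap_smul fun a x => by
    rw [← algebraMap_smul C (algebraMap A R a) x, ← IsScalarTower.algebraMap_apply]; rfl
  let eN : B ⊗[A] M ≃ₗ[B] N :=
    (Algebra.IsPushout.cancelBaseChange A B R C M).symm ≪≫ₗ hψ.equiv.restrictScalars B
  have heN : ∀ (b : B) (m : M), eN (b ⊗ₜ m) = b • ψ m := fun b m => by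
    simp only [eN, LinearEquiv.trans_apply, LinearEquiv.restrictScalars_apply]
    rw [Algebra.IsPushout.cancelBaseChange_symm_tmul, IsBaseChange.equiv_tmul, algebraMap_smul]
  let sndA : Q →ₗ[A] M := { toFun := TrivSqZeroExt.snd, map_add' := fun _ _ => rfl, map_smul' := fun _ _ => rfl }
  let inrA : M →ₗ[A] Q :=
    { toFun := TrivSqZeroExt.inr, map_add' := inr_add P, map_smul' := fun a m => TrivSqZeroExt.ext (smul_zero a).symm rfl }
  let s : E →ₗ[B] N := LinearMap.liftBaseChange B ((ψ.restrictScalars A).comp sndA)
  have hs : ∀ (b : B) (q : Q), s (b ⊗ₜ q) = b • ψ q.snd := fun b q => LinearMap.liftBaseChange_tmul B _ b q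
  let i : N →ₗ[B] E := (LinearMap.baseChange B inrA).comp eN.symm.toLinearMap
  have hi : ∀ (b : B) (m : M), i (b • ψ m) = b ⊗ₜ inrA m := fun b m => by
    show LinearMap.baseChange B inrA (eN.symm (b • ψ m)) = _
    rw [← heN, eN.symm_apply_apply, LinearMap.baseChange_tmul]
  have hsi : ∀ x, s (i x) = x := fun x => by
    obtain ⟨y, rfl⟩ := eN.surjective x
    induction y using TensorProduct.induction_on with
    | zero => simp
    | add a b ha hb => rw [map_add, map_add, map_add, ha, hb]
    | tmul b m => rw [heN, hi, hs]; rfl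
  let G : E := algebraMap B E g
  let K' : Ideal E := saturation ⊥ G
  have hK' : ∀ e, e ∈ K' ↔ ∃ n : ℕ, g ^ n • e = 0 := fun e => by
    simp only [K', mem_saturation, Ideal.mem_bot, G, ← map_pow, ← Algebra.smul_def]
  obtain ⟨hflat, hfp⟩ := flat_fp_torsion_quotient π hπ g hG K' fun a => by
    rw [hK']
    exact exists_congr fun n => by
      rw [← map_pow]; exact iff_of_eq (congrArg (· = 0) (Algebra.smul_def (g ^ n) a))
  -- the retraction on the quotients
  let KB : Submodule B E := K'.restrictScalars B
  let KN : Submodule B N := K.restrictScalars B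
  have hsK : KB ≤ KN.comap s := fun e he => by
    obtain ⟨n, hn⟩ := (hK' e).1 he
    exact (hK _).2 ⟨n, by rw [← map_smul, hn, map_zero]⟩
  have hiK : KN ≤ KB.comap i := fun x hx => by
    obtain ⟨n, hn⟩ := (hK x).1 hx
    exact (hK' _).2 ⟨n, by rw [← map_smul, hn, map_zero]⟩
  let s' : (E ⧸ K') →ₗ[B] N ⧸ K :=
    { toFun := Submodule.mapQ KB KN s hsK
      map_add' := map_add _
      map_smul' := fun b x => by
        obtain ⟨e, rfl⟩ := Ideal.Quotient.mk_surjective x
        show Submodule.Quotient.mk (s (b • e)) = b • (Submodule.Quotient.mk (s e) : N ⧸ K)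
        rw [map_smul, Submodule.Quotient.mk_smul] }
  let i' : (N ⧸ K) →ₗ[B] E ⧸ K' :=
    { toFun := Submodule.mapQ KN KB i hiK
      map_add' := map_add _
      map_smul' := fun b x => by
        obtain ⟨e, rfl⟩ := Submodule.Quotient.mk_surjective K x
        show Ideal.Quotient.mk K' (i (b • e)) = b • Ideal.Quotient.mk K' (i e)
        rw [map_smul]
        rfl }
  have hs'i' : ∀ x, s' (i' x) = x := fun x => by
    obtain ⟨e, rfl⟩ := Submodule.Quotient.mk_surjective K x
    show Submodule.Quotient.mk (s (i e)) = _
    rw [hsi]; rfl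
  haveI := hflat
  refine ⟨Module.Flat.of_retract i' s' (LinearMap.ext hs'i'), ?_⟩
  -- finite presentation over the polynomial ring over `B`
  let PB := B ⊗[A] P
  letI : Algebra PB E := (Algebra.TensorProduct.map (AlgHom.id B B) (IsScalarTower.toAlgHom A P Q)).toRingHom.toAlgebra
  haveI : IsScalarTower B PB E := IsScalarTower.of_algebraMap_eq fun b => by
    show algebraMap B E b = Algebra.TensorProduct.map (AlgHom.id B B) (IsScalarTower.toAlgHom A P Q) (algebraMap B PB b)
    exact ((Algebra.TensorProduct.map (AlgHom.id B B) (IsScalarTower.toAlgHom A P Q)).commutes b).symm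
  have hPB : ∀ (b b' : B) (p : P) (q : Q), (b ⊗ₜ[A] p : PB) • (b' ⊗ₜ[A] q : E) = (b * b') ⊗ₜ (p • q) := by
    intro b b' p q
    rw [Algebra.smul_def, RingHom.algebraMap_toAlgebra]
    show (b ⊗ₜ[A] algebraMap P Q p) * (b' ⊗ₜ[A] q) = _
    rw [Algebra.TensorProduct.tmul_mul_tmul, ← Algebra.smul_def]
  haveI := finite_sqZero P M
  haveI : Module.Finite PB E := by
    classical
    obtain ⟨S, hS⟩ := (inferInstance : Module.Finite P Q).fg_top
    refine ⟨⟨S.image fun q => (1 : B) ⊗ₜ[A] q, Submodule.eq_top_iff'.2 fun e => ?_⟩⟩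
    induction e using TensorProduct.induction_on with
    | zero => exact zero_mem _
    | add a b ha hb => exact add_mem ha hb
    | tmul b q =>
      have hq : q ∈ Submodule.span P (S : Set Q) := hS ▸ Submodule.mem_top
      induction hq using Submodule.span_induction with
      | mem q hq =>
        have : b ⊗ₜ[A] q = (b ⊗ₜ[A] (1 : P) : PB) • ((1 : B) ⊗ₜ[A] q : E) := by rw [hPB, mul_one, one_smul]
        rw [this]
        exact Submodule.smul_mem _ _ (Submodule.subset_span (Finset.mem_image_of_mem _ hq))
      | zero => rw [tmul_zero]; exact zero_mem _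
      | add x y _ _ hx hy => rw [tmul_add]; exact add_mem hx hy
      | smul p x _ hx =>
        have : b ⊗ₜ[A] (p • x) = ((1 : B) ⊗ₜ[A] p : PB) • (b ⊗ₜ[A] x : E) := by rw [hPB, one_mul]
        rw [this]
        exact Submodule.smul_mem _ _ hx
  haveI : IsScalarTower B PB (E ⧸ K') := IsScalarTower.of_algebraMap_eq (R := B) (S := PB) (A := E ⧸ K') fun b => by
    show Ideal.Quotient.mk K' (algebraMap B E b) = Ideal.Quotient.mk K' (algebraMap PB E (algebraMap B PB b))
    rw [← IsScalarTower.algebraMap_apply B PB E]
  haveI := hfp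
  haveI : Algebra.FinitePresentation PB (E ⧸ K') :=
    Algebra.FinitePresentation.of_restrict_scalars_finitePresentation B PB (E ⧸ K')
  haveI : Module.Finite PB (E ⧸ K') := Module.Finite.trans E _
  haveI : Module.FinitePresentation PB (E ⧸ K') :=
    Module.FinitePresentation.of_finite_of_finitePresentation PB (E ⧸ K')
  let θ : PB →ₐ[B] C := Algebra.TensorProduct.lift (Algebra.ofId B C) ((IsScalarTower.toAlgHom A R C).comp πR)
    fun _ _ => Commute.all _ _
  have hθ : ∀ (b : B) (p : P), θ (b ⊗ₜ p) = algebraMap B C b * algebraMap R C (πR p) :=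
    fun b p => Algebra.TensorProduct.lift_tmul _ _ _ b p
  have hθs : Function.Surjective θ := fun c => by
    obtain ⟨z, rfl⟩ := (Algebra.IsPushout.equiv A B R C).surjective c
    induction z using TensorProduct.induction_on with
    | zero => exact ⟨0, by simp⟩
    | add x y hx hy =>
      obtain ⟨x', hx'⟩ := hx; obtain ⟨y', hy'⟩ := hy
      exact ⟨x' + y', by rw [map_add, hx', hy', map_add]⟩
    | tmul b r =>
      obtain ⟨p, rfl⟩ := hπR r
      exact ⟨b ⊗ₜ p, by rw [hθ, Algebra.IsPushout.equiv_tmul]⟩
  letI : Module PB (N ⧸ K) := Module.compHom (N ⧸ K) θ.toRingHom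
  haveI : SMulCommClass B R N := ⟨fun b r x => by
    rw [← algebraMap_smul C r x, ← algebraMap_smul C r (b • x), smul_comm]⟩
  have hsθ : ∀ (x : PB) (e : E), s (x • e) = θ x • s e := fun x e => by
    induction x using TensorProduct.induction_on with
    | zero =>
      exact ((congrArg s (zero_smul PB e)).trans (map_zero s)).trans
        ((congrArg (· • s e) (map_zero θ)).trans (zero_smul C (s e))).symm
    | add a b ha hb =>
      exact ((congrArg s (add_smul a b e)).trans ((map_add s _ _).trans (congrArg₂ (· + ·) ha hb))).trans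
        ((congrArg (· • s e) (map_add θ a b)).trans (add_smul (θ a) (θ b) (s e))).symm
    | tmul b p =>
      induction e using TensorProduct.induction_on with
      | zero =>
        exact ((congrArg s (smul_zero (b ⊗ₜ[A] p : PB))).trans (map_zero s)).trans
          ((congrArg (_ • ·) (map_zero s)).trans (smul_zero _)).symm
      | add a c ha hc =>
        exact ((congrArg s (smul_add (b ⊗ₜ[A] p : PB) a c)).trans ((map_add s _ _).trans
          (congrArg₂ (· + ·) ha hc))).trans ((congrArg (_ • ·) (map_add s a c)).trans (smul_add _ _ _)).symm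
      | tmul b' q =>
        rw [hPB, hs, hs, hθ, mul_smul (algebraMap B C b), algebraMap_smul, algebraMap_smul, mul_smul,
          show (p • q).snd = p • q.snd from rfl, hPM, map_smul, smul_comm b' (πR p)]
  let sP : (E ⧸ K') →ₗ[PB] N ⧸ K :=
    { toFun := s'
      map_add' := map_add s'
      map_smul' := fun x z => by
        obtain ⟨e, rfl⟩ := Ideal.Quotient.mk_surjective z
        show Submodule.Quotient.mk (s (x • e)) = θ x • (Submodule.Quotient.mk (s e) : N ⧸ K)
        rw [hsθ, Submodule.Quotient.mk_smul] }
  have hsPs : Function.Surjective sP := fun x => ⟨i' x, hs'i' x⟩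
  have hdec : ∀ e : E, ∃ x : PB, e = x • ((1 : B) ⊗ₜ[A] (1 : Q) : E) + i (s e) := fun e => by
    induction e using TensorProduct.induction_on with
    | zero =>
      exact ⟨0, (((congrArg₂ (· + ·) (zero_smul PB _) ((congrArg i (map_zero s)).trans (map_zero i))).trans
        (add_zero _))).symm⟩
    | add a b ha hb =>
      obtain ⟨x, hx⟩ := ha; obtain ⟨y, hy⟩ := hb
      exact ⟨x + y, by
        conv_lhs => rw [hx, hy]
        refine Eq.trans ?_ (congrArg₂ (· + ·) (add_smul x y ((1 : B) ⊗ₜ[A] (1 : Q) : E)).symm ((congrArg i (map_add s a b)).trans (map_add i _ _)).symm)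
        abel⟩
    | tmul b q =>
      refine ⟨b ⊗ₜ q.fst, ?_⟩
      rw [hPB, mul_one, hs, hi, ← tmul_add]
      refine congrArg _ (TrivSqZeroExt.ext ?_ ?_)
      · show q.fst = q.fst • (1 : P) + 0
        simp
      · show q.snd = q.fst • (0 : M) + q.snd
        simp
  have hker : LinearMap.ker sP = Submodule.span PB {Ideal.Quotient.mk K' ((1 : B) ⊗ₜ[A] (1 : Q))} := by
    refine le_antisymm (fun z hz => ?_) ((Submodule.span_singleton_le_iff_mem _ _).2 ?_)
    · obtain ⟨e, rfl⟩ := Ideal.Quotient.mk_surjective z
      obtain ⟨x, hx⟩ := hdec e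
      have h0 : (Submodule.Quotient.mk (s e) : N ⧸ K) = 0 := hz
      rw [hx, map_add, show Ideal.Quotient.mk K' (i (s e)) = 0 from Ideal.Quotient.eq_zero_iff_mem.2
        (hiK ((Submodule.Quotient.mk_eq_zero K).1 h0)), add_zero]
      exact Submodule.mem_span_singleton.2 ⟨x, rfl⟩
    · show Submodule.Quotient.mk (s ((1 : B) ⊗ₜ[A] (1 : Q))) = (0 : N ⧸ K)
      rw [hs, TrivSqZeroExt.snd_one, map_zero, smul_zero, Submodule.Quotient.mk_zero]
  haveI : Module.FinitePresentation PB (N ⧸ K) :=
    Module.finitePresentation_of_surjective sP hsPs (hker ▸ Submodule.fg_span_singleton _)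
  exact FlatLib.finitePresentation_semilinear (A := PB) (M := N ⧸ K) θ.toRingHom hθs (AddEquiv.refl _)
    fun _ _ => rfl

end RGFlatLib

end
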