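import Groth.Agent.RGFlatLib.StrictBlowUp

/-!
# Scheme theoretic images of partially defined sections
-/

set_option autoImplicit false
universe u
open CategoryTheory CategoryTheory.Limits AlgebraicGeometry TopologicalSpace

namespace RGFlatLib

/-- The closure of a section over an open is isomorphic to the open over that open. -/
theorem isIso_image_of_section {U X W : Scheme.{u}} (s : U ⟶ X) [QuasiCompact s] (f : X ⟶ W) [IsSeparated f]
    (u : U ⟶ W) [IsOpenImmersion u] (hs : s ≫ f = u) : IsIso ((s.imageι ≫ f) ∣_ u.opensRange) := by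
  let f₀ : s.image ⟶ W := s.imageι ≫ f
  have hf₀ : s.toImage ≫ f₀ = u := by rw [Scheme.Hom.toImage_imageι_assoc, hs]
  have hmemU : ∀ w, s.toImage w ∈ f₀ ⁻¹ᵁ u.opensRange := fun w => by
    show f₀ (s.toImage w) ∈ u.opensRange
    rw [← Scheme.Hom.comp_apply, hf₀]
    exact ⟨w, rfl⟩
  let σ : (u.opensRange : Scheme.{u}) ⟶ U := IsOpenImmersion.lift u u.opensRange.ι (by
    rw [Scheme.Opens.range_ι]
    exact le_refl _)
  have hσ : σ ≫ u = u.opensRange.ι := IsOpenImmersion.lift_fac _ _ _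
  let inv : (u.opensRange : Scheme.{u}) ⟶ (f₀ ⁻¹ᵁ u.opensRange : s.image.Opens) :=
    IsOpenImmersion.lift (f₀ ⁻¹ᵁ u.opensRange).ι (σ ≫ s.toImage) (by
      rintro _ ⟨w, rfl⟩
      rw [Scheme.Opens.range_ι]
      exact hmemU _)
  have hinv : inv ≫ (f₀ ⁻¹ᵁ u.opensRange).ι = σ ≫ s.toImage := IsOpenImmersion.lift_fac _ _ _
  refine ⟨inv, ?_, ?_⟩
  · rw [← cancel_mono (f₀ ⁻¹ᵁ u.opensRange).ι, ← cancel_mono s.imageι, Category.id_comp]
    simp only [Category.assoc, reassoc_of% hinv, Scheme.Hom.toImage_imageι]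
    haveI : IsSchemeTheoreticallyDominant s.toImage := ModPairLib.isDominant_toImage
    haveI : IsSchemeTheoreticallyDominant (s.toImage ∣_ (f₀ ⁻¹ᵁ u.opensRange)) :=
      IsSchemeTheoreticallyDominant.of_isPullback (isPullback_morphismRestrict s.toImage (f₀ ⁻¹ᵁ u.opensRange)).flip
    refine ModPairLib.ext_of_dominant f (s.toImage ∣_ (f₀ ⁻¹ᵁ u.opensRange)) ?_ ?_
    · simp only [Category.assoc, hs, hσ]
      exact morphismRestrict_ι f₀ u.opensRange
    · have e : (s.toImage ∣_ (f₀ ⁻¹ᵁ u.opensRange)) ≫ (f₀ ∣_ u.opensRange) ≫ σ =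
          (s.toImage ⁻¹ᵁ f₀ ⁻¹ᵁ u.opensRange).ι := by
        rw [← cancel_mono u]
        simp only [Category.assoc, hσ, morphismRestrict_ι, morphismRestrict_ι_assoc, hf₀]
      rw [morphismRestrict_ι_assoc, Scheme.Hom.toImage_imageι, reassoc_of% e]
  · rw [← cancel_mono u.opensRange.ι, Category.assoc, morphismRestrict_ι, reassoc_of% hinv, hf₀, hσ, Category.id_comp]

end RGFlatLib
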