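import Mathlib
import Groth.Agent.RGFlatLib.Graph

/-!
# Gluing two schemes along an open
-/

set_option autoImplicit false
universe u
open CategoryTheory CategoryTheory.Limits AlgebraicGeometry TopologicalSpace

namespace RGFlatLib

variable {W Y₁ Y₂ S : Scheme.{u}}

section chart

variable {A B X : Scheme.{u}} (f : A ⟶ X) (g : B ⟶ X) (q : X ⟶ S)

/-- The chart of the diagonal at a pair of opens. -/
noncomputable def diagChart : pullback f g ⟶ pullback (f ≫ q) (g ≫ q) :=
  pullback.lift (pullback.fst f g) (pullback.snd f g)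
    (by rw [← Category.assoc, pullback.condition, Category.assoc])

@[reassoc (attr := simp)]
theorem diagChart_fst : diagChart f g q ≫ pullback.fst (f ≫ q) (g ≫ q) = pullback.fst f g :=
  pullback.lift_fst _ _ _

@[reassoc (attr := simp)]
theorem diagChart_snd : diagChart f g q ≫ pullback.snd (f ≫ q) (g ≫ q) = pullback.snd f g :=
  pullback.lift_snd _ _ _

theorem isClosedImmersion_diagChart_self [Mono f] [IsSeparated (f ≫ q)] :
    IsClosedImmersion (diagChart f f q) := by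
  rw [show diagChart f f q = pullback.fst f f ≫ pullback.diagonal (f ≫ q) from pullback.hom_ext
    (by simp) (by simp [fst_eq_snd_of_mono_eq])]
  infer_instance

theorem isClosedImmersion_diagChart_symm [IsClosedImmersion (diagChart f g q)] :
    IsClosedImmersion (diagChart g f q) := by
  rw [show diagChart g f q = (pullbackSymmetry g f).hom ≫ diagChart f g q ≫
    (pullbackSymmetry (f ≫ q) (g ≫ q)).hom from pullback.hom_ext (by simp) (by simp)]
  infer_instance

theorem isClosedImmersion_diagChart_of_isPullback {k₁ : W ⟶ A} {k₂ : W ⟶ B} (h : IsPullback k₁ k₂ f g)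
    {p₁ : A ⟶ S} {p₂ : B ⟶ S} (h₁ : f ≫ q = p₁) (h₂ : g ≫ q = p₂) (hw : k₁ ≫ p₁ = k₂ ≫ p₂)
    [IsClosedImmersion (pullback.lift k₁ k₂ hw)] : IsClosedImmersion (diagChart f g q) := by
  subst h₁ h₂
  rw [show diagChart f g q = h.isoPullback.inv ≫ pullback.lift k₁ k₂ hw from pullback.hom_ext
    (by rw [diagChart_fst, Category.assoc, pullback.lift_fst, Iso.eq_inv_comp, h.isoPullback_hom_fst])
    (by rw [diagChart_snd, Category.assoc, pullback.lift_snd, Iso.eq_inv_comp, h.isoPullback_hom_snd])]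
  infer_instance

theorem isSeparated_of_diagChart (𝒰 : X.OpenCover)
    (h : ∀ i j, IsClosedImmersion (diagChart (𝒰.f i) (𝒰.f j) q)) : IsSeparated q := ⟨by
  refine (IsZariskiLocalAtTarget.iff_of_openCover (P := @IsClosedImmersion)
    (Scheme.Pullback.openCoverOfLeftRight 𝒰 𝒰 q q)).mpr fun ij => ?_
  haveI := h ij.1 ij.2
  have e : Scheme.Cover.pullbackHom (Scheme.Pullback.openCoverOfLeftRight 𝒰 𝒰 q q) (pullback.diagonal q) ij =
      (pullbackDiagonalMapIdIso (𝒰.f ij.1) (𝒰.f ij.2) q).hom ≫ diagChart (𝒰.f ij.1) (𝒰.f ij.2) q := by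
    refine pullback.hom_ext ?_ ?_
    · refine Eq.trans ?_ (Category.assoc _ _ _).symm
      erw [diagChart_fst, pullbackDiagonalMapIdIso_hom_fst]
      rfl
    · refine Eq.trans ?_ (Category.assoc _ _ _).symm
      erw [diagChart_snd, pullbackDiagonalMapIdIso_hom_snd]
      rfl
  rw [e]
  exact MorphismProperty.comp_mem (W := @IsClosedImmersion) _ _ (inferInstanceAs (IsClosedImmersion
    (pullbackDiagonalMapIdIso (𝒰.f ij.1) (𝒰.f ij.2) q).hom)) this⟩

end chart

/-- Two separated finite type schemes glued along an open closed in their product form a separated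
scheme of finite type. -/
theorem exists_glue_two (k₁ : W ⟶ Y₁) (k₂ : W ⟶ Y₂) [IsOpenImmersion k₁] [IsOpenImmersion k₂]
    (p₁ : Y₁ ⟶ S) (p₂ : Y₂ ⟶ S) [IsSeparated p₁] [IsSeparated p₂] [LocallyOfFiniteType p₁]
    [LocallyOfFiniteType p₂] [QuasiCompact p₁] [QuasiCompact p₂] (hw : k₁ ≫ p₁ = k₂ ≫ p₂)
    [IsClosedImmersion (pullback.lift k₁ k₂ hw)] :
    ∃ (X : Scheme.{u}) (q : X ⟶ S) (o₁ : Y₁ ⟶ X) (o₂ : Y₂ ⟶ X), IsSeparated q ∧ LocallyOfFiniteType q ∧
      QuasiCompact q ∧ IsOpenImmersion o₁ ∧ IsOpenImmersion o₂ ∧ o₁ ≫ q = p₁ ∧ o₂ ≫ q = p₂ ∧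
      k₁ ≫ o₁ = k₂ ≫ o₂ ∧ IsPullback k₁ k₂ o₁ o₂ := by
  let F := span k₁ k₂
  let o₁ : Y₁ ⟶ colimit F := colimit.ι F WalkingSpan.left
  let o₂ : Y₂ ⟶ colimit F := colimit.ι F WalkingSpan.right
  haveI : IsOpenImmersion o₁ := inferInstanceAs (IsOpenImmersion (colimit.ι F WalkingSpan.left))
  haveI : IsOpenImmersion o₂ := inferInstanceAs (IsOpenImmersion (colimit.ι F WalkingSpan.right))
  let q : colimit F ⟶ S := pushout.desc p₁ p₂ hw
  have hq₁ : o₁ ≫ q = p₁ := pushout.inl_desc _ _ _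
  have hq₂ : o₂ ≫ q = p₂ := pushout.inr_desc _ _ _
  have hko : k₁ ≫ o₁ = k₂ ≫ o₂ := pushout.condition
  have hjoint : ∀ x : ↥(colimit F), x ∈ Set.range o₁ ∨ x ∈ Set.range o₂ := by
    intro x
    obtain ⟨i, xi, rfl⟩ := Scheme.IsLocallyDirected.ι_jointly_surjective F x
    rcases i with _ | (_ | _)
    · left
      refine ⟨k₁ xi, ?_⟩
      rw [← Scheme.Hom.comp_apply]
      exact congr($(colimit.w F WalkingSpan.Hom.fst) xi)
    · exact Or.inl ⟨xi, rfl⟩
    · exact Or.inr ⟨xi, rfl⟩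
  have hsq : IsPullback k₁ k₂ o₁ o₂ := by
    haveI : IsOpenImmersion (pullback.lift k₁ k₂ hko) := by
      haveI : IsOpenImmersion (pullback.lift k₁ k₂ hko ≫ pullback.fst o₁ o₂) := by
        rw [pullback.lift_fst]; infer_instance
      exact IsOpenImmersion.of_comp _ (pullback.fst o₁ o₂)
    haveI : Surjective (pullback.lift k₁ k₂ hko) := ⟨fun z => by
      have hz : o₁ (pullback.fst o₁ o₂ z) = o₂ (pullback.snd o₁ o₂ z) := by
        rw [← Scheme.Hom.comp_apply, ← Scheme.Hom.comp_apply, pullback.condition]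
      obtain ⟨k, fi, fj, x, hxi, -⟩ := (Scheme.IsLocallyDirected.ι_eq_ι_iff F).mp hz
      obtain ⟨w, hw'⟩ : pullback.fst o₁ o₂ z ∈ Set.range k₁ := by
        rcases k with _ | (_ | _)
        · refine ⟨x, ?_⟩
          rw [← hxi, Subsingleton.elim fi WalkingSpan.Hom.fst]
          rfl
        · nomatch fj
        · nomatch fi
      refine ⟨w, (pullback.fst o₁ o₂).isOpenEmbedding.injective ?_⟩
      rw [← Scheme.Hom.comp_apply, pullback.lift_fst, hw']⟩
    haveI : IsIso (pullback.lift k₁ k₂ hko) := (isIso_iff_isOpenImmersion_and_surjective _).mpr ⟨inferInstance, inferInstance⟩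
    exact IsPullback.of_iso_pullback ⟨hko⟩ (asIso (pullback.lift k₁ k₂ hko)) (pullback.lift_fst _ _ _) (pullback.lift_snd _ _ _)
  let Y : Bool → Scheme.{u} := fun i => cond i Y₁ Y₂
  let o : ∀ i, Y i ⟶ colimit F := fun i => match i with | true => o₁ | false => o₂
  haveI ho : ∀ i, IsOpenImmersion (o i) := fun i => by cases i <;> dsimp only [o] <;> assumption
  let 𝒰 : (colimit F).OpenCover := Scheme.Cover.mkOfCovers (ULift.{u} Bool) (fun i => Y i.down) (fun i => o i.down)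
    (fun x => (hjoint x).elim (fun ⟨y, hy⟩ => ⟨⟨true⟩, y, hy⟩) fun ⟨y, hy⟩ => ⟨⟨false⟩, y, hy⟩) fun i => ho i.down
  haveI hoff : IsClosedImmersion (diagChart o₁ o₂ q) := isClosedImmersion_diagChart_of_isPullback o₁ o₂ q hsq hq₁ hq₂ hw
  haveI : IsSeparated (o₁ ≫ q) := hq₁.symm ▸ ‹IsSeparated p₁›
  haveI : IsSeparated (o₂ ≫ q) := hq₂.symm ▸ ‹IsSeparated p₂›
  haveI : IsSeparated q := isSeparated_of_diagChart q 𝒰 fun i j => by
    rcases i with ⟨_ | _⟩ <;> rcases j with ⟨_ | _⟩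
    · exact isClosedImmersion_diagChart_self o₂ q
    · exact isClosedImmersion_diagChart_symm o₁ o₂ q
    · exact hoff
    · exact isClosedImmersion_diagChart_self o₁ q
  refine ⟨colimit F, q, o₁, o₂, inferInstance, ?_, ?_, inferInstance, inferInstance, hq₁, hq₂, hko, hsq⟩
  · refine (IsZariskiLocalAtSource.iff_of_openCover (P := @LocallyOfFiniteType) 𝒰).mpr fun i => ?_
    show LocallyOfFiniteType (o i.down ≫ q)
    rcases i with ⟨_ | _⟩
    · dsimp only [o]; rw [hq₂]; infer_instance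
    · dsimp only [o]; rw [hq₁]; infer_instance
  · refine ⟨fun U hU hUc => ?_⟩
    have e : q ⁻¹' U = o₁ '' (p₁ ⁻¹' U) ∪ o₂ '' (p₂ ⁻¹' U) := by
      ext x
      constructor
      · intro hx
        rcases hjoint x with ⟨y, rfl⟩ | ⟨y, rfl⟩
        · exact Or.inl ⟨y, by rw [Set.mem_preimage, ← hq₁, Scheme.Hom.comp_apply]; exact hx, rfl⟩
        · exact Or.inr ⟨y, by rw [Set.mem_preimage, ← hq₂, Scheme.Hom.comp_apply]; exact hx, rfl⟩
      · rintro (⟨y, hy, rfl⟩ | ⟨y, hy, rfl⟩)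
        · show q (o₁ y) ∈ U; rw [← Scheme.Hom.comp_apply, hq₁]; exact hy
        · show q (o₂ y) ∈ U; rw [← Scheme.Hom.comp_apply, hq₂]; exact hy
    show IsCompact (q ⁻¹' U)
    rw [e]
    exact (((‹QuasiCompact p₁›).isCompact_preimage U hU hUc).image o₁.continuous).union (((‹QuasiCompact p₂›).isCompact_preimage U hU hUc).image o₂.continuous)

end RGFlatLib
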