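import Groth.Agent.RGFlatLib.Setup
import Groth.Agent.ModPairLib.Product

/-!
# Dominating admissible blow-ups
-/

set_option autoImplicit false
universe u
open CategoryTheory CategoryTheory.Limits AlgebraicGeometry TopologicalSpace

namespace RGFlatLib

variable {X Y : Scheme.{u}}

theorem isFiniteTypeIdeal_comap {K : Y.IdealSheafData} (hK : BlowUp.IsFiniteTypeIdeal K) (t : X ⟶ Y) :
    BlowUp.IsFiniteTypeIdeal (K.comap t) := by
  intro V
  have key : ∀ x ∈ V.1, ∃ r : Γ(X, V.1), x ∈ X.basicOpen r ∧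
      ((K.comap t).ideal (X.affineBasicOpen r)).FG := by
    intro x hx
    obtain ⟨_, ⟨U, hU, rfl⟩, hxU, -⟩ := Y.isBasis_affineOpens.exists_subset_of_mem_open
      (Set.mem_univ (t x)) isOpen_univ
    obtain ⟨r, hr, hxr⟩ := V.2.exists_basicOpen_le (V := t ⁻¹ᵁ U) ⟨x, hxU⟩ hx
    refine ⟨r, hxr, ?_⟩
    rw [Groth.Agent.S4666.ideal_comap_eq _ t ⟨U, hU⟩ (X.affineBasicOpen r) hr]
    exact Ideal.FG.map (hK _) _
  choose r hxr hfg using fun x : V.1 => key x.1 x.2
  have hspan : Ideal.span (Set.range r) = ⊤ := by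
    rw [← V.2.self_le_iSup_basicOpen_iff]
    intro x hx
    exact Opens.mem_iSup.mpr ⟨⟨_, ⟨x, hx⟩, rfl⟩, hxr ⟨x, hx⟩⟩
  refine Ideal.fg_of_localizationSpan (Set.range r) hspan ?_
  rintro ⟨_, x, rfl⟩
  haveI : IsLocalization.Away (r x) Γ(X, X.basicOpen (r x)) := V.2.isLocalization_basicOpen (r x)
  let e := (IsLocalization.algEquiv (Submonoid.powers (r x)) Γ(X, X.basicOpen (r x))
    (Localization.Away (r x))).toRingEquiv
  have h0 : (((K.comap t).ideal V).map (algebraMap Γ(X, V.1) Γ(X, X.basicOpen (r x)))).FG := by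
    have := hfg x
    rw [← (K.comap t).map_ideal_basicOpen V (r x)] at this
    exact this
  have h := Ideal.FG.map h0 (e.toRingHom : Γ(X, X.basicOpen (r x)) →+* Localization.Away (r x))
  rw [Ideal.map_map] at h
  convert h using 2
  ext y
  exact ((IsLocalization.algEquiv (Submonoid.powers (r x)) Γ(X, X.basicOpen (r x))
    (Localization.Away (r x))).commutes y).symm

theorem admissible_comap {U : Y.Opens} {K : Y.IdealSheafData} (hK : BlowUp.IsAdmissibleFor U K) (t : X ⟶ Y) :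
    BlowUp.IsAdmissibleFor (t ⁻¹ᵁ U) (K.comap t) := by
  refine ⟨isFiniteTypeIdeal_comap hK.1 t, ?_⟩
  rw [Scheme.IdealSheafData.support_comap]
  exact hK.2.preimage _

/-- A product of finitely many admissible ideals is admissible. -/
theorem exists_prod {U : X.Opens} : ∀ {n : ℕ} (I : Fin n → X.IdealSheafData),
    (∀ i, BlowUp.IsAdmissibleFor U (I i)) →
      ∃ J : X.IdealSheafData, BlowUp.IsAdmissibleFor U J ∧ ∀ i, ∃ R, J = R * I i
  | 0, _, _ => ⟨⊤, ⟨fun W => by
      rw [Scheme.IdealSheafData.ideal_top, Pi.top_apply]; exact ⟨{1}, by simp⟩,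
      by simp [Scheme.IdealSheafData.support_top]⟩, fun i => i.elim0⟩
  | n + 1, I, hI => by
    obtain ⟨J, hJ, hJI⟩ := exists_prod (fun i : Fin n => I i.castSucc) fun i => hI _
    refine ⟨J * I (Fin.last n), ⟨fun W => ?_, ?_⟩, fun i => ?_⟩
    · rw [Scheme.IdealSheafData.ideal_mul, Pi.mul_apply]; exact Submodule.FG.mul (hJ.1 W) ((hI _).1 W)
    · rw [Scheme.IdealSheafData.support_mul]
      exact Disjoint.union_left hJ.2 (hI _).2
    · refine Fin.lastCases ⟨J, rfl⟩ (fun i => ?_) i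
      obtain ⟨R, hR⟩ := hJI i
      exact ⟨R * I (Fin.last n), by rw [hR, mul_right_comm]⟩

/-- Blowing up in a multiple of a centre dominates the blow-up in that centre, and is a blow-up of it. -/
theorem exists_factor {X' X₁ : Scheme.{u}} {b : X₁ ⟶ X} {c : X' ⟶ X} {I R : X.IdealSheafData}
    (hb : BlowUp.IsBlowUp b I) (hc : BlowUp.IsBlowUp c (R * I)) :
    ∃ g : X' ⟶ X₁, g ≫ b = c ∧ BlowUp.IsBlowUp g ((R * I).comap b) := by
  have hI : ∀ {T : Scheme.{u}} (t : T ⟶ X), BlowUp.IsEffCartierIdeal ((R * I).comap t) →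
      BlowUp.IsEffCartierIdeal (I.comap t) := fun t ht => by
    rw [BlowUpLib.comap_mul] at ht
    exact BlowUpLib.isEffCartier_of_mul ht
  obtain ⟨g, hg, -⟩ := hb.2 X' c (hI c hc.1)
  refine ⟨g, hg, by rw [← Scheme.IdealSheafData.comap_comp, hg]; exact hc.1, fun T h hh => ?_⟩
  rw [← Scheme.IdealSheafData.comap_comp] at hh
  obtain ⟨l, hl, huniq⟩ := hc.2 T (h ≫ b) hh
  refine ⟨l, BlowUpLib.hom_ext hb (h ≫ b) (hI _ hh) (by rw [Category.assoc, hg, hl]) rfl, fun m hm => ?_⟩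
  exact huniq m (show m ≫ c = h ≫ b by rw [← hg, ← Category.assoc, hm])

end RGFlatLib
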