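import Groth.Agent.RGFlatLib.ExtendGlobal

/-!
# Finite type subideals of a quasi-coherent ideal
-/

set_option autoImplicit false

universe u
open CategoryTheory CategoryTheory.Limits TopologicalSpace Opposite AlgebraicGeometry

noncomputable section

namespace RGFlatLib

open QCohLib QCohLib.LocSub MiscFlat6

variable {X : Scheme.{u}}

/-- A finitely generated ideal on an affine open inside a quasi-coherent ideal lies in a finite type
subideal. -/
theorem exists_ft_le [CompactSpace X] [QuasiSeparatedSpace X] (I : X.IdealSheafData) (W : X.affineOpens)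
    (J : Ideal Γ(X, W.1)) (hJ : J.FG) (hJI : J ≤ I.ideal W) :
    ∃ K : X.IdealSheafData, (∀ V : X.affineOpens, (K.ideal V).FG) ∧ K ≤ I ∧ J ≤ K.ideal W := by
  classical
  haveI : Coh.IsQCoh (Coh.structureModule X) := QCohLib.isQCoh_unit
  obtain ⟨g, hg⟩ := hJ
  let T := sectionsOf I (⊤ : X.Opens)
  have hT : ∀ (O : X.Opens), IsAffineOpen O → ∀ (r : Γ(X, O)) (a : Γ(Coh.structureModule X, O)),
      T.mem (X.basicOpen r) ((Coh.structureModule X).presheaf.map (homOfLE (X.basicOpen_le r)).op a) →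
      ∃ k : ℕ, T.mem O (r ^ k • a) := by
    intro O hO r a ha
    have h1 := (sectionsOf_mem_iff I ⟨X.basicOpen r, hO.basicOpen r⟩ le_top _).mp ha
    have h2 : OmegaSh.fnSect X (X.basicOpen r) ((Coh.structureModule X).presheaf.map (homOfLE (X.basicOpen_le r)).op a) =
        (X.presheaf.map (homOfLE (X.basicOpen_le r)).op) (OmegaSh.fnSect X O a) := rfl
    rw [h2, ← I.map_ideal (U := ⟨X.basicOpen r, hO.basicOpen r⟩) (V := ⟨O, hO⟩) (X.basicOpen_le r)] at h1
    letI := (X.presheaf.map (homOfLE (X.basicOpen_le r)).op).hom.toAlgebra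
    haveI : IsLocalization.Away r Γ(X, X.basicOpen r) := hO.isLocalization_basicOpen r
    obtain ⟨_, ⟨k, rfl⟩, hk⟩ := (IsLocalization.algebraMap_mem_map_algebraMap_iff (Submonoid.powers r)
      Γ(X, X.basicOpen r) (I.ideal ⟨O, hO⟩) (OmegaSh.fnSect X O a)).mp h1
    exact ⟨k, (sectionsOf_mem_iff I ⟨O, hO⟩ le_top _).mpr hk⟩
  let ι := ULift.{u} (Fin g.card)
  let e : ι ≃ g := Equiv.ulift.trans g.equivFin.symm
  let m : ι → Γ(Coh.structureModule X, W.1) := fun i => ((e i).1 : Γ(X, W.1))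
  let S₀ : LocSub (Coh.structureModule X) := span (Coh.structureModule X) W.1 m
  have hm : ∀ i, T.mem W.1 (m i) := fun i =>
    (sectionsOf_mem_iff I W le_top _).mpr (hJI (hg ▸ Ideal.subset_span (e i).2))
  have hc₀ : Canon S₀ W.1 := fun O a ha p hp hpW => by
    obtain ⟨O', hO', hO'W, hpO', c, hc'⟩ := ha p ⟨hp, hpW⟩ hpW
    rw [map_map'] at hc'
    exact ⟨O', hO'.trans inf_le_left, hO'W, hpO', c, hc'⟩
  have hft₀ : FTBelow S₀ W.1 := fun p hp =>
    ⟨W.1, le_rfl, hp, g.card, m, fun i => span_self m i, fun O _ a ha => ha⟩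
  have key : ∀ t : Finset X.affineOpens, ∃ (V : X.Opens) (S : LocSub (Coh.structureModule X)), W.1 ≤ V ∧
      (∀ O ∈ t, O.1 ≤ V) ∧ IsCompact (V : Set X) ∧ Canon S V ∧ FTBelow S V ∧
      (∀ O ≤ W.1, ∀ a, S.mem O a ↔ S₀.mem O a) ∧ ∀ O ≤ V, ∀ a, S.mem O a → T.mem O a := by
    intro t
    induction t using Finset.induction_on with
    | empty => exact ⟨W.1, S₀, le_rfl, fun O hO => absurd hO (Finset.notMem_empty O), W.2.isCompact, hc₀, hft₀,
        fun _ _ _ => Iff.rfl, fun O hO a ha => T.span_le hm hO ha⟩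
    | insert O t hOt ih =>
      obtain ⟨V, S, hUV, htV, hV, hc, hft, hag, hST⟩ := ih
      obtain ⟨S', h1, h2, h3, h4⟩ := exists_extend_affine_within T hT S hc hft hST O.2
        (QuasiSeparatedSpace.inter_isCompact _ _ O.1.isOpen O.2.isCompact V.isOpen hV)
      exact ⟨V ⊔ O.1, S', hUV.trans le_sup_left, fun O' hO' => (Finset.mem_insert.mp hO').elim
        (fun e => e ▸ le_sup_right) fun h => (htV O' h).trans le_sup_left,
        hV.union O.2.isCompact, h1, h2, fun O' hO' a => (h3 O' (hO'.trans hUV) a).trans (hag O' hO' a), h4⟩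
  obtain ⟨t, ht⟩ : ∃ t : Finset X.affineOpens, (Set.univ : Set X) ⊆ ⋃ V ∈ t, (V.1 : Set X) :=
    isCompact_univ.elim_finite_subcover (fun V : X.affineOpens => (V.1 : Set X))
      (fun V => V.1.isOpen) (fun p _ => by
        obtain ⟨V, hV, hp⟩ := exists_affine_nhd p
        exact Set.mem_iUnion.mpr ⟨⟨V, hV⟩, hp⟩)
  obtain ⟨V, S, -, htV, -, hc, hft, hag, hST⟩ := key t
  obtain rfl : V = ⊤ := eq_top_iff.mpr fun p _ => by
    obtain ⟨O, hO, hpO⟩ := Set.mem_iUnion₂.mp (ht (Set.mem_univ p))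
    exact htV O hO hpO
  obtain ⟨K, hfg, heq⟩ := exists_ideal_of_localSub ⊤ isCompact_univ S hc hft
  refine ⟨K, hfg, fun V a ha => ?_, ?_⟩
  · rw [heq V le_top] at ha
    exact (sectionsOf_mem_iff I V le_top a).mp (hST V.1 le_top a ha)
  · rw [heq W le_top, ← hg, Ideal.span_le]
    intro z hz
    have := (hag W.1 le_rfl (m (e.symm ⟨z, hz⟩))).mpr (span_self m _)
    simp only [m, Equiv.apply_symm_apply] at this
    exact this

end RGFlatLib
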