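import Mathlib
import Groth.Agent.S4932
import Groth.Agent.S2121

/-!
# A flat proper morphism that is finite over a schematically dense open is finite
-/

set_option autoImplicit false
universe u

open CategoryTheory Limits AlgebraicGeometry TopologicalSpace

namespace RGFlatLib

/-- A fibre of finite type with finitely many points is zero-dimensional. -/
theorem fiber_dim_le_zero {X Y : Scheme.{u}} (f : X ⟶ Y) [LocallyOfFiniteType f] (y : Y)
    (h : (f ⁻¹' {y}).Finite) : topologicalKrullDim ↥(f.fiber y) ≤ 0 := by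
  haveI : Finite ↥(f.fiber y) := by
    haveI := h.to_subtype
    exact Finite.of_injective (fun a => (⟨f.fiberι y a, by rw [← f.range_fiberι y]; exact ⟨a, rfl⟩⟩ : ↥(f ⁻¹' {y})))
      fun a b hab => (f.fiberι y).isEmbedding.injective (congrArg Subtype.val hab)
  haveI : LocallyOfFiniteType (f.fiberToSpecResidueField y) := MorphismProperty.pullback_snd _ _ ‹_›
  haveI : JacobsonSpace ↥(f.fiber y) := LocallyOfFiniteType.jacobsonSpace (f.fiberToSpecResidueField y)
  exact topologicalKrullDim_zero_of_discreteTopology _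

/-- A zero-dimensional fibre of finite type has finitely many points. -/
theorem finite_of_fiber_dim_le_zero {X Y : Scheme.{u}} (f : X ⟶ Y) [LocallyOfFiniteType f] [QuasiCompact f]
    (y : Y) (h : topologicalKrullDim ↥(f.fiber y) ≤ 0) : (f ⁻¹' {y}).Finite := by
  haveI : LocallyOfFiniteType (f.fiberToSpecResidueField y) := MorphismProperty.pullback_snd _ _ ‹_›
  haveI := LocallyOfFiniteType.isLocallyNoetherian (f.fiberToSpecResidueField y)
  haveI := IsLocallyArtinian.of_topologicalKrullDim_le_zero h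
  haveI : CompactSpace ↥(f.fiber y) := QuasiCompact.compactSpace_of_compactSpace (f.fiberToSpecResidueField y)
  haveI : IsArtinianScheme (f.fiber y) := {}
  rw [← f.range_fiberι y]
  exact Set.finite_range _

/-- A flat family over a valuation ring with finite generic fibre has finite special fibre. -/
theorem finite_closed_fibre {A : Type u} [CommRing A] [IsDomain A] [ValuationRing A] {Z : Scheme.{u}}
    (f : Z ⟶ Spec (CommRingCat.of A)) [LocallyOfFiniteType f] [QuasiCompact f] [Flat f]
    (hgen : (f ⁻¹' {genericPoint (Spec (CommRingCat.of A))}).Finite) :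
    (f ⁻¹' {IsLocalRing.closedPoint A}).Finite := by
  let η := genericPoint (Spec (CommRingCat.of A))
  let c : Spec (CommRingCat.of A) := IsLocalRing.closedPoint A
  have hcov : f ⁻¹' {c} ⊆ ⋃ z ∈ f ⁻¹' {η}, closure {z} ∩ f ⁻¹' {c} := by
    intro w hw
    obtain ⟨z, hzw, hz⟩ := Flat.generalizingMap f (genericPoint_specializes (f w) : η ⤳ f w)
    exact Set.mem_biUnion hz ⟨hzw.mem_closure, hw⟩
  refine (hgen.biUnion fun z hz => ?_).subset hcov
  rcases (closure {z} ∩ f ⁻¹' {c}).eq_empty_or_nonempty with h0 | ⟨w, hw⟩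
  · rw [h0]; exact Set.finite_empty
  let I := Scheme.IdealSheafData.vanishingIdeal (⟨closure {z}, isClosed_closure⟩ : Closeds Z)
  have hrange : Set.range I.subschemeι = closure {z} := by
    rw [I.range_subschemeι, Scheme.IdealSheafData.coe_support_vanishingIdeal]
    rfl
  haveI : IrreducibleSpace ↥I.subscheme := by
    let e := I.subschemeι.isEmbedding.toHomeomorph.trans (Homeomorph.setCongr hrange)
    have h := (isIrreducible_iff_irreducibleSpace (s := closure ({z} : Set Z))).mp isIrreducible_singleton.closure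
    haveI : Nonempty ↥I.subscheme := ⟨e.symm ⟨z, subset_closure rfl⟩⟩
    exact Function.Surjective.irreducibleSpace e.symm.continuous e.symm.surjective
  obtain ⟨z', hz'⟩ : z ∈ Set.range I.subschemeι := by rw [hrange]; exact subset_closure rfl
  obtain ⟨w', hw'⟩ : w ∈ Set.range I.subschemeι := by rw [hrange]; exact hw.1
  haveI : IsDominant (I.subschemeι ≫ f) := ⟨by
    refine Dense.mono (Set.singleton_subset_iff.mpr (show η ∈ Set.range (I.subschemeι ≫ f) from ⟨z', ?_⟩)) ?_
    · rw [Scheme.Hom.comp_apply, hz']; exact hz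
    · rw [dense_iff_closure_eq]; exact genericPoint_closure _⟩
  have h0 : Nonempty ↥((I.subschemeι ≫ f).fiber c) := by
    obtain ⟨a, -⟩ : w' ∈ Set.range ((I.subschemeι ≫ f).fiberι c) := by
      rw [Scheme.Hom.range_fiberι]
      show (I.subschemeι ≫ f) w' = c
      rw [Scheme.Hom.comp_apply, hw']
      exact hw.2
    exact ⟨a⟩
  have hfin : ((I.subschemeι ≫ f) ⁻¹' {η}).Finite := by
    rw [Scheme.Hom.comp_base, TopCat.coe_comp, Set.preimage_comp]
    exact hgen.preimage I.subschemeι.isEmbedding.injective.injOn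
  have hdim := Groth.Agent.S4932.result (I.subschemeι ≫ f) h0
  have := finite_of_fiber_dim_le_zero (I.subschemeι ≫ f) c (hdim ▸ fiber_dim_le_zero _ η hfin)
  refine (this.image I.subschemeι).subset fun v hv => ?_
  obtain ⟨v', rfl⟩ : v ∈ Set.range I.subschemeι := by rw [hrange]; exact hv.1
  exact ⟨v', hv.2, rfl⟩

/-- Restriction of a base change to the preimage of an open is a base change of the restriction. -/
theorem restrict_of_isPullback {P : MorphismProperty Scheme.{u}} [P.IsStableUnderBaseChange]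
    {X S S' X' : Scheme.{u}} {f : X ⟶ S} {b : S' ⟶ S} {p₁ : X' ⟶ X} {p₂ : X' ⟶ S'}
    (hpb : IsPullback p₁ p₂ f b) {U : S.Opens} (hb : P (b ∣_ U)) : P (p₁ ∣_ (f ⁻¹ᵁ U)) := by
  have h1 : IsPullback ((p₁ ⁻¹ᵁ f ⁻¹ᵁ U).ι ≫ p₂) (p₁ ∣_ (f ⁻¹ᵁ U)) b ((f ⁻¹ᵁ U).ι ≫ f) :=
    (isPullback_morphismRestrict p₁ (f ⁻¹ᵁ U)).flip.paste_horiz hpb.flip
  rw [← morphismRestrict_ι f U] at h1
  let l : ((p₁ ⁻¹ᵁ f ⁻¹ᵁ U : X'.Opens) : Scheme.{u}) ⟶ (b ⁻¹ᵁ U : S'.Opens) :=
    IsOpenImmersion.lift (b ⁻¹ᵁ U).ι ((p₁ ⁻¹ᵁ f ⁻¹ᵁ U).ι ≫ p₂) (by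
      rw [Scheme.Opens.range_ι]
      rintro _ ⟨z, rfl⟩
      show b (p₂ z.1) ∈ U
      rw [← Scheme.Hom.comp_apply, ← hpb.w]
      exact z.2)
  have hl : l ≫ (b ⁻¹ᵁ U).ι = (p₁ ⁻¹ᵁ f ⁻¹ᵁ U).ι ≫ p₂ := IsOpenImmersion.lift_fac _ _ _
  have h2 : IsPullback l (p₁ ∣_ (f ⁻¹ᵁ U)) (b ∣_ U) (f ∣_ U) := by
    refine IsPullback.of_right (h₁₂ := (b ⁻¹ᵁ U).ι) ?_ ?_ (isPullback_morphismRestrict b U).flip
    · rw [hl]; exact h1
    · rw [← cancel_mono U.ι, Category.assoc, morphismRestrict_ι, reassoc_of% hl, Category.assoc, morphismRestrict_ι,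
        ← Category.assoc (p₁ ∣_ (f ⁻¹ᵁ U)), morphismRestrict_ι, Category.assoc, hpb.w]
  exact MorphismProperty.of_isPullback (P := P) h2 hb

/-- A flat proper morphism which is finite over the interior of an effective Cartier divisor (more
generally over a quasi-compact dense open) is finite. -/
theorem isFinite_of_finite_over_dense {Y T : Scheme.{u}} (g : Y ⟶ T) [IsProper g] [Flat g]
    (V : T.Opens) [QuasiCompact V.ι] (hV : Dense (V : Set T)) [IsFinite (g ∣_ V)] : IsFinite g := by
  haveI : LocallyQuasiFinite g := by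
    rw [locallyQuasiFinite_iff_finite_preimage_singleton]
    intro y
    obtain ⟨A, _, _, _, x, q, hxq, hy⟩ :=
      Groth.Agent.S2121.result V.ι y (by rw [show Set.range V.ι.base = (V : Set T) from V.range_ι]; exact hV y)
    let η := genericPoint (Spec (CommRingCat.of A))
    have hη : q η ∈ V := by
      obtain ⟨a, ha⟩ : η ∈ Set.range (Spec.map (CommRingCat.ofHom (algebraMap A (FractionRing A)))) :=
        ⟨(⊥ : PrimeSpectrum (FractionRing A)), by
          rw [show η = (⊥ : PrimeSpectrum A) from genericPoint_eq_bot_of_affine _]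
          refine PrimeSpectrum.ext ?_
          exact Ideal.comap_bot_of_injective _ (IsFractionRing.injective A (FractionRing A))⟩
      rw [← ha, ← Scheme.Hom.comp_apply, ← hxq, Scheme.Hom.comp_apply]
      exact (x a).2
    have hgen : (pullback.snd g q ⁻¹' {η}).Finite := by
      let W : (Spec (CommRingCat.of A)).Opens := q ⁻¹ᵁ V
      haveI : LocallyQuasiFinite (pullback.snd g q ∣_ W) :=
        restrict_of_isPullback (P := @LocallyQuasiFinite) (IsPullback.of_hasPullback g q).flip
          (inferInstanceAs (LocallyQuasiFinite (g ∣_ V)))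
      haveI : QuasiCompact (pullback.snd g q ∣_ W) := MorphismProperty.of_isPullback (isPullback_morphismRestrict (pullback.snd g q) W).flip inferInstance
      have := (Scheme.Hom.finite_preimage_singleton (pullback.snd g q ∣_ W) ⟨η, hη⟩).image (pullback.snd g q ⁻¹ᵁ W).ι
      refine this.subset fun v hv => ⟨⟨v, show pullback.snd g q v ∈ W by rw [show pullback.snd g q v = η from hv]; exact hη⟩, ?_, rfl⟩
      exact Subtype.ext (by rw [morphismRestrict_base_coe]; exact hv)
    refine ((finite_closed_fibre (pullback.snd g q) hgen).image (pullback.fst g q)).subset fun v hv => ?_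
    obtain ⟨a, ha₁, ha₂⟩ := Scheme.Pullback.exists_preimage_pullback (f := g) (g := q) v
      (IsLocalRing.closedPoint A : Spec (CommRingCat.of A)) (hv.trans hy.symm)
    exact ⟨a, ha₂, ha₁⟩
  exact IsFinite.of_isProper_of_locallyQuasiFinite g

end RGFlatLib
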