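import Groth.Agent.RGFlatLib.StrictBlowUp
import Groth.Agent.RGFlatLib.Compose
import Groth.Agent.RGFlatLib.ExtendWithin
import Groth.Agent.ModPairLib.Colon
import Groth.Agent.RGFlatLib.Finite
import Groth.Agent.S1274

/-!
# Separating closures by admissible blow-ups
-/

set_option autoImplicit false
universe u
open CategoryTheory CategoryTheory.Limits AlgebraicGeometry TopologicalSpace

namespace RGFlatLib

variable {X Y : Scheme.{u}}

/-- An isomorphism over an open is one over any smaller open. -/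
theorem isIso_restrict_of_le (f : X ⟶ Y) {V W : Y.Opens} (h : V ≤ W) (hf : IsIso (f ∣_ W)) : IsIso (f ∣_ V) := by
  haveI := hf
  have h1 : (MorphismProperty.isomorphisms Scheme.{u}) ((f ∣_ W) ∣_ (W.ι ⁻¹ᵁ V)) :=
    inferInstanceAs (IsIso ((f ∣_ W) ∣_ (W.ι ⁻¹ᵁ V)))
  rw [(MorphismProperty.isomorphisms Scheme.{u}).arrow_mk_iso_iff (morphismRestrictRestrict f W (W.ι ⁻¹ᵁ V))] at h1
  have e : W.ι ''ᵁ (W.ι ⁻¹ᵁ V) = V := by
    rw [Scheme.Hom.image_preimage_eq_opensRange_inf, Scheme.Opens.opensRange_ι]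
    exact inf_eq_right.mpr h
  rw [e] at h1
  exact h1

/-- Where the base of a strict transform lifts to the source, the strict transform is the base. -/
theorem isIso_strict_of_lift {Y' X' : Scheme.{u}} {f : X ⟶ Y} [IsSeparated f] {b : Y' ⟶ Y} {K : Y.IdealSheafData}
    (hb : BlowUp.IsBlowUp b K) {p₁ : X' ⟶ X} {p₂ : X' ⟶ Y'} (hpb : IsPullback p₁ p₂ f b)
    {𝒥 : X'.IdealSheafData} (h𝒥 : ∀ (V : X'.affineOpens) (a : Γ(X', V.1)), a ∈ 𝒥.ideal V ↔
      BlowUp.KilledByPowerNear ((K.comap b).comap p₂) (Coh.structureModule X') V a)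
    {W₀ : Y.Opens} (hf : IsIso (f ∣_ W₀)) (W' : Y'.Opens)
    (hW : ∀ w ∈ W', w ∈ ModPair.interior (K.comap b) → b w ∈ W₀)
    (l : (W' : Scheme.{u}) ⟶ X) (hl : l ≫ f = W'.ι ≫ b) :
    IsIso ((𝒥.subschemeι ≫ p₂) ∣_ W') := by
  haveI := quasiCompact_interior (isLocPrincipal_comap hb.1 p₂)
  have he := strictIdeal_eq_ker (isLocPrincipal_comap hb.1 p₂) h𝒥
  let k : (W' : Scheme.{u}) ⟶ X' := hpb.lift l W'.ι hl
  have hE : BlowUp.IsEffCartierIdeal ((K.comap b).comap W'.ι) := BlowUpLib.isEffCartier_comap_of_flat _ hb.1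
  have hdz := ModPairLib.isDominant_interior hE
  have hr : Set.range ((ModPair.interior ((K.comap b).comap W'.ι)).ι ≫ k) ⊆
      Set.range (ModPair.interior ((K.comap b).comap p₂)).ι := by
    rintro _ ⟨w, rfl⟩
    rw [Scheme.Opens.range_ι, SetLike.mem_coe]
    change k w.1 ∈ ModPair.interior ((K.comap b).comap p₂)
    rw [ModPairLib.interior_comap]
    show p₂ (k w.1) ∈ ModPair.interior (K.comap b)
    rw [← Scheme.Hom.comp_apply, hpb.lift_snd]
    exact (ModPairLib.interior_comap _ W'.ι).le w.2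
  have hle : 𝒥.subschemeι.ker ≤ k.ker := calc
    𝒥.subschemeι.ker = (ModPair.interior ((K.comap b).comap p₂)).ι.ker := by
      rw [Scheme.IdealSheafData.ker_subschemeι]; exact he
    _ ≤ (IsOpenImmersion.lift (ModPair.interior ((K.comap b).comap p₂)).ι _ hr ≫
          (ModPair.interior ((K.comap b).comap p₂)).ι).ker := Scheme.Hom.le_ker_comp _ _
    _ = ((ModPair.interior ((K.comap b).comap W'.ι)).ι ≫ k).ker := by rw [IsOpenImmersion.lift_fac]
    _ = k.ker := by rw [Scheme.Hom.ker_comp, hdz.ker_eq_bot, Scheme.IdealSheafData.map_bot]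
  let m : (W' : Scheme.{u}) ⟶ 𝒥.subscheme := IsClosedImmersion.lift 𝒥.subschemeι k hle
  have hm : m ≫ 𝒥.subschemeι = k := IsClosedImmersion.lift_fac _ _ _
  let q := 𝒥.subschemeι ≫ p₂
  have hmq : m ≫ q = W'.ι := by
    show m ≫ 𝒥.subschemeι ≫ p₂ = W'.ι
    rw [reassoc_of% hm, hpb.lift_snd]
  let inv : (W' : Scheme.{u}) ⟶ (q ⁻¹ᵁ W' : 𝒥.subscheme.Opens) := IsOpenImmersion.lift (q ⁻¹ᵁ W').ι m (by
    rintro _ ⟨w, rfl⟩
    rw [Scheme.Opens.range_ι]
    show q (m w) ∈ W'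
    rw [← Scheme.Hom.comp_apply, hmq]
    exact w.2)
  have hinv : inv ≫ (q ⁻¹ᵁ W').ι = m := IsOpenImmersion.lift_fac _ _ _
  have hC : BlowUp.IsEffCartierIdeal ((K.comap b).comap ((q ⁻¹ᵁ W').ι ≫ q)) := by
    rw [Scheme.IdealSheafData.comap_comp]
    exact BlowUpLib.isEffCartier_comap_of_flat _ (strict_basic hb.1 p₂ h𝒥).2
  refine ⟨inv, ?_, ?_⟩
  · rw [← cancel_mono (q ⁻¹ᵁ W').ι, Category.assoc, hinv, Category.id_comp, ← cancel_mono 𝒥.subschemeι,
      Category.assoc, hm]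
    refine hpb.hom_ext ?_ (by rw [Category.assoc, hpb.lift_snd, morphismRestrict_ι, Category.assoc])
    haveI := hf
    have e : ((q ∣_ W') ≫ k ≫ p₁) ≫ f = (((q ⁻¹ᵁ W').ι ≫ 𝒥.subschemeι) ≫ p₁) ≫ f := by
      rw [Category.assoc, Category.assoc, hpb.lift_fst_assoc, hl, morphismRestrict_ι_assoc, Category.assoc,
        Category.assoc, hpb.w]
      simp only [q, Category.assoc]
    rw [Category.assoc]
    refine ModPairLib.ext_of_interior hC f e ?_
    refine ModPairLib.eq_of_isIso_restrict (s := f) (V := W₀) (by simpa only [Category.assoc] using congrArg (_ ≫ ·) e)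
      fun w => ?_
    rw [← Scheme.Hom.comp_apply]
    simp only [Category.assoc]
    rw [hpb.lift_fst_assoc, hl, morphismRestrict_ι_assoc]
    exact hW _ w.1.2 ((ModPairLib.interior_comap (K.comap b) ((q ⁻¹ᵁ W').ι ≫ q)).le w.2)
  · rw [← cancel_mono W'.ι, Category.assoc, morphismRestrict_ι, reassoc_of% hinv, hmq, Category.id_comp]

/-- A closed subset of an open misses a given relatively closed compact set up to a finite type ideal. -/
theorem exists_ft_separating [CompactSpace Y] [QuasiSeparatedSpace Y] (Z : Closeds Y) {T₂ : Set Y}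
    (hT₂ : IsCompact T₂) (hd : Disjoint (Z : Set Y) T₂) :
    ∃ J : Y.IdealSheafData, BlowUp.IsFiniteTypeIdeal J ∧ (Z : Set Y) ⊆ J.support ∧ Disjoint (J.support : Set Y) T₂ := by
  classical
  let I := Scheme.IdealSheafData.vanishingIdeal Z
  have hI : (I.support : Set Y) = Z := Scheme.IdealSheafData.coe_support_vanishingIdeal Z
  have key : ∀ p : T₂, ∃ (K : Y.IdealSheafData), (∀ V, (K.ideal V).FG) ∧ K ≤ I ∧ p.1 ∉ (K.support : Set Y) := by
    intro p
    obtain ⟨O, hO, hpO⟩ := QCohLib.exists_affine_nhd p.1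
    have hp : p.1 ∉ (I.support : Set Y) := hI ▸ fun h => Set.disjoint_left.mp hd h p.2
    rw [SetLike.mem_coe, Scheme.IdealSheafData.mem_support_iff_of_mem (U := ⟨O, hO⟩) hpO, Scheme.mem_zeroLocus_iff] at hp
    push Not at hp
    obtain ⟨a, ha, hpa⟩ := hp
    obtain ⟨K, hK, hKI, hJK⟩ := exists_ft_le I ⟨O, hO⟩ (Ideal.span {a}) (Submodule.fg_span_singleton a)
      ((Ideal.span_singleton_le_iff_mem _).mpr ha)
    refine ⟨K, hK, hKI, fun h => ?_⟩
    rw [SetLike.mem_coe, Scheme.IdealSheafData.mem_support_iff_of_mem (U := ⟨O, hO⟩) hpO, Scheme.mem_zeroLocus_iff] at h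
    exact h a (hJK (Ideal.mem_span_singleton_self a)) hpa
  choose K hK hKI hKp using key
  obtain ⟨t, ht⟩ := hT₂.elim_finite_subcover (fun p : T₂ => ((K p).support : Set Y)ᶜ)
    (fun p => (K p).support.isClosed.isOpen_compl) (fun p hp => Set.mem_iUnion.mpr ⟨⟨p, hp⟩, hKp ⟨p, hp⟩⟩)
  refine ⟨t.sup K, ?_, ?_, Set.disjoint_left.2 fun x hx hxT => ?_⟩
  · clear ht
    induction t using Finset.induction_on with
    | empty => intro V; rw [Finset.sup_empty, Scheme.IdealSheafData.ideal_bot, Pi.bot_apply]; exact Submodule.fg_bot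
    | insert W' s' _ ih' => rw [Finset.sup_insert]; exact ModPairLib.fg_sup (hK W') ih'
  · rw [← hI]
    exact Scheme.IdealSheafData.support_antitone (Finset.sup_le fun p _ => hKI p)
  · obtain ⟨p, hp, hxp⟩ := Set.mem_iUnion₂.mp (ht hxT)
    exact hxp (Scheme.IdealSheafData.support_antitone (Finset.le_sup (f := K) hp) hx)

/-- Blow up so that an open separates the closure of `T` from the closure of `V` minus `W₀`. -/
theorem exists_separating [CompactSpace Y] [QuasiSeparatedSpace Y] (V : Y.Opens) (hV : IsCompact (V : Set Y))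
    (T : Set Y) (hTV : T ⊆ V) (hT : IsClosed (Subtype.val ⁻¹' T : Set V)) {W : Y.Opens} (hTW : T ⊆ W) :
    ∃ (K : Y.IdealSheafData) (Y' : Scheme.{u}) (b : Y' ⟶ Y) (O : Y'.Opens), BlowUp.IsBlowUp b K ∧
      BlowUp.IsAdmissibleFor V K ∧ IsCompact (O : Set Y') ∧ closure (b ⁻¹' T) ⊆ O ∧
      (O ⊓ b ⁻¹ᵁ V) ≤ b ⁻¹ᵁ W := by
  classical
  -- a quasi-compact open between
  have hTc : IsCompact T := by
    haveI : CompactSpace V := isCompact_iff_compactSpace.mp hV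
    have := (hT.isCompact).image continuous_subtype_val
    refine (congrArg IsCompact (Set.ext fun x => ?_)).mp this
    exact ⟨by rintro ⟨y, hy, rfl⟩; exact hy, fun hx => ⟨⟨x, hTV hx⟩, hx, rfl⟩⟩
  have exists_between : ∀ {Z : Scheme.{u}} (C : Set Z) (_ : IsCompact C) (O : Z.Opens) (_ : C ⊆ O),
      ∃ O' : Z.Opens, IsCompact (O' : Set Z) ∧ C ⊆ O' ∧ O' ≤ O := by
    intro Z C hC O hCO
    choose A hA hxA hAO using fun p : C => exists_isAffineOpen_mem_and_subset (x := p.1) (U := O) (hCO p.2)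
    obtain ⟨t, ht⟩ := hC.elim_finite_subcover (fun p => ((A p : Z.Opens) : Set Z)) (fun p => (A p).isOpen)
      (fun p hp => Set.mem_iUnion.mpr ⟨⟨p, hp⟩, hxA ⟨p, hp⟩⟩)
    refine ⟨t.sup A, ?_, fun p hp => ?_, Finset.sup_le fun p _ => hAO p⟩
    · rw [show ((t.sup A : Z.Opens) : Set Z) = ⋃ p ∈ t, (A p : Set Z) by
        rw [Finset.sup_eq_iSup]; simp]
      exact t.finite_toSet.isCompact_biUnion fun p _ => (hA p).isCompact
    · obtain ⟨q, hq, hpq⟩ := Set.mem_iUnion₂.mp (ht hp)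
      exact Finset.le_sup (f := A) hq hpq
  obtain ⟨W₀, hW₀c, hTW₀, hW₀W⟩ := exists_between T hTc (W ⊓ V) fun p hp => ⟨hTW hp, hTV hp⟩
  -- a finite type neighbourhood of `T` missing `V` minus `W₀`
  have hT₂c : IsCompact ((V : Set Y) \ W₀) := hV.diff W₀.isOpen
  let Z : Closeds Y := ⟨closure T, isClosed_closure⟩
  have hZV : ∀ x ∈ closure T, x ∈ V → x ∈ T := by
    intro x hx hxV
    have h1 : (⟨x, hxV⟩ : V) ∈ closure (Subtype.val ⁻¹' T : Set V) := by
      refine closure_subtype.mpr (closure_mono (fun y hy => ?_) hx)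
      exact ⟨⟨y, hTV hy⟩, hy, rfl⟩
    rw [hT.closure_eq] at h1
    exact h1
  obtain ⟨J, hJ, hZJ, hJd⟩ := exists_ft_separating Z hT₂c
    (Set.disjoint_left.2 fun x hx hx2 => hx2.2 (hTW₀ (hZV x hx hx2.1)))
  have hcompl : IsCompact ((J.support : Set Y)ᶜ) :=
    MiscFlat6.isCompact_of_finiteType_idealSheaf ⟨_, J.support.isClosed.isOpen_compl⟩ J hJ (compl_compl _).symm
  let O₁ : Y.Opens := ⟨(J.support : Set Y)ᶜ, J.support.isClosed.isOpen_compl⟩ ⊓ V
  have hO₁ : IsCompact (O₁ : Set Y) :=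
    QuasiSeparatedSpace.inter_isCompact _ _ J.support.isClosed.isOpen_compl hcompl V.isOpen hV
  obtain ⟨J₁, hJ₁, hs₁⟩ := MiscFlat6.exists_finiteType_idealSheaf O₁ hO₁
  obtain ⟨J₂, hJ₂, hs₂⟩ := MiscFlat6.exists_finiteType_idealSheaf W₀ hW₀c
  have hadm : BlowUp.IsAdmissibleFor V (J₁ ⊔ J₂) := by
    refine ⟨ModPairLib.fg_sup hJ₁ hJ₂, Set.disjoint_left.2 fun x hx hxV => ?_⟩
    have a₁ := hs₁.le (Scheme.IdealSheafData.support_antitone (le_sup_left : J₁ ≤ J₁ ⊔ J₂) hx)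
    have a₂ := hs₂.le (Scheme.IdealSheafData.support_antitone (le_sup_right : J₂ ≤ J₁ ⊔ J₂) hx)
    exact a₁ ⟨fun hJx => Set.disjoint_left.mp hJd hJx ⟨hxV, a₂⟩, hxV⟩
  obtain ⟨Y', b, hb⟩ := BlowUpLib.exists_isBlowUp Y (J₁ ⊔ J₂)
  obtain ⟨M₁, hM₁⟩ := ModPairLib.exists_mul_eq hb.1 (J := J₁.comap b) (Scheme.IdealSheafData.comap_mono b le_sup_left)
  obtain ⟨M₂, hM₂⟩ := ModPairLib.exists_mul_eq hb.1 (J := J₂.comap b) (Scheme.IdealSheafData.comap_mono b le_sup_right)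
  have hmem : ∀ (M : Y'.IdealSheafData) (Ji : Y.IdealSheafData), M * (J₁ ⊔ J₂).comap b = Ji.comap b →
      ∀ x, b x ∈ (Ji.support : Set Y) → b x ∈ V → x ∈ (M.support : Set Y') := by
    intro M Ji hM x hx hxV
    have h : x ∈ ((Ji.comap b).support : Set Y') := by rw [Scheme.IdealSheafData.support_comap]; exact hx
    rw [← hM, Scheme.IdealSheafData.support_mul] at h
    refine h.resolve_right fun h' => ?_
    rw [SetLike.mem_coe, ← SetLike.mem_coe, Scheme.IdealSheafData.support_comap] at h'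
    exact Set.disjoint_left.mp hadm.2 h' hxV
  have htop : M₁ ⊔ M₂ = ⊤ := by
    refine ModPairLib.mul_cancel hb.1 ?_
    refine Scheme.IdealSheafData.ext (funext fun O => ?_)
    have e₁ := congrArg (fun K : Y'.IdealSheafData => K.ideal O) hM₁
    have e₂ := congrArg (fun K : Y'.IdealSheafData => K.ideal O) hM₂
    simp only [Scheme.IdealSheafData.ideal_mul, Pi.mul_apply] at e₁ e₂
    simp only [Scheme.IdealSheafData.ideal_mul, Pi.mul_apply, Scheme.IdealSheafData.ideal_sup, Pi.sup_apply,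
      Scheme.IdealSheafData.ideal_top, Pi.top_apply, Ideal.top_mul, Ideal.sup_mul]
    rw [e₁, e₂, Scheme.IdealSheafData.comap_sup, Scheme.IdealSheafData.ideal_sup, Pi.sup_apply]
  haveI := BlowUpLib.isProper_of_isBlowUp hb hadm.1
  haveI : CompactSpace Y' := QuasiCompact.compactSpace_of_compactSpace b
  have hsub : closure (b ⁻¹' T) ⊆ (M₂.support : Set Y')ᶜ := by
    refine fun x hx hx₂ => ?_
    have hx₁ : x ∈ (M₁.support : Set Y') := closure_minimal (fun y hy => hmem M₁ J₁ hM₁ y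
      (hs₁.ge fun hO => hO.1 (hZJ (subset_closure hy))) (hTV hy)) M₁.support.isClosed hx
    obtain ⟨A, hA, hxA⟩ := QCohLib.exists_affine_nhd x
    rw [SetLike.mem_coe, Scheme.IdealSheafData.mem_support_iff_of_mem (U := ⟨A, hA⟩) hxA, Scheme.mem_zeroLocus_iff] at hx₁ hx₂
    have h1 : (1 : Γ(Y', A)) ∈ M₁.ideal ⟨A, hA⟩ ⊔ M₂.ideal ⟨A, hA⟩ := by
      have := congrArg (fun K : Y'.IdealSheafData => K.ideal ⟨A, hA⟩) htop
      simp only [Scheme.IdealSheafData.ideal_sup, Pi.sup_apply, Scheme.IdealSheafData.ideal_top, Pi.top_apply] at this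
      rw [this]; exact Submodule.mem_top
    obtain ⟨f₁, hf₁, f₂, hf₂, h12⟩ := Submodule.mem_sup.mp h1
    have := congrArg (Y'.presheaf.germ A x hxA) h12
    rw [map_add, map_one] at this
    rcases IsLocalRing.isUnit_or_isUnit_of_isUnit_add (this ▸ isUnit_one) with h | h
    · exact hx₁ f₁ hf₁ ((Y'.toRingedSpace.mem_basicOpen _ x hxA).mpr h)
    · exact hx₂ f₂ hf₂ ((Y'.toRingedSpace.mem_basicOpen _ x hxA).mpr h)
  obtain ⟨O, hOc, hTO, hOle⟩ := exists_between _ isClosed_closure.isCompact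
    ⟨(M₂.support : Set Y')ᶜ, M₂.support.isClosed.isOpen_compl⟩ hsub
  refine ⟨_, Y', b, O, hb, hadm, hOc, hTO, fun x hx => ?_⟩
  by_contra hxW
  exact hOle hx.1 (hmem M₂ J₂ hM₂ x (hs₂.ge fun h => hxW (hW₀W h).1) hx.2)

/-- Making a proper morphism an isomorphism near the closure of a set over which it is one. -/
theorem exists_iso_near_closure [CompactSpace Y] [QuasiSeparatedSpace Y] (f : X ⟶ Y) [IsProper f]
    (V : Y.Opens) (hV : IsCompact (V : Set Y)) (T : Set Y) (hTV : T ⊆ V)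
    (hT : IsClosed (Subtype.val ⁻¹' T : Set V)) {W : Y.Opens} (hTW : T ⊆ W) (hiso : IsIso (f ∣_ W)) :
    ∃ (K : Y.IdealSheafData) (Y' : Scheme.{u}) (b : Y' ⟶ Y), BlowUp.IsBlowUp b K ∧ BlowUp.IsAdmissibleFor V K ∧
      ∀ (X' : Scheme.{u}) (p₁ : X' ⟶ X) (p₂ : X' ⟶ Y'), IsPullback p₁ p₂ f b →
      ∀ (𝒥 : X'.IdealSheafData), (∀ (A : X'.affineOpens) (a : Γ(X', A.1)), a ∈ 𝒥.ideal A ↔
          BlowUp.KilledByPowerNear ((K.comap b).comap p₂) (Coh.structureModule X') A a) →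
        ∃ W' : Y'.Opens, closure (b ⁻¹' T) ⊆ W' ∧ IsIso ((𝒥.subschemeι ≫ p₂) ∣_ W') := by
  obtain ⟨K₁, Y₁, b₁, O, hb₁, ha₁, hOc, hTO, hOV⟩ := exists_separating V hV T hTV hT hTW
  haveI := BlowUpLib.isProper_of_isBlowUp hb₁ ha₁.1
  haveI : CompactSpace Y₁ := QuasiCompact.compactSpace_of_compactSpace b₁
  haveI : QuasiSeparatedSpace Y₁ := quasiSeparatedSpace_of_quasiSeparated b₁
  haveI : CompactSpace (O : Scheme.{u}) := isCompact_iff_compactSpace.mp hOc
  haveI : QuasiSeparatedSpace (O : Scheme.{u}) := quasiSeparatedSpace_of_quasiSeparated O.ι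
  let U' : (O : Scheme.{u}).Opens := O.ι ⁻¹ᵁ b₁ ⁻¹ᵁ V
  have hU' : IsCompact (U' : Set (O : Scheme.{u})) := by
    rw [O.ι.isOpenEmbedding.isCompact_iff]
    show IsCompact (O.ι '' (O.ι ⁻¹' (b₁ ⁻¹' V)))
    rw [Set.image_preimage_eq_inter_range, Scheme.Opens.range_ι]
    exact QuasiSeparatedSpace.inter_isCompact _ _ (b₁ ⁻¹ᵁ V).isOpen (b₁.isCompact_preimage hV) O.isOpen hOc
  let r := pullback.snd f b₁
  have hr : IsIso (r ∣_ (b₁ ⁻¹ᵁ W)) :=
    restrict_of_isPullback (P := MorphismProperty.isomorphisms Scheme.{u}) (IsPullback.of_hasPullback f b₁).flip hiso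
  haveI : IsIso ((r ∣_ O) ∣_ U') := by
    have h0 : IsIso (r ∣_ (O.ι ''ᵁ U')) := by
      refine isIso_restrict_of_le r ?_ hr
      rw [Scheme.Hom.image_preimage_eq_opensRange_inf, Scheme.Opens.opensRange_ι]
      exact hOV
    exact ((MorphismProperty.isomorphisms Scheme.{u}).arrow_mk_iso_iff (morphismRestrictRestrict r O U')).mpr h0
  obtain ⟨C, O₂, c₀, hc₀, hC, h, hh⟩ := Groth.Agent.S1274.result (r ∣_ O) U' hU'
  obtain ⟨D, hD, hDC⟩ := exists_extend_ideal_global (b₁ ⁻¹ᵁ V) (b₁.isCompact_preimage hV) O hOc C hC.1 hC.2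
  obtain ⟨Y₂, c, hc⟩ := BlowUpLib.exists_isBlowUp Y₁ D
  have hcO : BlowUp.IsBlowUp (c ∣_ O) C :=
    hDC ▸ BlowUpLib.isBlowUp_of_isPullback (isPullback_morphismRestrict c O).flip hc
  obtain ⟨e, he, -⟩ := hc₀.2 _ (c ∣_ O) hcO.1
  obtain ⟨K₂, hK₂, hb₂⟩ := exists_admissible_comp hb₁ ha₁ hc hD
  obtain ⟨L, -, hKadm, hint⟩ := exists_exact_mul hV hK₂
  rw [mul_comm] at hKadm hint
  obtain ⟨Y', b, hb⟩ := BlowUpLib.exists_isBlowUp Y (L * K₂)
  obtain ⟨g, hg, -⟩ := exists_factor hb₂ hb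
  refine ⟨_, Y', b, hb, hKadm, fun X' p₁ p₂ hpb 𝒥 h𝒥 => ⟨(g ≫ c) ⁻¹ᵁ O, ?_, ?_⟩⟩
  · refine (closure_minimal (fun y hy => ?_) (isClosed_closure.preimage (g ≫ c).continuous)).trans
      (Set.preimage_mono hTO)
    refine subset_closure (show b₁ ((g ≫ c) y) ∈ T from ?_)
    rw [← Scheme.Hom.comp_apply, Category.assoc, hg]
    exact hy
  · refine isIso_strict_of_lift hb hpb h𝒥 hiso ((g ≫ c) ⁻¹ᵁ O) (fun w hw hwint => ?_)
      ((g ∣_ (c ⁻¹ᵁ O)) ≫ e ≫ h ≫ (r ⁻¹ᵁ O).ι ≫ pullback.fst f b₁) ?_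
    · rw [ModPairLib.interior_comap, hint] at hwint
      have h1 : b₁ ((g ≫ c) w) ∈ V := by
        rw [← Scheme.Hom.comp_apply, Category.assoc, hg]; exact hwint
      have h2 := hOV (show (g ≫ c) w ∈ O ⊓ b₁ ⁻¹ᵁ V from ⟨hw, h1⟩)
      show b w ∈ W
      rw [← hg]
      exact h2
    · simp only [Category.assoc, pullback.condition]
      rw [← morphismRestrict_ι_assoc r O, reassoc_of% hh, reassoc_of% he, morphismRestrict_ι_assoc]
      erw [morphismRestrict_ι_assoc]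
      rw [hg]
      rfl

end RGFlatLib
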