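import Groth.Agent.RGFlatLib.ExtendWithin
import Groth.Agent.RGFlatLib.Dominate

/-!
# Ideals on a blow-up come from the base up to powers of the exceptional divisor
-/

set_option autoImplicit false
universe u
open CategoryTheory CategoryTheory.Limits AlgebraicGeometry TopologicalSpace

namespace RGFlatLib

variable {X X' : Scheme.{u}} {b : X' ⟶ X} {𝓘 : X.IdealSheafData}

/-- A standard chart, seen as an affine open of the blow-up. -/
theorem exists_chart_open (hb : BlowUp.IsBlowUp b 𝓘) (W : X.affineOpens) (x' : X') (hx : b x' ∈ W.1) :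
    ∃ (a : Γ(X, W.1)) (_ : a ∈ 𝓘.ideal W) (D : X'.affineOpens) (e : D.1 ≤ b ⁻¹ᵁ W.1), x' ∈ D.1 ∧
      b.appLE W.1 D.1 e a ∈ nonZeroDivisors Γ(X', D.1) ∧
      (𝓘.comap b).ideal D = Ideal.span {b.appLE W.1 D.1 e a} ∧
      (∀ z : Γ(X', D.1), ∃ (m : ℕ) (f : Γ(X, W.1)), b.appLE W.1 D.1 e a ^ m * z = b.appLE W.1 D.1 e f) ∧
      ∀ (V : X'.affineOpens) (eV : V.1 ≤ b ⁻¹ᵁ W.1), b.appLE W.1 V.1 eV a ∈ nonZeroDivisors Γ(X', V.1) →
        (𝓘.comap b).ideal V = Ideal.span {b.appLE W.1 V.1 eV a} → V.1 ≤ D.1 := by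
  obtain ⟨a, ha, c, hco, hxc, hc⟩ := BlowUpLib.exists_chart hb W x' hx
  haveI := hco
  let D : X'.affineOpens := ⟨c.opensRange, isAffineOpen_opensRange c⟩
  let α : Γ(X, W.1) →+* BlowUp.affineAlgebra Γ(X, W.1) (𝓘.ideal W) a := algebraMap _ _
  have e : D.1 ≤ b ⁻¹ᵁ W.1 := by
    rintro _ ⟨q, rfl⟩
    show b (c q) ∈ W.1
    rw [← Scheme.Hom.comp_apply, hc, Scheme.Hom.comp_apply, ← SetLike.mem_coe, ← W.2.range_fromSpec]
    exact ⟨_, rfl⟩
  obtain ⟨θ, hθ⟩ : ∃ θ : Γ(X', D.1) ≅ CommRingCat.of (BlowUp.affineAlgebra Γ(X, W.1) (𝓘.ideal W) a),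
      b.appLE W.1 D.1 e ≫ θ.hom = CommRingCat.ofHom α := by
    haveI : IsIso (c.app c.opensRange) := Scheme.Hom.isIso_app _ _ le_rfl
    have htop : (⊤ : (Spec (CommRingCat.of (BlowUp.affineAlgebra Γ(X, W.1) (𝓘.ideal W) a))).Opens) ≤ c ⁻¹ᵁ D.1 :=
      fun q _ => ⟨q, rfl⟩
    haveI : IsIso (c.appLE D.1 ⊤ htop) := by
      rw [Scheme.Hom.appLE]
      haveI : IsIso (homOfLE htop).op := by
        have : c ⁻¹ᵁ D.1 = ⊤ := top_le_iff.mp htop
        exact ⟨(homOfLE (this.le)).op, Subsingleton.elim _ _, Subsingleton.elim _ _⟩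
      infer_instance
    refine ⟨asIso (c.appLE D.1 ⊤ htop) ≪≫ Scheme.ΓSpecIso _, ?_⟩
    have h1 : W.2.fromSpec.appLE W.1 ⊤ (fun q _ => by
        show W.2.fromSpec q ∈ W.1
        rw [← SetLike.mem_coe, ← W.2.range_fromSpec]; exact ⟨q, rfl⟩) = (Scheme.ΓSpecIso Γ(X, W.1)).inv := by
      rw [Scheme.Hom.appLE, W.2.fromSpec_app_self, Category.assoc, ← Functor.map_comp,
        Subsingleton.elim (_ ≫ _) (𝟙 _)]
      simp
    simp only [Iso.trans_hom, asIso_hom, Scheme.Hom.appLE_comp_appLE_assoc]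
    simp only [hc]
    rw [← Scheme.Hom.appLE_comp_appLE_assoc (Spec.map _) W.2.fromSpec W.1 ⊤ ⊤ (fun q _ => by
        show W.2.fromSpec q ∈ W.1
        rw [← SetLike.mem_coe, ← W.2.range_fromSpec]; exact ⟨q, rfl⟩) (by simp), h1]
    erw [Scheme.Hom.appLE_eq_app, Scheme.ΓSpecIso_naturality, Iso.inv_hom_id_assoc]
  have hinj : Function.Injective θ.hom := (ConcreteCategory.bijective_of_isIso θ.hom).1
  have hθ' : ∀ x, θ.hom (b.appLE W.1 D.1 e x) = α x := fun x => congr($hθ x)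
  have hchart := BlowUpLib.isChart_affineAlgebra (I := 𝓘.ideal W) ha
  have hEid : ∀ (V : X'.affineOpens) (eV : V.1 ≤ b ⁻¹ᵁ W.1),
      (𝓘.comap b).ideal V = (𝓘.ideal W).map (b.appLE W.1 V.1 eV).hom :=
    fun V eV => Groth.Agent.S4666.ideal_comap_eq _ b W V eV
  refine ⟨a, ha, D, e, hxc, ?_, ?_, fun z => ?_, fun V eV hnzd hspan => ?_⟩
  · refine mem_nonZeroDivisors_iff_right.mpr fun z hz => hinj ?_
    rw [map_zero]
    refine mem_nonZeroDivisors_iff_right.mp hchart.nzd _ ?_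
    rw [← map_zero θ.hom.hom, ← hz, map_mul, hθ']
  · rw [hEid D e]
    have hbij : Function.Bijective θ.hom.hom := ConcreteCategory.bijective_of_isIso θ.hom
    rw [← Ideal.comap_map_of_bijective θ.hom.hom hbij (I := Ideal.map _ _),
      ← Ideal.comap_map_of_bijective θ.hom.hom hbij (I := Ideal.span _)]
    congr 1
    rw [Ideal.map_map, Ideal.map_span, Set.image_singleton]
    rw [show θ.hom.hom.comp (b.appLE W.1 D.1 e).hom = α from congrArg CommRingCat.Hom.hom hθ]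
    exact hchart.span.trans (by rw [hθ'])
  · obtain ⟨⟨f, _, m, rfl⟩, hm⟩ := IsLocalization.surj (Submonoid.powers a) (θ.hom z).1
    refine ⟨m, f, hinj ?_⟩
    rw [map_mul, map_pow, hθ', hθ']
    refine Subtype.ext ?_
    show (algebraMap Γ(X, W.1) (Localization.Away a) a) ^ m * (θ.hom z).1 = algebraMap Γ(X, W.1) (Localization.Away a) f
    rw [mul_comm, ← map_pow]
    exact hm
  · obtain ⟨ψ, hψ, -⟩ := hchart.lift _ (b.appLE W.1 V.1 eV).hom hnzd (by rw [← hEid V eV]; exact hspan)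
    have hk : Spec.map (CommRingCat.ofHom ψ) ≫ c = V.2.fromSpec := by
      refine BlowUpLib.hom_ext hb (V.2.fromSpec ≫ b) ?_ ?_ rfl
      · rw [Scheme.IdealSheafData.comap_comp]
        exact BlowUpLib.isEffCartier_comap_of_flat _ hb.1
      · rw [Category.assoc, hc, ← Spec.map_comp_assoc, ← CommRingCat.ofHom_comp, hψ, CommRingCat.ofHom_hom,
          IsAffineOpen.SpecMap_appLE_fromSpec b W.2 V.2 eV]
    intro v hv
    rw [← SetLike.mem_coe, ← V.2.range_fromSpec] at hv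
    obtain ⟨q, rfl⟩ := hv
    exact ⟨_, congr($hk q)⟩

/-- Sections on the base vanishing in an ideal on each member of a cover lie in its direct image. -/
theorem le_map_ideal [QuasiCompact b] (G : X'.IdealSheafData) (W : X.affineOpens) (J : Ideal Γ(X, W.1))
    (H : ∀ x' : X', b x' ∈ W.1 → ∃ (D : X'.affineOpens) (e : D.1 ≤ b ⁻¹ᵁ W.1), x' ∈ D.1 ∧
      J.map (b.appLE W.1 D.1 e).hom ≤ G.ideal D) :
    J ≤ (G.map b).ideal W := by
  intro x hx
  rw [Scheme.IdealSheafData.map, Scheme.Hom.ker_apply, RingHom.mem_ker, Scheme.Hom.comp_app]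
  refine TopCat.Presheaf.section_ext (C := CommRingCat) G.subscheme.sheaf _ _ _ fun y hy => ?_
  obtain ⟨D, e, hyD, hle⟩ := H (G.subschemeι y) hy
  have h1 : b.appLE W.1 D.1 e x ∈ G.subschemeι.ker.ideal D := by
    rw [Scheme.IdealSheafData.ker_subschemeι]
    exact hle (Ideal.mem_map_of_mem _ hx)
  rw [Scheme.Hom.ker_apply, RingHom.mem_ker] at h1
  have e' : G.subschemeι ⁻¹ᵁ D.1 ≤ G.subschemeι ⁻¹ᵁ (b ⁻¹ᵁ W.1) := fun z hz => e hz
  have h2 : (G.subscheme.presheaf.map (homOfLE e').op) ((G.subschemeι.app (b ⁻¹ᵁ W.1)) (b.app W.1 x)) = 0 := by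
    rw [← h1, Scheme.Hom.appLE]
    have := congr($(G.subschemeι.naturality (homOfLE e).op) (b.app W.1 x))
    exact this.symm
  refine Eq.trans ?_ (map_zero _).symm
  refine (TopCat.Presheaf.germ_res_apply G.subscheme.presheaf (homOfLE e') y hyD _).symm.trans ?_
  exact (congrArg _ h2).trans (map_zero _)

/-- Over an affine open of the base, an ideal of finite type times a large power of the exceptional
divisor is generated by sections on the base. -/
theorem exists_gens (hb : BlowUp.IsBlowUp b 𝓘) [QuasiCompact b] (G : X'.IdealSheafData)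
    (hG : BlowUp.IsFiniteTypeIdeal G) (W : X.affineOpens) :
    ∃ N₀, ∀ N, N₀ ≤ N → ∃ J : Ideal Γ(X, W.1), J.FG ∧ ∀ x' : X', b x' ∈ W.1 →
      ∃ (D : X'.affineOpens) (e : D.1 ≤ b ⁻¹ᵁ W.1), x' ∈ D.1 ∧
        J.map (b.appLE W.1 D.1 e).hom = ((𝓘.comap b) ^ N * G).ideal D := by
  classical
  let P := {x' : X' // b x' ∈ W.1}
  choose a haI D e hxD hnzd hspan hfrac hlift using fun p : P => exists_chart_open hb W p.1 p.2
  obtain ⟨t, ht⟩ := (b.isCompact_preimage W.2.isCompact).elim_finite_subcover (fun p : P => ((D p).1 : Set X'))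
    (fun p => (D p).1.isOpen) fun x hx => Set.mem_iUnion.mpr ⟨⟨x, hx⟩, hxD _⟩
  let φ := fun p : P => (b.appLE W.1 (D p).1 (e p)).hom
  choose g hg using fun p : P => hG (D p)
  choose m f hf using fun (p : P) (z : {z // z ∈ g p}) => hfrac p z.1
  have key : ∀ (i : Σ p : t, {z // z ∈ g p.1}) (j : t), ∃ K₀, ∀ N, K₀ ≤ N →
      φ j.1 (a i.1.1 ^ (N - m i.1.1 i.2) * f i.1.1 i.2) ∈ Ideal.span {φ j.1 (a j.1) ^ N} * G.ideal (D j.1) := by
    rintro ⟨⟨p, hp⟩, z⟩ ⟨q, hq⟩
    dsimp only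
    have hmem : φ q (a p) ∈ (𝓘.comap b).ideal (D q) := by
      rw [Groth.Agent.S4666.ideal_comap_eq _ b W (D q) (e q)]
      exact Ideal.mem_map_of_mem _ (haI p)
    rw [hspan q] at hmem
    obtain ⟨u, hu⟩ := Ideal.mem_span_singleton.mp hmem
    have hVaff : IsAffineOpen (X'.basicOpen u) := (D q).2.basicOpen u
    let r := (X'.presheaf.map (homOfLE (X'.basicOpen_le u)).op).hom
    letI := r.toAlgebra
    haveI : IsLocalization.Away u Γ(X', X'.basicOpen u) := (D q).2.isLocalization_basicOpen u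
    have hru : IsUnit (r u) := IsLocalization.Away.algebraMap_isUnit u
    have eV : X'.basicOpen u ≤ b ⁻¹ᵁ W.1 := (X'.basicOpen_le u).trans (e q)
    have hres : ∀ x, r (φ q x) = b.appLE W.1 (X'.basicOpen u) eV x := fun x =>
      congr($(Scheme.Hom.appLE_map b (e q) (homOfLE (X'.basicOpen_le u)).op) x)
    have hVp : X'.basicOpen u ≤ (D p).1 := by
      refine hlift p ⟨_, hVaff⟩ eV ?_ ?_
      · show b.appLE W.1 (X'.basicOpen u) eV (a p) ∈ nonZeroDivisors Γ(X', X'.basicOpen u)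
        rw [← hres, show φ q (a p) = _ from hu, map_mul]
        exact mul_mem (IsLocalization.map_nonZeroDivisors_le (Submonoid.powers u) _
          (Submonoid.mem_map_of_mem _ (hnzd q))) hru.mem_nonZeroDivisors
      · rw [show (𝓘.comap b).ideal ⟨_, hVaff⟩ = ((𝓘.comap b).ideal (D q)).map r from
          ((𝓘.comap b).map_ideal_basicOpen (D q) u).symm, hspan q, Ideal.map_span, Set.image_singleton]
        show Ideal.span {r (φ q (a q))} = Ideal.span {b.appLE W.1 (X'.basicOpen u) eV (a p)}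
        rw [← hres, show φ q (a p) = _ from hu, map_mul]
        exact (Ideal.span_singleton_mul_right_unit hru _).symm
    let r' := (X'.presheaf.map (homOfLE hVp).op).hom
    have hres' : ∀ x, r' (φ p x) = r (φ q x) := fun x =>
      (congr($(Scheme.Hom.appLE_map b (e p) (homOfLE hVp).op) x)).trans (hres x).symm
    have hzV : r' z.1 ∈ (G.ideal (D q)).map r := by
      rw [show (G.ideal (D q)).map r = G.ideal ⟨_, hVaff⟩ from G.map_ideal_basicOpen (D q) u,
        ← G.map_ideal (U := ⟨_, hVaff⟩) (V := D p) hVp]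
      exact Ideal.mem_map_of_mem _ (hg p ▸ Ideal.subset_span z.2)
    obtain ⟨⟨⟨j, hj⟩, ⟨_, k, rfl⟩⟩, hjk⟩ := (IsLocalization.mem_map_algebraMap_iff (Submonoid.powers u) _).mp hzV
    set tq := φ q (a q)
    set M := m p z
    set F := φ q (f p z)
    have hjk' : r j = r' z.1 * r u ^ k := by rw [← map_pow]; exact hjk.symm
    have hF : r F = r (φ q (a p)) ^ M * r' z.1 := by
      rw [show r F = r' (φ p (f p z)) from (hres' _).symm, ← hres']
      simp only [φ]
      rw [← hf p z, map_mul, map_pow]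
    have hzero : algebraMap Γ(X', (D q).1) Γ(X', X'.basicOpen u) (u ^ k * F - tq ^ M * u ^ M * j) = 0 := by
      show r _ = 0
      rw [map_sub, map_mul, map_mul, map_mul, map_pow, map_pow, map_pow, hF, hjk',
        show φ q (a p) = tq * u from hu, map_mul]
      ring
    obtain ⟨⟨_, l, rfl⟩, hl⟩ := (IsLocalization.map_eq_zero_iff (Submonoid.powers u) _ _).mp hzero
    refine ⟨M + k + l, fun N hN => ?_⟩
    obtain ⟨d, rfl⟩ := Nat.exists_eq_add_of_le hN
    rw [map_mul, map_pow, show φ q (a p) = tq * u from hu, show M + k + l + d - M = k + l + d by omega]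
    have h3 : (tq * u) ^ (k + l + d) * F = tq ^ (M + k + l + d) * (u ^ (d + l + M) * j) := by
      linear_combination (tq ^ (k + l + d) * u ^ d) * hl
    rw [h3]
    exact Ideal.mul_mem_mul (Ideal.mem_span_singleton_self _) (Ideal.mul_mem_left _ _ hj)
  choose K₀ hK₀ using key
  let ι₀ := Σ p : t, {z // z ∈ g p.1}
  refine ⟨(Finset.univ : Finset (ι₀ × t)).sup (fun ij => K₀ ij.1 ij.2) +
    (Finset.univ : Finset ι₀).sup (fun i => m i.1.1 i.2), fun N hN => ?_⟩
  let x : ι₀ → Γ(X, W.1) := fun i => a i.1.1 ^ (N - m i.1.1 i.2) * f i.1.1 i.2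
  refine ⟨Ideal.span (Set.range x), Submodule.fg_span (Set.finite_range x), fun x' hx' => ?_⟩
  obtain ⟨q, hq, hxq⟩ := Set.mem_iUnion₂.mp (ht (show x' ∈ b ⁻¹' W.1 from hx'))
  refine ⟨D q, e q, hxq, ?_⟩
  rw [Scheme.IdealSheafData.ideal_mul, Pi.mul_apply, Scheme.IdealSheafData.ideal_pow, Pi.pow_apply, hspan q,
    Ideal.span_singleton_pow, Ideal.map_span, ← Set.range_comp]
  refine le_antisymm (Ideal.span_le.mpr ?_) ?_
  · rintro _ ⟨i, rfl⟩
    refine hK₀ i ⟨q, hq⟩ N (le_trans ?_ (le_trans (Nat.le_add_right _ _) hN))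
    exact Finset.le_sup (f := fun ij : ι₀ × t => K₀ ij.1 ij.2) (Finset.mem_univ (i, ⟨q, hq⟩))
  · rw [← hg q, Ideal.span_mul_span', Ideal.span_le]
    rintro _ ⟨_, rfl, z, hz, rfl⟩
    refine Ideal.subset_span ⟨⟨⟨q, hq⟩, ⟨z, hz⟩⟩, ?_⟩
    have hm : m q ⟨z, hz⟩ ≤ N := le_trans (Finset.le_sup (f := fun i : ι₀ => m i.1.1 i.2)
      (Finset.mem_univ (⟨⟨q, hq⟩, ⟨z, hz⟩⟩ : ι₀))) (le_trans (Nat.le_add_left _ _) hN)
    show φ q (a q ^ (N - m q ⟨z, hz⟩) * f q ⟨z, hz⟩) = φ q (a q) ^ N * z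
    rw [map_mul, map_pow, show φ q (f q ⟨z, hz⟩) = _ from (hf q ⟨z, hz⟩).symm, ← mul_assoc]
    congr 1
    exact (pow_add _ _ _).symm.trans (congrArg _ (Nat.sub_add_cancel hm))

/-- An ideal of finite type on a blow-up is, up to a power of the exceptional divisor, pulled back
from an ideal of finite type on the base. -/
theorem exists_descend [CompactSpace X] [QuasiSeparatedSpace X] (hb : BlowUp.IsBlowUp b 𝓘)
    (h𝓘 : BlowUp.IsFiniteTypeIdeal 𝓘) (G : X'.IdealSheafData) (hG : BlowUp.IsFiniteTypeIdeal G) :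
    ∃ (N : ℕ) (K : X.IdealSheafData), BlowUp.IsFiniteTypeIdeal K ∧ K.comap b = (𝓘.comap b) ^ N * G := by
  classical
  haveI := BlowUpLib.isProper_of_isBlowUp hb h𝓘
  choose N₀ hN₀ using fun W : X.affineOpens => exists_gens hb G hG W
  obtain ⟨t, ht⟩ : ∃ t : Finset X.affineOpens, (Set.univ : Set X) ⊆ ⋃ V ∈ t, (V.1 : Set X) :=
    isCompact_univ.elim_finite_subcover (fun V : X.affineOpens => (V.1 : Set X))
      (fun V => V.1.isOpen) (fun p _ => by
        obtain ⟨V, hV, hp⟩ := QCohLib.exists_affine_nhd p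
        exact Set.mem_iUnion.mpr ⟨⟨V, hV⟩, hp⟩)
  let N := t.sup N₀
  let H := (𝓘.comap b) ^ N * G
  choose J hJfg hJ using fun W : t => hN₀ W.1 N (Finset.le_sup W.2)
  have hle : ∀ W : t, J W ≤ (H.map b).ideal W.1 := fun W =>
    le_map_ideal H W.1 (J W) fun x' hx' => by
      obtain ⟨D, e, hD, heq⟩ := hJ W x' hx'
      exact ⟨D, e, hD, heq.le⟩
  choose K hKfg hKle hJK using fun W : t => exists_ft_le (H.map b) W.1 (J W) (hJfg W) (hle W)
  have hsup : ∀ s : Finset t, BlowUp.IsFiniteTypeIdeal (s.sup K) ∧ s.sup K ≤ H.map b := by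
    intro s
    refine ⟨?_, Finset.sup_le fun W _ => hKle W⟩
    induction s using Finset.induction_on with
    | empty => intro V; rw [Finset.sup_empty, Scheme.IdealSheafData.ideal_bot, Pi.bot_apply]; exact Submodule.fg_bot
    | insert W s _ ih => rw [Finset.sup_insert]; exact ModPairLib.fg_sup (hKfg W) ih
  refine ⟨N, Finset.univ.sup K, (hsup _).1, le_antisymm (Scheme.IdealSheafData.le_map_iff_comap_le.mp (hsup _).2) ?_⟩
  have hcov : ∀ x' : X', ∃ W : t, b x' ∈ W.1.1 := fun x' => by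
    obtain ⟨W, hW, hx⟩ := Set.mem_iUnion₂.mp (ht (Set.mem_univ (b x')))
    exact ⟨⟨W, hW⟩, hx⟩
  choose W hW using hcov
  choose D e hD heq using fun x' => hJ (W x') x' (hW x')
  refine Scheme.IdealSheafData.le_of_iSup_eq_top D (top_le_iff.mp fun x' _ => Opens.mem_iSup.mpr ⟨x', hD x'⟩)
    fun x' => ?_
  rw [Groth.Agent.S4666.ideal_comap_eq _ b (W x').1 (D x') (e x'), ← heq x']
  exact Ideal.map_mono ((hJK _).trans (Finset.le_sup (f := K) (Finset.mem_univ (W x')) _))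

end RGFlatLib
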