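import Mathlib
import Groth.Agent.RGFlatLib.Setup
import Groth.Agent.RGFlatLib.Dominate
import Groth.Agent.FlatLib.FlatLocusScheme

/-!
# Dominating étale local blow-ups by a blow-up of the base
-/

set_option autoImplicit false
set_option maxHeartbeats 1000000

noncomputable section

universe u

open CategoryTheory CategoryTheory.Limits AlgebraicGeometry TopologicalSpace Opposite BlowUpLib AlgSpLib

namespace RGFlatLib

variable {S : Scheme.{u}}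

/-- one piece lifts to the étale base change -/
theorem exists_lift_piece {S' S₁ T : Scheme.{u}} (U : S.Opens) (e : S₁ ⟶ S) [Etale e] (b : T ⟶ S₁) [IsProper b]
    [IsIso (b ∣_ (e ⁻¹ᵁ U))] {b' : S' ⟶ S} (E : S.IdealSheafData) (hE : BlowUp.IsEffCartierIdeal (E.comap b'))
    (hint : ModPair.interior (E.comap b') = b' ⁻¹ᵁ U)
    (hflat : ∀ (X' : Scheme.{u}) (p₁ : X' ⟶ T) (p₂ : X' ⟶ S'), IsPullback p₁ p₂ (b ≫ e) b' →
      ∀ (𝒥 : X'.IdealSheafData),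
        (∀ (V : X'.affineOpens) (a : Γ(X', V.1)), a ∈ 𝒥.ideal V ↔
          BlowUp.KilledByPowerNear ((E.comap (b ≫ e)).comap p₁) (Coh.structureModule X') V a) →
        Flat (𝒥.subschemeι ≫ p₂) ∧ LocallyOfFinitePresentation (𝒥.subschemeι ≫ p₂)) :
    ∃ h : pullback e b' ⟶ T, h ≫ b = pullback.fst e b' := by
  let Y := pullback e b'
  let r₁ := pullback.fst e b'
  let r₂ := pullback.snd e b'
  let X' := pullback b r₁
  let p₁ : X' ⟶ T := pullback.fst b r₁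
  let q : X' ⟶ Y := pullback.snd b r₁
  let p₂ : X' ⟶ S' := q ≫ r₂
  have hpb : IsPullback p₁ p₂ (b ≫ e) b' :=
    ((IsPullback.of_hasPullback b r₁).flip.paste_horiz (IsPullback.of_hasPullback e b').flip).flip
  obtain ⟨𝒥, h𝒥⟩ := exists_strictIdeal hE p₂
  obtain ⟨hf, hfp⟩ := hflat X' p₁ p₂ hpb 𝒥 (by rw [exceptional_eq hpb]; exact h𝒥)
  obtain ⟨hiso, -⟩ := strict_basic hE p₂ h𝒥
  rw [hint] at hiso
  haveI := hiso
  haveI := hf
  haveI := hfp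
  let Φ : 𝒥.subscheme ⟶ Y := 𝒥.subschemeι ≫ q
  have hΦ : Φ ≫ r₂ = 𝒥.subschemeι ≫ p₂ := Category.assoc _ _ _
  haveI : Flat Φ := EtLocProp.cancel_etale (P := @Flat) Φ r₂ (by rw [hΦ]; exact hf)
  haveI : LocallyOfFinitePresentation Φ :=
    EtLocProp.cancel_etale (P := @LocallyOfFinitePresentation) Φ r₂ (by rw [hΦ]; exact hfp)
  let E₁ := (E.comap b').comap r₂
  have hE₁ : BlowUp.IsEffCartierIdeal E₁ := isEffCartier_comap_of_flat r₂ hE
  have hint₁ : ModPair.interior E₁ = r₁ ⁻¹ᵁ (e ⁻¹ᵁ U) := by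
    rw [ModPairLib.interior_comap, hint, ← Scheme.Hom.comp_preimage, ← Scheme.Hom.comp_preimage,
      pullback.condition]
  haveI : IsIso (q ∣_ (r₁ ⁻¹ᵁ (e ⁻¹ᵁ U))) :=
    isIso_restrict_of_isPullback (IsPullback.of_hasPullback b r₁).flip inferInstance
  haveI : IsIso (Φ ∣_ ModPair.interior E₁) := by
    rw [hint₁, morphismRestrict_comp]
    have he : q ⁻¹ᵁ (r₁ ⁻¹ᵁ (e ⁻¹ᵁ U)) = p₂ ⁻¹ᵁ (b' ⁻¹ᵁ U) := by
      rw [← Scheme.Hom.comp_preimage, ← Scheme.Hom.comp_preimage, ← Scheme.Hom.comp_preimage]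
      show (q ≫ r₁ ≫ e) ⁻¹ᵁ U = (q ≫ r₂ ≫ b') ⁻¹ᵁ U
      rw [show r₁ ≫ e = r₂ ≫ b' from pullback.condition]
    have h1 : IsIso (𝒥.subschemeι ∣_ (q ⁻¹ᵁ (r₁ ⁻¹ᵁ (e ⁻¹ᵁ U)))) := by rw [he]; exact hiso
    have h2 : IsIso (q ∣_ (r₁ ⁻¹ᵁ (e ⁻¹ᵁ U))) := inferInstance
    exact @IsIso.comp_isIso _ _ _ _ _ _ _ h1 h2
  haveI : IsProper Φ := inferInstance
  haveI : Mono Φ := mono_of_flat_of_interior Φ hE₁
  haveI : IsOpenImmersion Φ := IsOpenImmersion.of_flat_of_mono Φ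
  haveI : IsIso Φ := isIso_of_proper_of_interior Φ hE₁
  refine ⟨inv Φ ≫ 𝒥.subschemeι ≫ p₁, ?_⟩
  rw [Category.assoc, IsIso.inv_comp_eq, Category.assoc]
  show 𝒥.subschemeι ≫ p₁ ≫ b = (𝒥.subschemeι ≫ q) ≫ r₁
  rw [Category.assoc, show p₁ ≫ b = q ≫ r₁ from pullback.condition]

/-- A blow-up of the base over which all the given blow-ups of étale neighbourhoods are dominated. -/
theorem exists_dominating [CompactSpace S] [QuasiSeparatedSpace S] (U : S.Opens) (hU : IsCompact (U : Set S))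
    {k : ℕ} (Si : Fin k → Scheme.{u}) (e : ∀ i, Si i ⟶ S) [∀ i, Etale (e i)] [∀ i, QuasiCompact (e i)]
    (𝓘 : ∀ i, (Si i).IdealSheafData) (Sst : Fin k → Scheme.{u}) (b : ∀ i, Sst i ⟶ Si i)
    (hb : ∀ i, BlowUp.IsBlowUp (b i) (𝓘 i) ∧ BlowUp.IsAdmissibleFor ((e i) ⁻¹ᵁ U) (𝓘 i)) :
    ∃ (K : S.IdealSheafData) (S' : Scheme.{u}) (b' : S' ⟶ S), BlowUp.IsBlowUp b' K ∧
      BlowUp.IsAdmissibleFor U K ∧ ModPair.interior (K.comap b') = b' ⁻¹ᵁ U ∧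
      ∀ i, ∃ h : pullback (e i) b' ⟶ Sst i, h ≫ b i = pullback.fst _ _ := by
  have hp : ∀ i, IsProper (b i) := fun i => BlowUpLib.isProper_of_isBlowUp (hb i).1 (hb i).2.1
  have hiso : ∀ i, IsIso (b i ∣_ ((e i) ⁻¹ᵁ U)) := fun i =>
    EffCartLib.isIso_off_center _ (b i) (hb i).1 _ fun z hz hz' => Set.disjoint_left.1 (hb i).2.2 hz' hz
  have hflatU : ∀ i, Flat ((b i ≫ e i) ∣_ U) ∧ LocallyOfFinitePresentation ((b i ≫ e i) ∣_ U) := fun i => by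
    haveI := hiso i
    rw [morphismRestrict_comp]
    haveI := hp i
    have h1 : Flat (b i ∣_ ((e i) ⁻¹ᵁ U)) := inferInstance
    have h2 : Flat (e i ∣_ U) := inferInstance
    have h3 : LocallyOfFinitePresentation (b i ∣_ ((e i) ⁻¹ᵁ U)) := inferInstance
    have h4 : LocallyOfFinitePresentation (e i ∣_ U) := inferInstance
    exact ⟨MorphismProperty.comp_mem @Flat _ _ h1 h2,
      MorphismProperty.comp_mem @LocallyOfFinitePresentation _ _ h3 h4⟩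
  choose I hI hflat using fun i => by
    haveI := hp i
    haveI := (hflatU i).1
    haveI := (hflatU i).2
    exact exists_admissible_flattening (b i ≫ e i) U hU
  obtain ⟨J, hJ, hJI⟩ := exists_prod I hI
  obtain ⟨𝓛, hL, hK, hint⟩ := exists_exact_mul hU hJ
  obtain ⟨S', b', hb'⟩ := BlowUpLib.exists_isBlowUp S (J * 𝓛)
  have hint' : ModPair.interior ((J * 𝓛).comap b') = b' ⁻¹ᵁ U := by rw [ModPairLib.interior_comap, hint]
  refine ⟨J * 𝓛, S', b', hb', hK, hint', fun i => ?_⟩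
  obtain ⟨R, hR⟩ := hJI i
  have hK' : J * 𝓛 = I i * (R * 𝓛) := by rw [hR, mul_assoc, mul_left_comm]
  haveI := hp i
  haveI := hiso i
  refine exists_lift_piece U (e i) (b i) (J * 𝓛) hb'.1 hint' fun X' p₁ p₂ hpb 𝒥 h𝒥 => ?_
  rw [hK'] at h𝒥
  refine hflat i (R * 𝓛) ?_ S' b' (hK' ▸ hb'.1) X' p₁ p₂ hpb 𝒥 h𝒥
  refine Set.disjoint_of_subset_left (fun x hx => ?_) hK.2
  rw [hK', Scheme.IdealSheafData.support_mul]
  exact Or.inr hx

end RGFlatLib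

end
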