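import Mathlib
import Groth.Agent.RGFlatLib.EtaleLift
import Groth.Agent.RGFlatLib.EtaleFlat
import Groth.Agent.S2526

/-!
# Flattening a module by blowing up, étale locally
-/

set_option autoImplicit false
set_option maxHeartbeats 1000000

noncomputable section

universe u

open CategoryTheory CategoryTheory.Limits AlgebraicGeometry TopologicalSpace Opposite BlowUpLib

namespace RGFlatLib

/-- being killed is preserved by isomorphisms -/
theorem killed_map {X : Scheme.{u}} {E : X.IdealSheafData} {P Q : X.Modules} (θ : P ⟶ Q) (V : X.affineOpens)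
    {m : Γ(P, V.1)} (hm : BlowUp.KilledByPowerNear E P V m) : BlowUp.KilledByPowerNear E Q V (θ.app V.1 m) := by
  obtain ⟨n, hn⟩ := hm
  exact ⟨n, fun a ha => by rw [← QCohLib.app_smul, hn a ha, map_zero]⟩

/-- flattening can be checked étale locally -/
theorem exists_flattening_of_etale {X S : Scheme.{u}} [CompactSpace S] [QuasiSeparatedSpace S]
    (f : X ⟶ S) (F : X.Modules) [Coh.IsQCoh F] (U : S.Opens) (hU : IsCompact (U : Set S))
    {k : ℕ} (Si Xi : Fin k → Scheme.{u}) (e : ∀ i, Si i ⟶ S) (j : ∀ i, Xi i ⟶ X) (fi : ∀ i, Xi i ⟶ Si i)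
    [∀ i, Etale (e i)] [∀ i, QuasiCompact (e i)] [∀ i, Etale (j i)]
    (hcovX : ∀ x : X, ∃ i y, (j i).base y = x)
    (hcomm : ∀ i, j i ≫ f = fi i ≫ e i)
    (𝓘 : ∀ i, (Si i).IdealSheafData) (Sst : Fin k → Scheme.{u}) (b : ∀ i, Sst i ⟶ Si i)
    (hb : ∀ i, BlowUp.IsBlowUp (b i) (𝓘 i) ∧ BlowUp.IsAdmissibleFor ((e i) ⁻¹ᵁ U) (𝓘 i))
    (hflat : ∀ i (X' : Scheme.{u}) (p₁ : X' ⟶ Xi i) (p₂ : X' ⟶ Sst i), IsPullback p₁ p₂ (fi i) (b i) →
      ∀ (G : X'.Modules) (π : (Scheme.Modules.pullback p₁).obj ((Scheme.Modules.pullback (j i)).obj F) ⟶ G),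
        BlowUp.IsStrictTransform p₁ ((𝓘 i).comap (fi i)) ((Scheme.Modules.pullback (j i)).obj F) G π →
          FlatMod.IsFlatOver p₂ G) :
    ∃ (𝓙 : S.IdealSheafData) (S' : Scheme.{u}) (b' : S' ⟶ S), BlowUp.IsBlowUp b' 𝓙 ∧ BlowUp.IsAdmissibleFor U 𝓙 ∧
      ∀ (X' : Scheme.{u}) (p₁ : X' ⟶ X) (p₂ : X' ⟶ S'), IsPullback p₁ p₂ f b' →
      ∀ (G : X'.Modules) (π : (Scheme.Modules.pullback p₁).obj F ⟶ G),
        BlowUp.IsStrictTransform p₁ (𝓙.comap f) F G π → FlatMod.IsFlatOver p₂ G := by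
  obtain ⟨K, S', b', hb', hKadm, hint, hlift⟩ := exists_dominating U hU Si e 𝓘 Sst b hb
  refine ⟨K, S', b', hb', hKadm, fun X' p₁ p₂ hpb G π hπ x' => ?_⟩
  let P := (Scheme.Modules.pullback p₁).obj F
  haveI : Coh.IsQCoh P := KFlatLib.isQCoh_pullback p₁ F
  let E := (K.comap f).comap p₁
  have hEfg : BlowUp.IsFiniteTypeIdeal E := isFiniteTypeIdeal_comap (isFiniteTypeIdeal_comap hKadm.1 f) p₁
  haveI := hπ.1
  haveI : Coh.IsQCoh G := isQCoh_strictTransform hEfg π hπ.2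
  obtain ⟨i, y, hy⟩ := hcovX (p₁ x')
  obtain ⟨h, hh⟩ := hlift i
  let X'' := pullback (j i) p₁
  let a : X'' ⟶ Xi i := pullback.fst (j i) p₁
  let c : X'' ⟶ X' := pullback.snd (j i) p₁
  obtain ⟨z, -, hz⟩ := Scheme.exists_preimage_of_isPullback (IsPullback.of_hasPullback (j i) p₁) y x' hy
  let Y := pullback (e i) b'
  let r₁ : Y ⟶ Si i := pullback.fst (e i) b'
  let r₂ : Y ⟶ S' := pullback.snd (e i) b'
  have hac : a ≫ j i = c ≫ p₁ := pullback.condition
  let r : X'' ⟶ Y := pullback.lift (a ≫ fi i) (c ≫ p₂) (by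
    rw [Category.assoc, ← hcomm i, reassoc_of% hac, hpb.w, Category.assoc])
  have hr₁ : r ≫ r₁ = a ≫ fi i := pullback.lift_fst _ _ _
  have hr₂ : r ≫ r₂ = c ≫ p₂ := pullback.lift_snd _ _ _
  have sqY : IsPullback a r (fi i) r₁ := by
    refine IsPullback.of_bot (v₂₁ := r₂) (v₂₂ := e i) (h₃₁ := b') ?_ hr₁.symm (IsPullback.of_hasPullback (e i) b')
    rw [hr₂, ← hcomm i]
    exact (IsPullback.of_hasPullback (j i) p₁).paste_vert hpb
  -- the local strict transform
  let X₀ := pullback (fi i) (b i)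
  let q₁ : X₀ ⟶ Xi i := pullback.fst (fi i) (b i)
  let q₂ : X₀ ⟶ Sst i := pullback.snd (fi i) (b i)
  let m : X'' ⟶ X₀ := pullback.lift a (r ≫ h) (by rw [Category.assoc, hh, hr₁])
  have hm₁ : m ≫ q₁ = a := pullback.lift_fst _ _ _
  have hm₂ : m ≫ q₂ = r ≫ h := pullback.lift_snd _ _ _
  have sqm : IsPullback m r q₂ h := by
    refine IsPullback.of_right (h₁₂ := q₁) ?_ hm₂ (IsPullback.of_hasPullback (fi i) (b i))
    rw [hm₁, hh]; exact sqY
  haveI : Coh.IsQCoh ((Scheme.Modules.pullback (j i)).obj F) := KFlatLib.isQCoh_pullback _ F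
  let P₀ := (Scheme.Modules.pullback q₁).obj ((Scheme.Modules.pullback (j i)).obj F)
  haveI : Coh.IsQCoh P₀ := KFlatLib.isQCoh_pullback _ _
  have hE₀fg : BlowUp.IsFiniteTypeIdeal (((𝓘 i).comap (fi i)).comap q₁) :=
    isFiniteTypeIdeal_comap (isFiniteTypeIdeal_comap (hb i).2.1 _) _
  obtain ⟨G₀, π₀, hπ₀e, hπ₀⟩ := exists_strictTransform_mod hE₀fg P₀
  haveI := hπ₀e
  haveI : Coh.IsQCoh G₀ := isQCoh_strictTransform hE₀fg π₀ hπ₀
  have hG₀ : FlatMod.IsFlatOver q₂ G₀ :=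
    hflat i X₀ q₁ q₂ (IsPullback.of_hasPullback _ _) G₀ π₀ ⟨hπ₀e, hπ₀⟩
  -- two quotients of the same module
  let θ : (Scheme.Modules.pullback c).obj P ≅ (Scheme.Modules.pullback m).obj P₀ :=
    (Scheme.Modules.pullbackComp c p₁).app F ≪≫
      (Scheme.Modules.pullbackCongr (show c ≫ p₁ = (m ≫ q₁) ≫ j i by rw [hm₁, hac])).app F ≪≫
      ((Scheme.Modules.pullbackComp (m ≫ q₁) (j i)).app F).symm ≪≫
      ((Scheme.Modules.pullbackComp m q₁).app ((Scheme.Modules.pullback (j i)).obj F)).symm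
  haveI : Coh.IsQCoh ((Scheme.Modules.pullback c).obj P) := KFlatLib.isQCoh_pullback c P
  haveI : Coh.IsQCoh ((Scheme.Modules.pullback c).obj G) := KFlatLib.isQCoh_pullback c G
  haveI : Coh.IsQCoh ((Scheme.Modules.pullback m).obj P₀) := KFlatLib.isQCoh_pullback m P₀
  haveI : Coh.IsQCoh ((Scheme.Modules.pullback m).obj G₀) := KFlatLib.isQCoh_pullback m G₀
  let π₁ := (Scheme.Modules.pullback c).map π
  let π₂ := θ.hom ≫ (Scheme.Modules.pullback m).map π₀
  haveI : Epi π₁ := inferInstance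
  haveI : Epi ((Scheme.Modules.pullback m).map π₀) := inferInstance
  haveI : Epi π₂ := epi_comp _ _
  let E₂ := (((𝓘 i).comap (fi i)).comap q₁).comap m
  let E'' := E.comap c
  have hE''fg : BlowUp.IsFiniteTypeIdeal E'' := isFiniteTypeIdeal_comap hEfg c
  have hE₂fg : BlowUp.IsFiniteTypeIdeal E₂ := isFiniteTypeIdeal_comap hE₀fg m
  have hEY : E'' = ((K.comap b').comap r₂).comap r := by
    show ((K.comap f).comap p₁).comap c = _
    rw [exceptional_eq hpb, ← Scheme.IdealSheafData.comap_comp, ← Scheme.IdealSheafData.comap_comp,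
      ← Scheme.IdealSheafData.comap_comp, ← Scheme.IdealSheafData.comap_comp, hr₂]
  have hsupp : (E₂.support : Set X'') ⊆ E''.support := fun w hw => by
    rw [hEY]
    simp only [E₂, Scheme.IdealSheafData.support_comap, Closeds.coe_preimage, Set.mem_preimage] at hw ⊢
    by_contra hne
    have h1 : r₂ (r w) ∈ ModPair.interior (K.comap b') := fun h' => hne (by
      have h'' : r₂ (r w) ∈ ((K.comap b').support : Set S') := h'
      rw [Scheme.IdealSheafData.support_comap] at h''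
      exact h'')
    rw [hint] at h1
    refine Set.disjoint_left.1 (hb i).2.2 hw ?_
    show e i (fi i (q₁ (m w))) ∈ U
    rw [← Scheme.Hom.comp_apply m q₁, hm₁, ← Scheme.Hom.comp_apply a (fi i), ← hr₁, Scheme.Hom.comp_apply,
      ← Scheme.Hom.comp_apply r₁ (e i), show r₁ ≫ e i = r₂ ≫ b' from pullback.condition]
    exact h1
  have hk₁ : ∀ (V : X''.affineOpens) (s : Γ((Scheme.Modules.pullback c).obj P, V.1)), π₁.app V.1 s = 0 →
      BlowUp.KilledByPowerNear E'' _ V s := fun V s hs =>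
    killed_of_pullback c hEfg hE''fg π (fun W t ht => (hπ.2 W t).1 ht) V s hs
  have hk₂ : ∀ (V : X''.affineOpens) (s : Γ((Scheme.Modules.pullback c).obj P, V.1)), π₂.app V.1 s = 0 →
      BlowUp.KilledByPowerNear E'' _ V s := fun V s hs => by
    have h1 := killed_of_pullback m hE₀fg hE₂fg π₀ (fun W t ht => (hπ₀ W t).1 ht) V (θ.hom.app V.1 s) hs
    have h2 := killed_map θ.inv V (killed_of_support_le hE₂fg hE''fg hsupp _ V _ h1)
    rwa [← ConcreteCategory.comp_apply, ← Scheme.Modules.Hom.comp_app, θ.hom_inv_id] at h2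
  have hF₂ : FlatMod.IsFlatOver r ((Scheme.Modules.pullback m).obj G₀) :=
    isFlatOver_pullback_of_isPullback sqm G₀ hG₀
  have htf₁ : IsTorsionFree E'' ((Scheme.Modules.pullback c).obj G) := by
    refine isTorsionFree_pullback c ?_ G (isTorsionFree_strict hEfg π hπ.2)
    show IsLocPrincipalIdeal ((K.comap f).comap p₁)
    rw [exceptional_eq hpb]
    exact isLocPrincipal_comap hb'.1 p₂
  have htf₂ : IsTorsionFree E'' ((Scheme.Modules.pullback m).obj G₀) := by
    rw [hEY]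
    exact isTorsionFree_of_flatOver r (isEffCartier_comap_of_flat r₂ hb'.1) _ hF₂
  have hker : ∀ (V : X''.affineOpens) (s : Γ((Scheme.Modules.pullback c).obj P, V.1)),
      π₁.app V.1 s = 0 ↔ π₂.app V.1 s = 0 := fun V s =>
    ⟨fun hs => htf₂ V _ (killed_map π₂ V (hk₁ V s hs)), fun hs => htf₁ V _ (killed_map π₁ V (hk₂ V s hs))⟩
  have hF₁ : FlatMod.IsFlatOver r ((Scheme.Modules.pullback c).obj G) := isFlatOverAt_of_ker_eq r π₁ π₂ hker hF₂
  have h3 := Groth.Agent.S2526.isFlatOverAt_comp r r₂ _ z (hF₁ z)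
  rw [hr₂] at h3
  have h4 := Groth.Agent.S2526.isFlatOverAt_descend p₂ c G z h3
  rwa [show c z = x' from hz] at h4

end RGFlatLib

end
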