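import Mathlib
import Groth.Agent.RGFlatLib.Main
import Groth.Agent.RGFlatLib.ModAlg
import Groth.Agent.RGFlatLib.ModSheaf
import Groth.Agent.RGFlatLib.Dominate
import Groth.Agent.RichLib.IsFPAffine
import Groth.Agent.KFlatLib.AffinePull
import Groth.Agent.LCILocusLib.Scheme

/-!
# Flattening a module by admissible blowing up
-/

set_option autoImplicit false
set_option maxHeartbeats 1000000

noncomputable section

universe u

open CategoryTheory CategoryTheory.Limits AlgebraicGeometry TensorProduct BlowUpLib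

namespace RGFlatLib

/-- the local hypothesis in terms of sections over a basic open -/
theorem flat_fg_sqZero_of_chart {A R R' : Type u} [CommRing A] [CommRing R] [CommRing R'] [Algebra A R]
    [Algebra R R'] {σ : Type u} [Finite σ] (πR : MvPolynomial σ A →ₐ[A] R) (hπR : Function.Surjective πR)
    (hker : (RingHom.ker πR).FG) (j : A) [IsLocalization.Away (algebraMap A R j) R']
    (M : Type u) [AddCommGroup M] [Module R M] [Module A M] [IsScalarTower A R M]
    [Module (MvPolynomial σ A) M] [Module (MvPolynomial σ A)ᵐᵒᵖ M] [IsCentralScalar (MvPolynomial σ A) M]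
    [IsScalarTower A (MvPolynomial σ A) M] [IsScalarTower A (MvPolynomial σ A)ᵐᵒᵖ M]
    (hPM : ∀ (p : MvPolynomial σ A) (m : M), p • m = πR p • m)
    {M' : Type u} [AddCommGroup M'] [Module R M'] [Module R' M'] [IsScalarTower R R' M'] [Module A M']
    [IsScalarTower A R M'] (ι : M →ₗ[R] M') [IsLocalizedModule (Submonoid.powers (algebraMap A R j)) ι]
    [Module.Flat A M'] [Module.FinitePresentation R' M']
    {τ : Type u} [Finite τ] (π : MvPolynomial τ A →ₐ[A] TrivSqZeroExt (MvPolynomial σ A) M)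
    (hπ : Function.Surjective π) :
    Module.Flat (Localization.Away j) (MvPolynomial τ (Localization.Away j) ⧸
      (RingHom.ker π).map (MvPolynomial.map (algebraMap A (Localization.Away j)))) ∧
    ((RingHom.ker π).map (MvPolynomial.map (algebraMap A (Localization.Away j)))).FG := by
  let P := MvPolynomial σ A
  let jP : P := algebraMap A P j
  have hjP : πR jP = algebraMap A R j := πR.commutes j
  letI : Algebra P R := πR.toRingHom.toAlgebra
  letI : Algebra P R' := ((algebraMap R R').comp πR.toRingHom).toAlgebra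
  haveI : IsScalarTower P R R' := IsScalarTower.of_algebraMap_eq fun p => rfl
  letI : Module P M' := Module.compHom M' πR.toRingHom
  haveI : IsScalarTower P R M' := IsScalarTower.of_algebraMap_smul fun _ _ => rfl
  haveI : IsScalarTower A P M' := IsScalarTower.of_algebraMap_smul fun a m => by
    show πR (algebraMap A P a) • m = a • m
    rw [πR.commutes, algebraMap_smul]
  haveI : IsScalarTower P R' M' := IsScalarTower.of_algebraMap_smul fun p m => by
    show algebraMap R R' (πR p) • m = πR p • m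
    rw [algebraMap_smul]
  let S := Submonoid.powers jP
  let P' := Localization.Away jP
  haveI hR' : IsLocalization (Algebra.algebraMapSubmonoid R S) R' := by
    rw [Algebra.algebraMapSubmonoid, Submonoid.map_powers, show algebraMap P R jP = algebraMap A R j from hjP]
    assumption
  let ρ : P' →+* R' := IsLocalization.lift (M := S) (S := P') (g := algebraMap P R') fun y => by
    rw [IsScalarTower.algebraMap_apply P R R']
    exact IsLocalization.map_units R' (⟨_, y.1, y.2, rfl⟩ : Algebra.algebraMapSubmonoid R S)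
  letI : Algebra P' R' := ρ.toAlgebra
  haveI : IsScalarTower P P' R' := IsScalarTower.of_algebraMap_eq fun p => (IsLocalization.lift_eq _ p).symm
  letI : Module P' M' := Module.compHom M' ρ
  haveI : IsScalarTower P' R' M' := IsScalarTower.of_algebraMap_smul fun _ _ => rfl
  haveI : IsScalarTower P P' M' := IsScalarTower.of_algebraMap_smul fun p m => by
    show ρ (algebraMap P P' p) • m = p • m
    rw [IsLocalization.lift_eq, algebraMap_smul]
  haveI : IsLocalizedModule S (IsScalarTower.toAlgHom P R R').toLinearMap :=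
    isLocalizedModule_iff_isLocalization.mpr hR'
  haveI : Module.FinitePresentation P R :=
    Module.finitePresentation_of_surjective (Algebra.linearMap P R) hπR hker
  haveI : Module.FinitePresentation P' R' :=
    FinitePresentation.of_isBaseChange (IsScalarTower.toAlgHom P R R').toLinearMap
      ((isLocalizedModule_iff_isBaseChange S P' _).mp inferInstance)
  haveI : Module.FinitePresentation P' M' := Module.FinitePresentation.trans P' M' R'
  let ιP : M →ₗ[P] M' :=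
    { toFun := ι, map_add' := map_add ι, map_smul' := fun p m => by rw [hPM, map_smul]; rfl }
  haveI : IsLocalizedModule S ιP := by
    have hpow : ∀ n : ℕ, πR (jP ^ n) = algebraMap A R j ^ n := fun n => by rw [map_pow, hjP]
    refine ⟨fun y => ?_, fun z => ?_, fun {x y} hxy => ?_⟩
    · obtain ⟨_, n, rfl⟩ := y
      have h := IsLocalizedModule.map_units ι (⟨_, n, rfl⟩ : Submonoid.powers (algebraMap A R j))
      rw [Module.End.isUnit_iff] at h ⊢
      have e : (fun x : M' => (jP ^ n) • x) = fun x : M' => (algebraMap A R j ^ n) • x := funext fun x => by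
        show πR (jP ^ n) • x = _
        rw [hpow]
      change Function.Bijective fun x : M' => (jP ^ n) • x
      rw [e]; exact h
    · obtain ⟨⟨m, _, n, rfl⟩, h⟩ := IsLocalizedModule.surj (Submonoid.powers (algebraMap A R j)) ι z
      refine ⟨⟨m, _, n, rfl⟩, ?_⟩
      show πR (jP ^ n) • z = ι m
      rw [hpow]; exact h
    · obtain ⟨⟨_, n, rfl⟩, h⟩ := IsLocalizedModule.exists_of_eq (S := Submonoid.powers (algebraMap A R j)) (f := ι) hxy
      refine ⟨⟨_, n, rfl⟩, ?_⟩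
      show (jP ^ n) • x = (jP ^ n) • y
      rw [hPM, hPM, hpow]; exact h
  exact flat_fg_sqZero P M j P' ιP π hπ

variable {X S : Scheme.{u}}

/-- The centre for one affine open of the base. -/
theorem exists_center_affine_module [CompactSpace S] [QuasiSeparatedSpace S] (f : X ⟶ S)
    [LocallyOfFinitePresentation f] [QuasiCompact f] (U : S.Opens) (hU : IsCompact (U : Set S))
    (F : X.Modules) [Coh.IsQCoh F] (hft : CohB1.IsFT F)
    (hfp : CohB1.IsFP ((Scheme.Modules.pullback (f ⁻¹ᵁ U).ι).obj F))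
    (hfl : ∀ x : X, f x ∈ U → FlatMod.IsFlatOverAt f F x) {W : S.Opens} (hW : IsAffineOpen W) :
    ∃ 𝓘 : S.IdealSheafData, BlowUp.IsAdmissibleFor U 𝓘 ∧ ∀ (𝓚 : S.IdealSheafData),
      Disjoint (𝓚.support : Set S) (U : Set S) → 𝓚.ideal ⟨W, hW⟩ ≤ 𝓘.ideal ⟨W, hW⟩ →
      ∀ (S' : Scheme.{u}) (b : S' ⟶ S), BlowUp.IsEffCartierIdeal (𝓘.comap b) → BlowUp.IsEffCartierIdeal (𝓚.comap b) →
      ∀ (X' : Scheme.{u}) (p₁ : X' ⟶ X) (p₂ : X' ⟶ S'), IsPullback p₁ p₂ f b →
      ∀ (G : X'.Modules) [Coh.IsQCoh G] (π : (Scheme.Modules.pullback p₁).obj F ⟶ G),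
        BlowUp.IsStrictTransform p₁ (𝓚.comap f) F G π →
      ∀ x : X', b (p₂ x) ∈ W →
        ∃ O : X'.Opens, IsAffineOpen O ∧ x ∈ O ∧ Module.FinitePresentation Γ(X', O) Γ(G, O) ∧
          ∀ z ∈ O, FlatMod.IsFlatOverAt p₂ G z := by
  classical
  -- `U ∩ W` is covered by finitely many basic opens
  have hUW : IsCompact ((W ⊓ U : S.Opens) : Set S) :=
    QuasiSeparatedSpace.inter_isCompact _ _ W.isOpen hW.isCompact U.isOpen hU
  choose r hrU hr using fun x : (W ⊓ U : S.Opens) => hW.exists_basicOpen_le (V := W ⊓ U) x x.2.1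
  obtain ⟨t, ht⟩ := hUW.elim_finite_subcover (fun x : (W ⊓ U : S.Opens) => (S.basicOpen (r x) : Set S))
    (fun x => (S.basicOpen _).isOpen) (fun x hx => Set.mem_iUnion.2 ⟨⟨x, hx⟩, hr ⟨x, hx⟩⟩)
  let s : Finset Γ(S, W) := t.image r
  have hsU : ∀ j ∈ s, S.basicOpen j ≤ U := fun j hj => by
    obtain ⟨x, -, rfl⟩ := Finset.mem_image.1 hj
    exact (hrU x).trans inf_le_right
  -- finitely many affines over `W`
  choose V hV hxV hVle using fun x : (f ⁻¹ᵁ W : X.Opens) =>
    exists_isAffineOpen_mem_and_subset (x := x.1) (U := f ⁻¹ᵁ W) x.2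
  obtain ⟨κ, hκ⟩ := (f.isCompact_preimage hW.isCompact).elim_finite_subcover
    (fun x : (f ⁻¹ᵁ W : X.Opens) => (V x : Set X)) (fun x => (V x).2)
    (fun x hx => Set.mem_iUnion.mpr ⟨⟨x, hx⟩, hxV ⟨x, hx⟩⟩)
  letI algR : ∀ k : ↥κ, Algebra Γ(S, W) Γ(X, V k.1) := fun k => (f.appLE W (V k.1) (hVle k.1)).hom.toAlgebra
  haveI : ∀ k : ↥κ, Algebra.FinitePresentation Γ(S, W) Γ(X, V k.1) := fun k =>
    f.finitePresentation_appLE hW (hV k.1) (hVle k.1)
  choose σ hσ π₀ hπ₀ hker using fun k : ↥κ =>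
    Algebra.FinitePresentation.iff_quotient_mvPolynomial'.{_, _, u}.mp
      (inferInstance : Algebra.FinitePresentation Γ(S, W) Γ(X, V k.1))
  haveI : ∀ k, Finite (σ k) := fun k => @Finite.of_fintype _ (hσ k)
  letI modA : ∀ k : ↥κ, Module Γ(S, W) Γ(F, V k.1) := fun k =>
    Module.compHom _ (f.appLE W (V k.1) (hVle k.1)).hom
  haveI : ∀ k : ↥κ, IsScalarTower Γ(S, W) Γ(X, V k.1) Γ(F, V k.1) := fun k =>
    IsScalarTower.of_algebraMap_smul fun _ _ => rfl
  letI modP : ∀ k : ↥κ, Module (MvPolynomial (σ k) Γ(S, W)) Γ(F, V k.1) := fun k =>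
    Module.compHom _ (π₀ k).toRingHom
  letI modPop : ∀ k : ↥κ, Module (MvPolynomial (σ k) Γ(S, W))ᵐᵒᵖ Γ(F, V k.1) := fun k =>
    Module.compHom _ (RingEquiv.toOpposite (MvPolynomial (σ k) Γ(S, W))).symm.toRingHom
  haveI : ∀ k : ↥κ, IsCentralScalar (MvPolynomial (σ k) Γ(S, W)) Γ(F, V k.1) := fun k => ⟨fun _ _ => rfl⟩
  haveI : ∀ k : ↥κ, IsScalarTower Γ(S, W) (MvPolynomial (σ k) Γ(S, W)) Γ(F, V k.1) := fun k =>
    IsScalarTower.of_algebraMap_smul fun a m => by
      show π₀ k (algebraMap Γ(S, W) _ a) • m = a • m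
      rw [(π₀ k).commutes, algebraMap_smul]
  haveI : ∀ k : ↥κ, IsScalarTower Γ(S, W) (MvPolynomial (σ k) Γ(S, W))ᵐᵒᵖ Γ(F, V k.1) := fun k =>
    IsScalarTower.of_algebraMap_smul fun a m => by
      show π₀ k (algebraMap Γ(S, W) _ a) • m = a • m
      rw [(π₀ k).commutes, algebraMap_smul]
  haveI : ∀ k : ↥κ, Module.Finite (MvPolynomial (σ k) Γ(S, W)) Γ(F, V k.1) := fun k => by
    haveI := QCohLib.finite_of_isFT hft (hV k.1)
    letI : Algebra (MvPolynomial (σ k) Γ(S, W)) Γ(X, V k.1) := (π₀ k).toRingHom.toAlgebra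
    haveI : IsScalarTower (MvPolynomial (σ k) Γ(S, W)) Γ(X, V k.1) Γ(F, V k.1) :=
      IsScalarTower.of_algebraMap_smul fun _ _ => rfl
    haveI : Module.Finite (MvPolynomial (σ k) Γ(S, W)) Γ(X, V k.1) :=
      Module.Finite.of_surjective (Algebra.linearMap _ _) (hπ₀ k)
    exact Module.Finite.trans Γ(X, V k.1) _
  haveI : ∀ k : ↥κ, Algebra.FiniteType Γ(S, W) (TrivSqZeroExt (MvPolynomial (σ k) Γ(S, W)) Γ(F, V k.1)) := fun k =>
    finiteType_sqZero _ _
  choose τ hτ π hπ using fun k : ↥κ => Algebra.FiniteType.iff_quotient_mvPolynomial'.1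
    (inferInstance : Algebra.FiniteType Γ(S, W) (TrivSqZeroExt (MvPolynomial (σ k) Γ(S, W)) Γ(F, V k.1)))
  haveI : ∀ k, Finite (τ k) := fun k => @Finite.of_fintype _ (hτ k)
  have hloc : ∀ (k : ↥κ), ∀ j ∈ s, Module.Flat (Localization.Away j) (MvPolynomial (τ k) (Localization.Away j) ⧸
      (RingHom.ker (π k)).map (MvPolynomial.map (algebraMap Γ(S, W) (Localization.Away j)))) ∧
      ((RingHom.ker (π k)).map (MvPolynomial.map (algebraMap Γ(S, W) (Localization.Away j)))).FG := by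
    intro k j hj
    let r' : Γ(X, V k.1) := (f.appLE W (V k.1) (hVle k.1)).hom j
    have eD : X.basicOpen r' ≤ f ⁻¹ᵁ S.basicOpen j := by
      rw [show X.basicOpen r' = _ from Scheme.basicOpen_appLE f _ _ (hVle k.1) j]
      exact inf_le_right
    letI : Algebra Γ(X, V k.1) Γ(X, X.basicOpen r') :=
      (X.presheaf.map (homOfLE (X.basicOpen_le r')).op).hom.toAlgebra
    haveI : IsLocalization.Away (algebraMap Γ(S, W) Γ(X, V k.1) j) Γ(X, X.basicOpen r') :=
      (hV k.1).isLocalization_basicOpen r'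
    letI : Module Γ(X, V k.1) Γ(F, X.basicOpen r') :=
      Module.compHom _ (X.presheaf.map (homOfLE (X.basicOpen_le r')).op).hom
    haveI : IsScalarTower Γ(X, V k.1) Γ(X, X.basicOpen r') Γ(F, X.basicOpen r') :=
      IsScalarTower.of_algebraMap_smul fun _ _ => rfl
    letI : Algebra Γ(S, S.basicOpen j) Γ(X, X.basicOpen r') :=
      (f.appLE (S.basicOpen j) (X.basicOpen r') eD).hom.toAlgebra
    letI : Module Γ(S, S.basicOpen j) Γ(F, X.basicOpen r') :=
      Module.compHom _ (f.appLE (S.basicOpen j) (X.basicOpen r') eD).hom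
    haveI : IsScalarTower Γ(S, S.basicOpen j) Γ(X, X.basicOpen r') Γ(F, X.basicOpen r') :=
      IsScalarTower.of_algebraMap_smul fun _ _ => rfl
    letI : Module Γ(S, W) Γ(F, X.basicOpen r') :=
      Module.compHom _ ((X.presheaf.map (homOfLE (X.basicOpen_le r')).op).hom.comp
        (f.appLE W (V k.1) (hVle k.1)).hom)
    haveI : IsScalarTower Γ(S, W) Γ(X, V k.1) Γ(F, X.basicOpen r') :=
      IsScalarTower.of_algebraMap_smul fun _ _ => rfl
    haveI : IsScalarTower Γ(S, W) Γ(S, S.basicOpen j) Γ(F, X.basicOpen r') :=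
      IsScalarTower.of_algebraMap_smul fun a m => congrArg (fun z : Γ(X, X.basicOpen r') => z • m)
        ((RingHom.congr_fun (congrArg CommRingCat.Hom.hom
          (Scheme.Hom.map_appLE f eD (homOfLE (S.basicOpen_le j)).op)) a).trans
        (RingHom.congr_fun (congrArg CommRingCat.Hom.hom
          (Scheme.Hom.appLE_map f (hVle k.1) (homOfLE (X.basicOpen_le r')).op)) a).symm)
    haveI : Module.Flat Γ(S, S.basicOpen j) Γ(F, X.basicOpen r') :=
      RichLib.IsFPAffine.flat_sections f F (hW.basicOpen j) ((hV k.1).basicOpen r') eD rfl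
        fun z hz => hfl z (hsU j hj (eD hz))
    haveI := hW.isLocalization_basicOpen j
    haveI : Module.Flat Γ(S, W) Γ(F, X.basicOpen r') :=
      (Module.flat_iff_of_isLocalization Γ(S, S.basicOpen j) (Submonoid.powers j) _).mp inferInstance
    haveI : Module.FinitePresentation Γ(X, X.basicOpen r') Γ(F, X.basicOpen r') :=
      finitePresentation_affine_of_pullback F hfp ((hV k.1).basicOpen r') (eD.trans (f.preimage_mono (hsU j hj)))
    haveI : IsLocalizedModule (Submonoid.powers (algebraMap Γ(S, W) Γ(X, V k.1) j))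
        (resLin F (X.basicOpen_le r') fun _ _ => rfl) := isLocalizedModule_resLin F (hV k.1) r' _
    exact flat_fg_sqZero_of_chart (π₀ k) (hπ₀ k) (hker k) j Γ(F, V k.1) (fun _ _ => rfl)
      (R' := Γ(X, X.basicOpen r')) (resLin F (X.basicOpen_le r') fun _ _ => rfl) (π k) (hπ k)
  obtain ⟨I, hIfg, hIs, hIrad, hgood⟩ := exists_flattening_center s τ (fun k => RingHom.ker (π k))
    (fun k j hj => (hloc k j hj).1) (fun k j hj => (hloc k j hj).2)
  obtain ⟨𝓘, h𝓘fg, h𝓘U, h𝓘W⟩ := exists_extend_ideal U hU hW I hIfg fun x hxU hxW => by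
    obtain ⟨y, hy, hxy⟩ := Set.mem_iUnion₂.1 (ht (show x ∈ W ⊓ U from ⟨hxW, hxU⟩))
    obtain ⟨m, hm⟩ := hIrad (r y) (Finset.mem_image_of_mem r hy)
    refine ⟨r y ^ (m + 1), ?_, ?_⟩
    · rw [pow_succ]; exact Ideal.mul_mem_right _ _ hm
    · rw [S.basicOpen_pow (r y) (Nat.succ_pos m)]
      exact hxy
  refine ⟨𝓘, ⟨h𝓘fg, h𝓘U⟩, fun 𝓚 hKU hK S' b hI' hK' X' p₁ p₂ hpb G _ φ hφ x hx => ?_⟩
  have hrad : ∀ j ∈ s, j ∈ (𝓚.ideal ⟨W, hW⟩).radical := fun j hj =>
    mem_radical_of_support hW 𝓚 fun z hz hz' => Set.disjoint_left.1 hKU hz' (hsU j hj hz)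
  obtain ⟨T, hT, eT, hyT, g, hgK, hG⟩ := exists_good_nhd b hW s (fun k => RingHom.ker (π k)) 𝓘 𝓚
    (h𝓘W ▸ hIs) hK hrad (by rw [h𝓘W]; exact hgood) hI' hK' hx
  have hfx : p₁ x ∈ f ⁻¹ᵁ W := by
    show f (p₁ x) ∈ W
    rw [← Scheme.Hom.comp_apply p₁ f, hpb.w, Scheme.Hom.comp_apply]
    exact hx
  obtain ⟨k, hkκ, hk⟩ := Set.mem_iUnion₂.mp (hκ hfx)
  let kk : ↥κ := ⟨k, hkκ⟩
  obtain ⟨hO, hpo⟩ := LCILocusLib.pullback_chart hpb hW hT eT (hV k) (hVle k)
  let O : X'.Opens := p₁ ⁻¹ᵁ V k ⊓ p₂ ⁻¹ᵁ T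
  have eO₁ : O ≤ p₁ ⁻¹ᵁ V k := inf_le_left
  have eO₂ : O ≤ p₂ ⁻¹ᵁ T := inf_le_right
  have eOW : O ≤ (p₂ ≫ b) ⁻¹ᵁ W := eO₂.trans (p₂.preimage_mono eT)
  let P := KFlatLib.pb p₁ F
  haveI : Coh.IsQCoh P := KFlatLib.isQCoh_pullback p₁ F
  haveI : Epi φ := hφ.1
  letI : Algebra Γ(S, W) Γ(S', T) := (b.appLE W T eT).hom.toAlgebra
  letI : Algebra Γ(X, V k) Γ(X', O) := (p₁.appLE (V k) O eO₁).hom.toAlgebra
  letI : Algebra Γ(S', T) Γ(X', O) := (p₂.appLE T O eO₂).hom.toAlgebra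
  letI : Algebra Γ(S, W) Γ(X', O) := ((p₂.appLE T O eO₂).hom.comp (b.appLE W T eT).hom).toAlgebra
  haveI : IsScalarTower Γ(S, W) Γ(S', T) Γ(X', O) := IsScalarTower.of_algebraMap_eq fun _ => rfl
  haveI : IsScalarTower Γ(S, W) Γ(X, V kk.1) Γ(X', O) := IsScalarTower.of_algebraMap_eq fun a =>
    (RingHom.congr_fun (congrArg CommRingCat.Hom.hom hpo.w) a).symm
  haveI : Algebra.IsPushout Γ(S, W) Γ(S', T) Γ(X, V kk.1) Γ(X', O) :=
    CommRingCat.isPushout_iff_isPushout.mp hpo.flip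
  letI : Module Γ(S', T) Γ(P, O) := Module.compHom _ (p₂.appLE T O eO₂).hom
  haveI : IsScalarTower Γ(S', T) Γ(X', O) Γ(P, O) := IsScalarTower.of_algebraMap_smul fun _ _ => rfl
  letI : Module Γ(X, V kk.1) Γ(P, O) := Module.compHom _ (p₁.appLE (V k) O eO₁).hom
  haveI : IsScalarTower Γ(X, V kk.1) Γ(X', O) Γ(P, O) := IsScalarTower.of_algebraMap_smul fun _ _ => rfl
  let ψ : Γ(F, V kk.1) →ₗ[Γ(X, V kk.1)] Γ(P, O) :=
    { toFun := KFlatLib.puSecLE p₁ F eO₁
      map_add' := map_add _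
      map_smul' := fun r m => by rw [KFlatLib.puSecLE_smul, RingHom.id_apply]; rfl }
  have hψ : IsBaseChange Γ(X', O) ψ :=
    KFlatLib.isBaseChange_puSec p₁ F (hV k) hO eO₁ (fun _ => rfl) ψ fun _ => rfl
  let G' : Γ(X', O) := algebraMap Γ(S', T) Γ(X', O) g
  have hE : (BlowUp.exceptional p₁ (𝓚.comap f)).ideal ⟨O, hO⟩ = Ideal.span {G'} := by
    rw [BlowUp.exceptional, ← Scheme.IdealSheafData.comap_comp, hpb.w, ← ideal_comap_appLE (p₂ ≫ b) 𝓚 hW hO eOW,
      ← Scheme.Hom.appLE_comp_appLE p₂ b W T O eT eO₂, CommRingCat.hom_comp, ← Ideal.map_map, hgK, Ideal.map_span,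
      Set.image_singleton]
    rfl
  have hK0 : ∀ m : Γ(P, O), m ∈ LinearMap.ker (QCohLib.appLin φ O) ↔ ∃ n : ℕ, g ^ n • m = 0 := by
    intro m
    refine (hφ.2 ⟨O, hO⟩ m).trans (exists_congr fun n => ?_)
    have hpow : ((BlowUp.exceptional p₁ (𝓚.comap f)) ^ n).ideal ⟨O, hO⟩ = Ideal.span {G' ^ n} := by
      rw [Scheme.IdealSheafData.ideal_pow, Pi.pow_apply, hE, Ideal.span_singleton_pow]
    rw [← algebraMap_smul Γ(X', O) (g ^ n) m, map_pow]
    constructor
    · exact fun h => h _ (hpow ▸ Ideal.mem_span_singleton_self _)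
    · intro h a ha
      rw [hpow] at ha
      obtain ⟨c, rfl⟩ := Ideal.mem_span_singleton'.1 ha
      rw [mul_smul]
      exact (congrArg (c • ·) h).trans (smul_zero c)
  obtain ⟨hflat, hfpm⟩ := flat_fp_of_good (B := Γ(S', T)) (C := Γ(X', O)) (π₀ kk) (hπ₀ kk) Γ(F, V kk.1)
    (fun _ _ => rfl) ψ hψ (π kk) (hπ kk) g (hG kk) (LinearMap.ker (QCohLib.appLin φ O)) hK0
  let e : (Γ(P, O) ⧸ LinearMap.ker (QCohLib.appLin φ O)) ≃ₗ[Γ(X', O)] Γ(G, O) :=
    (QCohLib.appLin φ O).quotKerEquivOfSurjective (RichLib.IsFPAffine.appLin_surjective φ hO)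
  letI : Module Γ(S', T) Γ(G, O) := Module.compHom _ (p₂.appLE T O eO₂).hom
  haveI : IsScalarTower Γ(S', T) Γ(X', O) Γ(G, O) := IsScalarTower.of_algebraMap_smul fun _ _ => rfl
  haveI := hfpm
  haveI := hflat
  haveI : Module.FinitePresentation Γ(X', O) Γ(G, O) := Module.FinitePresentation.of_equiv e
  haveI : Module.Flat Γ(S', T) Γ(G, O) := Module.Flat.of_linearEquiv (e.restrictScalars Γ(S', T)).symm
  refine ⟨O, hO, ⟨hk, hyT⟩, inferInstance, fun z hz => ?_⟩
  refine (FlatLib.isFlatOverAt_iff p₂ G T hT O hO eO₂ hz rfl).mpr ?_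
  exact FlatLib.flat_localized (hO.primeIdealOf ⟨z, hz⟩).asIdeal.primeCompl (LocalizedModule.mkLinearMap _ Γ(G, O))

/-- Flattening a module by admissible blowing up. -/
theorem exists_admissible_flattening_module [CompactSpace S] [QuasiSeparatedSpace S] (f : X ⟶ S)
    [LocallyOfFinitePresentation f] [QuasiCompact f] (U : S.Opens) (hU : IsCompact (U : Set S))
    (F : X.Modules) [Coh.IsQCoh F] (hft : CohB1.IsFT F)
    (hfp : CohB1.IsFP ((Scheme.Modules.pullback (f ⁻¹ᵁ U).ι).obj F))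
    (hfl : ∀ x : X, f x ∈ U → FlatMod.IsFlatOverAt f F x) :
    ∃ 𝓘 : S.IdealSheafData, BlowUp.IsAdmissibleFor U 𝓘 ∧ ∀ (𝓛 : S.IdealSheafData),
      BlowUp.IsFiniteTypeIdeal 𝓛 → Disjoint (𝓛.support : Set S) (U : Set S) →
      ∀ (S' : Scheme.{u}) (b : S' ⟶ S), BlowUp.IsEffCartierIdeal ((𝓘 * 𝓛).comap b) →
      ∀ (X' : Scheme.{u}) (p₁ : X' ⟶ X) (p₂ : X' ⟶ S'), IsPullback p₁ p₂ f b →
      ∀ (G : X'.Modules) (π : (Scheme.Modules.pullback p₁).obj F ⟶ G),
        BlowUp.IsStrictTransform p₁ ((𝓘 * 𝓛).comap f) F G π → CohB1.IsFP G ∧ FlatMod.IsFlatOver p₂ G := by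
  classical
  choose W hW hyW _hle using fun y : S => exists_isAffineOpen_mem_and_subset (x := y) (U := ⊤) trivial
  obtain ⟨t, ht⟩ := CompactSpace.elim_nhds_subcover (fun y => (W y : Set S)) (fun y => (W y).2.mem_nhds (hyW y))
  choose 𝓘 hadm hmain using fun y : S => exists_center_affine_module f U hU F hft hfp hfl (hW y)
  let Ip := ∏ y ∈ t, 𝓘 y
  have hsupp : Disjoint (Ip.support : Set S) (U : Set S) := Set.disjoint_left.2 fun x hx hxU =>
    FlatModifLib.support_finsetProd t 𝓘 x (fun y _ hxy => Set.disjoint_left.1 (hadm y).2 hxy hxU) hx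
  have hfg : BlowUp.IsFiniteTypeIdeal Ip := by
    refine Finset.prod_induction 𝓘 BlowUp.IsFiniteTypeIdeal (fun a b ha hb V => ?_) (fun V => ?_) fun y _ => (hadm y).1
    · rw [Scheme.IdealSheafData.ideal_mul, Pi.mul_apply]
      exact (ha V).mul (hb V)
    · exact ⟨{1}, by simp [Scheme.IdealSheafData.one_eq_top]⟩
  refine ⟨Ip, ⟨hfg, hsupp⟩, fun 𝓛 hLfg hL S' b hb X' p₁ p₂ hpb G π hπ => ?_⟩
  have hKfg : BlowUp.IsFiniteTypeIdeal (Ip * 𝓛) := fun V => by
    rw [Scheme.IdealSheafData.ideal_mul, Pi.mul_apply]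
    exact (hfg V).mul (hLfg V)
  haveI : Coh.IsQCoh ((Scheme.Modules.pullback p₁).obj F) := KFlatLib.isQCoh_pullback p₁ F
  haveI := hπ.1
  haveI : Coh.IsQCoh G := isQCoh_strictTransform
    (isFiniteTypeIdeal_comap (isFiniteTypeIdeal_comap hKfg f) p₁) π hπ.2
  have hKU : Disjoint ((Ip * 𝓛).support : Set S) (U : Set S) := by
    rw [Scheme.IdealSheafData.support_mul]
    exact Set.disjoint_left.2 fun x hx hxU => hx.elim (fun h => Set.disjoint_left.1 hsupp h hxU)
      fun h => Set.disjoint_left.1 hL h hxU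
  have hP : BlowUp.IsEffCartierIdeal (Ip.comap b) := by
    rw [mul_comm, BlowUpLib.comap_mul] at hb
    exact isEffCartier_of_mul hb
  have key : ∀ x : X', ∃ O : X'.Opens, IsAffineOpen O ∧ x ∈ O ∧ Module.FinitePresentation Γ(X', O) Γ(G, O) ∧
      ∀ z ∈ O, FlatMod.IsFlatOverAt p₂ G z := by
    intro x
    obtain ⟨y, hyt, hy⟩ := Set.mem_iUnion₂.mp (ht.ge (Set.mem_univ (b (p₂ x))))
    refine hmain y (Ip * 𝓛) hKU ?_ S' b (FlatModifLib.isEffCartier_factor b t 𝓘 hP y hyt) hb X' p₁ p₂ hpb G π hπ x hy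
    simp only [Ip, ← Finset.prod_erase_mul t 𝓘 hyt, Scheme.IdealSheafData.ideal_mul, Pi.mul_apply]
    exact Ideal.mul_le_left.trans Ideal.mul_le_right
  refine ⟨RichLib.IsFPAffine.isFP_of_finitePresentation G fun x => ?_, fun x => ?_⟩
  · obtain ⟨O, hO, hxO, h, -⟩ := key x
    exact ⟨O, hO, hxO, h⟩
  · obtain ⟨O, -, hxO, -, h⟩ := key x
    exact h x hxO

end RGFlatLib

end
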