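import Mathlib
import Groth.Agent.RGFlatLib.ModMain
import Groth.Agent.RGFlatLib.GenMain
import Groth.Agent.RGFlatLib.Compose
import Groth.Agent.RichLib.ModFlatLimit
import Groth.Agent.RichLib.FlatLociOpen
import Groth.Agent.MiscFlat6.TildeFin
import Groth.Agent.ConsLib.ModLoci
import Groth.Agent.StrictModLib.Basic
import Groth.Agent.S1688
import Groth.Agent.PerfLib.FiniteType

/-!
# Making a module free near the generic points of the fibres
-/

set_option autoImplicit false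
set_option maxHeartbeats 1000000

noncomputable section

universe u

open CategoryTheory CategoryTheory.Limits AlgebraicGeometry TensorProduct TopologicalSpace Opposite BlowUpLib

namespace RGFlatLib

variable {X S : Scheme.{u}}

/-- being killed by powers depends only on the support -/
theorem killed_iff_of_support {E E' : X.IdealSheafData} (hE : BlowUp.IsFiniteTypeIdeal E)
    (hE' : BlowUp.IsFiniteTypeIdeal E') (hs : (E.support : Set X) = (E'.support : Set X)) (M : X.Modules)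
    (V : X.affineOpens) (m : Γ(M, V.1)) :
    BlowUp.KilledByPowerNear E M V m ↔ BlowUp.KilledByPowerNear E' M V m := by
  have key : ∀ {A B : X.IdealSheafData}, BlowUp.IsFiniteTypeIdeal B → (A.support : Set X) = (B.support : Set X) →
      BlowUp.KilledByPowerNear A M V m → BlowUp.KilledByPowerNear B M V m := by
    intro A B hB hs ⟨n, hn⟩
    have hrad : B.ideal V ≤ (A.ideal V).radical := fun a ha => by
      refine mem_radical_of_support V.2 A fun z hz hzA => ?_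
      replace hzA : z ∈ (B.support : Set X) := hs ▸ (hzA : z ∈ (A.support : Set X))
      have h1 := (Scheme.IdealSheafData.mem_support_iff_of_mem (U := V) (X.basicOpen_le a hz)).1 hzA
      rw [Scheme.mem_zeroLocus_iff] at h1
      exact h1 a ha hz
    obtain ⟨N, hN⟩ := Ideal.exists_pow_le_of_le_radical_of_fg hrad (hB V)
    refine ⟨N * n, fun a ha => hn a ?_⟩
    rw [Scheme.IdealSheafData.ideal_pow, Pi.pow_apply] at ha ⊢
    rw [pow_mul] at ha
    exact Ideal.pow_right_mono hN n ha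
  exact ⟨key hE' hs, key hE hs.symm⟩

/-- the strict transform on an open -/
theorem strictTransform_restrict {X₀ X' V₀ : Scheme.{u}} {p : X' ⟶ X₀} {𝓘 : X₀.IdealSheafData} {F : X₀.Modules}
    {G : X'.Modules} {π : (Scheme.Modules.pullback p).obj F ⟶ G} (h : BlowUp.IsStrictTransform p 𝓘 F G π)
    (O : X'.Opens) {q : (O : Scheme.{u}) ⟶ V₀} {F₀ : V₀.Modules}
    (e : (Scheme.Modules.pullback q).obj F₀ ≅ ((Scheme.Modules.pullback p).obj F).restrict O.ι)
    {𝓙 : V₀.IdealSheafData} (he : ((𝓘.comap p).comap O.ι).support = (𝓙.comap q).support)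
    (h₁ : BlowUp.IsFiniteTypeIdeal ((𝓘.comap p).comap O.ι)) (h₂ : BlowUp.IsFiniteTypeIdeal (𝓙.comap q)) :
    BlowUp.IsStrictTransform q 𝓙 F₀ (G.restrict O.ι) (e.hom ≫ (Scheme.Modules.restrictFunctor O.ι).map π) := by
  haveI := h.1
  haveI : Epi ((Scheme.Modules.restrictFunctor O.ι).map π) := inferInstance
  refine ⟨epi_comp _ _, fun V m => ?_⟩
  let P := (Scheme.Modules.pullback p).obj F
  let V' : X'.affineOpens := ⟨O.ι ''ᵁ V.1, V.2.image_of_isOpenImmersion O.ι⟩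
  let m₁ := e.hom.app V.1 m
  let m₂ := (P.restrictAppIso O.ι V.1).hom m₁
  have hk1 : BlowUp.KilledByPowerNear (𝓙.comap q) ((Scheme.Modules.pullback q).obj F₀) V m ↔
      BlowUp.KilledByPowerNear (𝓙.comap q) (P.restrict O.ι) V m₁ := by
    refine exists_congr fun n => forall₂_congr fun a _ => ?_
    rw [← QCohLib.app_smul]
    exact ⟨fun h0 => by rw [h0, map_zero], fun h0 => (ConcreteCategory.bijective_of_isIso (e.hom.app V.1)).1
      (h0.trans (map_zero _).symm)⟩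
  have hk2 : BlowUp.KilledByPowerNear ((𝓘.comap p).comap O.ι) (P.restrict O.ι) V m₁ ↔
      BlowUp.KilledByPowerNear (𝓘.comap p) P V' m₂ := by
    refine exists_congr fun n => ?_
    have hid : ((((𝓘.comap p).comap O.ι)) ^ n).ideal V = (((𝓘.comap p) ^ n).ideal V').comap (O.ι.appIso V.1).inv.hom := by
      rw [Scheme.IdealSheafData.ideal_pow, Scheme.IdealSheafData.ideal_pow, Pi.pow_apply, Pi.pow_apply,
        Scheme.IdealSheafData.ideal_comap_of_isOpenImmersion]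
      show (Ideal.comap (O.ι.appIso V.1).commRingCatIsoToRingEquiv.symm ((𝓘.comap p).ideal V')) ^ n =
        Ideal.comap (O.ι.appIso V.1).commRingCatIsoToRingEquiv.symm (((𝓘.comap p).ideal V') ^ n)
      rw [Ideal.comap_symm, Ideal.comap_symm, Ideal.map_pow]
    constructor
    · intro h0 a ha
      obtain ⟨a', rfl⟩ := (O.ι.appIso V.1).commRingCatIsoToRingEquiv.symm.surjective a
      have h1 := congrArg (P.restrictAppIso O.ι V.1).hom (h0 a' (by rw [hid]; exact ha))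
      rw [map_zero] at h1
      exact (Scheme.Modules.smul_restrictAppIso_hom_apply O.ι P V.1 a' m₁).symm.trans h1
    · intro h0 a ha
      rw [hid] at ha
      refine (ConcreteCategory.bijective_of_isIso (P.restrictAppIso O.ι V.1).hom).1 ?_
      rw [map_zero]
      exact (Scheme.Modules.smul_restrictAppIso_hom_apply O.ι P V.1 a m₁).trans (h0 _ ha)
  have hk0 := killed_iff_of_support h₁ h₂ (congrArg SetLike.coe he) (P.restrict O.ι) V m₁
  show ((Scheme.Modules.restrictFunctor O.ι).map π).app V.1 m₁ = 0 ↔ _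
  rw [show BlowUp.exceptional q 𝓙 = 𝓙.comap q from rfl, hk1, ← hk0, hk2]
  refine Iff.trans ?_ (h.2 V' m₂)
  have hnat : π.app V'.1 m₂ = (G.restrictAppIso O.ι V.1).hom (((Scheme.Modules.restrictFunctor O.ι).map π).app V.1 m₁) := rfl
  rw [hnat]
  exact ⟨fun h0 => by rw [h0, map_zero],
    fun h0 => (ConcreteCategory.bijective_of_isIso (G.restrictAppIso O.ι V.1).hom).1 (h0.trans (map_zero _).symm)⟩

/-- free sections after localisation give flat sections -/
theorem flat_sections_basicOpen (G : X.Modules) [Coh.IsQCoh G] {U : X.Opens} (hU : IsAffineOpen U) (t : Γ(X, U))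
    [Module.Free (Localization.Away t) (LocalizedModule (Submonoid.powers t) Γ(G, U))] :
    Module.Flat Γ(X, X.basicOpen t) Γ(G, X.basicOpen t) := by
  letI : Module Γ(X, U) Γ(G, X.basicOpen t) :=
    Module.compHom _ (X.presheaf.map (homOfLE (X.basicOpen_le t)).op).hom
  haveI := isLocalizedModule_resLin G hU t (fun _ _ => rfl)
  letI : Algebra Γ(X, U) Γ(X, X.basicOpen t) := (X.presheaf.map (homOfLE (X.basicOpen_le t)).op).hom.toAlgebra
  haveI : IsLocalization.Away t Γ(X, X.basicOpen t) := hU.isLocalization_basicOpen t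
  let e : Γ(X, X.basicOpen t) ≃ₐ[Γ(X, U)] Localization.Away t :=
    IsLocalization.algEquiv (Submonoid.powers t) _ _
  letI : Module (Localization.Away t) Γ(G, X.basicOpen t) :=
    Module.compHom _ e.symm.toRingEquiv.toRingHom
  haveI : IsScalarTower Γ(X, U) (Localization.Away t) Γ(G, X.basicOpen t) :=
    IsScalarTower.of_algebraMap_smul fun a m => by
      show e.symm (algebraMap Γ(X, U) (Localization.Away t) a) • m = _
      rw [AlgEquiv.commutes]; rfl
  let l := IsLocalizedModule.iso (Submonoid.powers t) (resLin G (X.basicOpen_le t) fun _ _ => rfl)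
  haveI : Module.Flat (Localization.Away t) Γ(G, X.basicOpen t) :=
    Module.Flat.of_linearEquiv (l.extendScalarsOfIsLocalization (Submonoid.powers t) (Localization.Away t)).symm
  refine (RichLib.ModFlat.flat_iff_of_semilinear e.symm.toRingEquiv
    (AddEquiv.refl Γ(G, X.basicOpen t)) fun _ _ => rfl).1 ‹_›

/-- the global centre keeping generic points of fibres in the closure of an open -/
theorem exists_admissible_generic [CompactSpace S] [QuasiSeparatedSpace S] (f : X ⟶ S) [IsAffineHom f]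
    [LocallyOfFinitePresentation f] [Flat f] [GeometricallyIntegral f] (U : S.Opens) (hU : IsCompact (U : Set S))
    (O₀ : X.Opens) (hO₀ : ∀ s ∈ U, ∃ z ∈ O₀, f z = s) :
    ∃ 𝓘 : S.IdealSheafData, BlowUp.IsAdmissibleFor U 𝓘 ∧
      ∀ (S' : Scheme.{u}) (b : S' ⟶ S), BlowUp.IsEffCartierIdeal (𝓘.comap b) →
      ∀ (X' : Scheme.{u}) (p₁ : X' ⟶ X) (p₂ : X' ⟶ S'), IsPullback p₁ p₂ f b →
      ∀ y : S', ∃ D : X'.Opens, IsAffineOpen D ∧ (∃ z ∈ D, p₂ z = y) ∧ ∀ z ∈ D, b (p₂ z) ∈ U → p₁ z ∈ O₀ := by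
  classical
  choose W hW hyW _hle using fun y : S => exists_isAffineOpen_mem_and_subset (x := y) (U := ⊤) trivial
  obtain ⟨t, ht⟩ := CompactSpace.elim_nhds_subcover (fun y => (W y : Set S)) (fun y => (W y).2.mem_nhds (hyW y))
  choose 𝓘 hadm hmain using fun y : S => exists_center_affine_generic f U hU O₀ hO₀ (hW y)
  let Ip := ∏ y ∈ t, 𝓘 y
  have hsupp : Disjoint (Ip.support : Set S) (U : Set S) := Set.disjoint_left.2 fun x hx hxU =>
    FlatModifLib.support_finsetProd t 𝓘 x (fun y _ hxy => Set.disjoint_left.1 (hadm y).2 hxy hxU) hx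
  have hfg : BlowUp.IsFiniteTypeIdeal Ip := by
    refine Finset.prod_induction 𝓘 BlowUp.IsFiniteTypeIdeal (fun a b ha hb V => ?_) (fun V => ?_) fun y _ => (hadm y).1
    · rw [Scheme.IdealSheafData.ideal_mul, Pi.mul_apply]
      exact (ha V).mul (hb V)
    · exact ⟨{1}, by simp [Scheme.IdealSheafData.one_eq_top]⟩
  refine ⟨Ip, ⟨hfg, hsupp⟩, fun S' b hb X' p₁ p₂ hpb y => ?_⟩
  obtain ⟨y₀, hy₀t, hy₀⟩ := Set.mem_iUnion₂.mp (ht.ge (Set.mem_univ (b y)))
  refine hmain y₀ Ip hsupp ?_ S' b (FlatModifLib.isEffCartier_factor b t 𝓘 hb y₀ hy₀t) hb X' p₁ p₂ hpb y hy₀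
  simp only [Ip, ← Finset.prod_erase_mul t 𝓘 hy₀t, Scheme.IdealSheafData.ideal_mul, Pi.mul_apply]
  exact Ideal.mul_le.2 fun a _ b hb => Ideal.mul_mem_left _ a hb

/-- A strict transform is free near the generic points of the fibres. -/
theorem exists_finLocFree_open [CompactSpace S] [QuasiSeparatedSpace S] (f : X ⟶ S) [IsAffineHom f]
    [LocallyOfFinitePresentation f] [Flat f] [GeometricallyIntegral f] (U : S.Opens) (hU : IsCompact (U : Set S))
    (F : X.Modules) [Coh.IsQCoh F] (hft : CohB1.IsFT F)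
    (hfp : CohB1.IsFP ((Scheme.Modules.pullback (f ⁻¹ᵁ U).ι).obj F))
    (hfl : ∀ x : X, f x ∈ U → closure ({f.asFiber x} : Set (f.fiber (f x))) = Set.univ →
      FlatMod.IsFlatOverAt f F x) :
    ∃ (𝓘 : S.IdealSheafData) (S' : Scheme.{u}) (b : S' ⟶ S), BlowUp.IsBlowUp b 𝓘 ∧ BlowUp.IsAdmissibleFor U 𝓘 ∧
      ∀ (X' : Scheme.{u}) (p₁ : X' ⟶ X) (p₂ : X' ⟶ S'), IsPullback p₁ p₂ f b →
      ∀ (G : X'.Modules) (π : (Scheme.Modules.pullback p₁).obj F ⟶ G),
        BlowUp.IsStrictTransform p₁ (𝓘.comap f) F G π →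
        ∃ V : X'.Opens, FlatMod.IsFinLocFree ((Scheme.Modules.pullback V.ι).obj G) ∧
          Function.Surjective (V.ι ≫ p₂).base := by
  classical
  -- the flat locus over `U`
  let jU := (f ⁻¹ᵁ U).ι
  let FU := (Scheme.Modules.pullback jU).obj F
  haveI : Coh.IsQCoh FU := KFlatLib.isQCoh_pullback jU F
  let L : (f ⁻¹ᵁ U).toScheme.Opens := ⟨{x | FlatMod.IsFlatOverAt (jU ≫ f) FU x},
    RichLib.FlatLoci.isOpen_setOf_isFlatOverAt (jU ≫ f) FU hfp⟩
  let O₀ : X.Opens := jU ''ᵁ L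
  have hO₀U : ∀ z ∈ O₀, f z ∈ U ∧ FlatMod.IsFlatOverAt f F z := by
    rintro _ ⟨x, hx, rfl⟩
    exact ⟨x.2, (RichLib.ModFlat.isFlatOverAt_comp_source jU f F x).1 hx⟩
  have hO₀ : ∀ s ∈ U, ∃ z ∈ O₀, f z = s := by
    intro s hs
    haveI : IsIntegral (f.fiber s) :=
      GeometricallyIntegral.geometrically_isIntegral (S.fromSpecResidueField s) _ _
        (IsPullback.of_hasPullback f (S.fromSpecResidueField s))
    let η := genericPoint ↥(f.fiber s)
    have hfx : f (f.fiberι s η) = s := by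
      have h1 : f.fiberι s η ∈ f ⁻¹' {s} := f.range_fiberι s ▸ ⟨η, rfl⟩
      exact h1
    refine ⟨f.fiberι s η, ?_, hfx⟩
    have key : ∀ (s : S) (η : f.fiber s) (x : X), f x = s → f.fiberι s η = x →
        closure ({η} : Set (f.fiber s)) = Set.univ → closure ({f.asFiber x} : Set (f.fiber (f x))) = Set.univ := by
      rintro _ η x rfl h hc
      rwa [show f.asFiber x = η from (f.fiberι (f x)).isEmbedding.injective ((f.fiberι_asFiber x).trans h.symm)]
    have hflat := hfl _ (hfx.symm ▸ hs) (key s η _ hfx rfl (genericPoint_spec ↥(f.fiber s)))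
    exact ⟨⟨_, show f (f.fiberι s η) ∈ U by rw [hfx]; exact hs⟩,
      (RichLib.ModFlat.isFlatOverAt_comp_source jU f F _).2 hflat, rfl⟩
  -- first blowing up
  obtain ⟨𝓘₁, hadm₁, hgen⟩ := exists_admissible_generic f U hU O₀ hO₀
  obtain ⟨S₁, b₁, hb₁⟩ := BlowUpLib.exists_isBlowUp S 𝓘₁
  haveI := BlowUpLib.isProper_of_isBlowUp hb₁ hadm₁.1
  haveI : CompactSpace S₁ := QuasiCompact.compactSpace_of_compactSpace b₁
  haveI : QuasiSeparatedSpace S₁ := quasiSeparatedSpace_of_quasiSeparated b₁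
  let q₁ := pullback.fst f b₁
  let q₂ := pullback.snd f b₁
  have hpb₁ : IsPullback q₁ q₂ f b₁ := IsPullback.of_hasPullback f b₁
  choose D hD hDy hDO using fun y : S₁ => hgen S₁ b₁ hb₁.1 _ q₁ q₂ hpb₁ y
  haveI : Flat q₂ := inferInstance
  haveI : LocallyOfFinitePresentation q₂ := inferInstance
  obtain ⟨κ, hκ⟩ := isCompact_univ.elim_finite_subcover (fun y : S₁ => q₂ '' (D y : Set ↥(pullback f b₁)))
    (fun y => q₂.isOpenMap _ (D y).isOpen) (fun y _ => Set.mem_iUnion.2 ⟨y, hDy y⟩)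
  let X₁ : (pullback f b₁).Opens := κ.sup D
  have hX₁ : ∀ z, z ∈ X₁ ↔ ∃ y ∈ κ, z ∈ D y := fun z => by
    show z ∈ κ.sup D ↔ _
    rw [Finset.sup_eq_iSup]
    simp only [Opens.mem_iSup]
    exact ⟨fun ⟨y, hy, h⟩ => ⟨y, hy, h⟩, fun ⟨y, hy, h⟩ => ⟨y, hy, h⟩⟩
  haveI : CompactSpace X₁.toScheme := by
    refine isCompact_iff_compactSpace.mp ?_
    rw [show (X₁ : Set ↥(pullback f b₁)) = ⋃ y ∈ κ, (D y : Set _) from Set.ext fun z => by
      rw [SetLike.mem_coe, hX₁]; simp]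
    exact κ.finite_toSet.isCompact_biUnion fun y _ => (hD y).isCompact
  let g := X₁.ι ≫ q₂
  haveI : QuasiCompact g := by
    haveI : QuasiCompact (g ≫ terminal.from S₁) := HasAffineProperty.iff_of_isAffine.mpr (by infer_instance)
    exact QuasiCompact.of_comp g (terminal.from S₁)
  have hgs : Function.Surjective g := fun y => by
    obtain ⟨y', hy', z, hz, hzy⟩ := Set.mem_iUnion₂.1 (hκ (Set.mem_univ y))
    exact ⟨⟨z, (hX₁ z).2 ⟨y', hy', hz⟩⟩, hzy⟩
  let U₁ : S₁.Opens := b₁ ⁻¹ᵁ U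
  have hU₁ : IsCompact (U₁ : Set S₁) := b₁.isCompact_preimage hU
  let F₁ := (Scheme.Modules.pullback (X₁.ι ≫ q₁)).obj F
  haveI : Coh.IsQCoh F₁ := KFlatLib.isQCoh_pullback _ F
  have hft₁ : CohB1.IsFT F₁ := ConsLib.isFT_pullback _ F hft
  have hfp₁ : CohB1.IsFP ((Scheme.Modules.pullback (g ⁻¹ᵁ U₁).ι).obj F₁) := by
    let c := (g ⁻¹ᵁ U₁).ι ≫ X₁.ι ≫ q₁
    have hr : Set.range c ⊆ Set.range jU := by
      rw [Scheme.Opens.range_ι]
      rintro _ ⟨z, rfl⟩
      show f (q₁ _) ∈ U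
      rw [← Scheme.Hom.comp_apply q₁ f, hpb₁.w]
      exact z.2
    let l := IsOpenImmersion.lift jU c hr
    exact Groth.Agent.PerfLib.isFP_of_iso' ((Scheme.Modules.pullbackComp l jU).app F ≪≫
      (Scheme.Modules.pullbackCongr (IsOpenImmersion.lift_fac jU c hr)).app F ≪≫
      ((Scheme.Modules.pullbackComp (g ⁻¹ᵁ U₁).ι (X₁.ι ≫ q₁)).app F).symm)
      (RichLib.ModFlat.isFP_pullback l hfp)
  have hfl₁ : ∀ x : X₁.toScheme, g x ∈ U₁ → FlatMod.IsFlatOverAt g F₁ x := by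
    intro x hx
    have hO : q₁ x.1 ∈ O₀ := by
      obtain ⟨y', -, hz⟩ := (hX₁ x.1).1 x.2
      exact hDO y' x.1 hz hx
    haveI : IsIso (b₁ ∣_ U) := EffCartLib.isIso_off_center _ b₁ hb₁ U fun z hz hz' =>
      Set.disjoint_left.1 hadm₁.2 hz' hz
    haveI : IsOpenImmersion (U₁.ι ≫ b₁) := by rw [← morphismRestrict_ι]; infer_instance
    haveI : IsIso (q₁ ∣_ (f ⁻¹ᵁ U)) := isIso_restrict_of_isPullback hpb₁ inferInstance
    let O' : X₁.toScheme.Opens := g ⁻¹ᵁ U₁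
    let c := O'.ι ≫ X₁.ι ≫ q₁
    haveI : IsOpenImmersion c := by
      have hr : Set.range (O'.ι ≫ X₁.ι) ⊆ Set.range (q₁ ⁻¹ᵁ (f ⁻¹ᵁ U)).ι := by
        rw [Scheme.Opens.range_ι]
        rintro _ ⟨z, rfl⟩
        show f (q₁ _) ∈ U
        rw [← Scheme.Hom.comp_apply q₁ f, hpb₁.w]
        exact z.2
      let l := IsOpenImmersion.lift _ _ hr
      have hl : l ≫ (q₁ ∣_ (f ⁻¹ᵁ U)) ≫ (f ⁻¹ᵁ U).ι = c := by
        rw [morphismRestrict_ι, IsOpenImmersion.lift_fac_assoc, Category.assoc]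
      haveI : IsOpenImmersion l := by
        haveI : IsOpenImmersion (l ≫ (q₁ ⁻¹ᵁ (f ⁻¹ᵁ U)).ι) := by rw [IsOpenImmersion.lift_fac]; infer_instance
        exact IsOpenImmersion.of_comp l (q₁ ⁻¹ᵁ (f ⁻¹ᵁ U)).ι
      rw [← hl]; infer_instance
    have e : (g ∣_ U₁) ≫ (U₁.ι ≫ b₁) = c ≫ f := by
      rw [morphismRestrict_ι_assoc]
      simp only [c, g, O', Category.assoc, hpb₁.w]
    have h1 : FlatMod.IsFlatOverAt (g ∣_ U₁) ((Scheme.Modules.pullback O'.ι).obj F₁) (⟨x, hx⟩ : O'.toScheme) :=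
      (RichLib.ModFlat.isFlatOverAt_congr c (U₁.ι ≫ b₁) e
      ((Scheme.Modules.pullbackComp O'.ι (X₁.ι ≫ q₁)).app F) (⟨x, hx⟩ : O'.toScheme)).2 (hO₀U _ hO).2
    rw [← RichLib.ModFlat.isFlatOverAt_comp_target (g ∣_ U₁) U₁.ι] at h1
    have h2 : FlatMod.IsFlatOverAt (O'.ι ≫ g) ((Scheme.Modules.pullback O'.ι).obj F₁) (⟨x, hx⟩ : O'.toScheme) :=
      morphismRestrict_ι g U₁ ▸ h1
    exact (RichLib.ModFlat.isFlatOverAt_comp_source O'.ι g F₁ (⟨x, hx⟩ : O'.toScheme)).1 h2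
  -- second blowing up
  obtain ⟨𝓘₂, hadm₂, hflat⟩ := exists_admissible_flattening_module g U₁ hU₁ F₁ hft₁ hfp₁ hfl₁
  let E₁ := 𝓘₁.comap b₁
  have hE₁ : BlowUp.IsFiniteTypeIdeal E₁ := isFiniteTypeIdeal_comap hadm₁.1 b₁
  have hE₁U : Disjoint (E₁.support : Set S₁) (U₁ : Set S₁) := Set.disjoint_left.2 fun z hz hzU => by
    rw [Scheme.IdealSheafData.support_comap] at hz
    exact Set.disjoint_left.1 hadm₁.2 hz hzU
  let J := 𝓘₂ * E₁
  have hJfg : BlowUp.IsFiniteTypeIdeal J := fun V => by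
    rw [Scheme.IdealSheafData.ideal_mul, Pi.mul_apply]
    exact (hadm₂.1 V).mul (hE₁ V)
  have hJU : Disjoint (J.support : Set S₁) (U₁ : Set S₁) := by
    rw [Scheme.IdealSheafData.support_mul]
    exact Set.disjoint_left.2 fun x hx hxU => hx.elim (fun h => Set.disjoint_left.1 hadm₂.2 h hxU)
      fun h => Set.disjoint_left.1 hE₁U h hxU
  obtain ⟨S₂, b₂, hb₂⟩ := BlowUpLib.exists_isBlowUp S₁ J
  obtain ⟨K, hKfg, hKs, hK⟩ := exists_blowUp_comp hb₁ hadm₁.1 hb₂ hJfg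
  have hKadm : BlowUp.IsAdmissibleFor U K := by
    refine ⟨hKfg, ?_⟩
    rw [hKs]
    refine Disjoint.union_left hadm₁.2 (Set.disjoint_left.2 ?_)
    rintro _ ⟨x', hx', rfl⟩ hxU
    exact Set.disjoint_left.mp hJU hx' hxU
  have hsupp : ((K.comap (b₂ ≫ b₁)).support : Set S₂) = ((J.comap b₂).support : Set S₂) := by
    rw [Scheme.IdealSheafData.support_comap, Scheme.IdealSheafData.support_comap]
    ext z
    have hsub : ∀ w : S₁, b₁ w ∈ (𝓘₁.support : Set S) → w ∈ (J.support : Set S₁) := fun w hw => by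
      rw [Scheme.IdealSheafData.support_mul]
      refine Or.inr ?_
      rw [Scheme.IdealSheafData.support_comap]
      exact hw
    constructor
    · intro hz
      have hz' : b₁ (b₂ z) ∈ (K.support : Set S) := hz
      rw [hKs] at hz'
      rcases hz' with h | ⟨w, hw, hwz⟩
      · exact hsub _ h
      · by_cases h1 : b₁ (b₂ z) ∈ (𝓘₁.support : Set S)
        · exact hsub _ h1
        · haveI : IsIso (b₁ ∣_ (⟨(𝓘₁.support : Set S)ᶜ, 𝓘₁.support.isClosed.isOpen_compl⟩ : S.Opens)) :=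
            EffCartLib.isIso_off_center _ b₁ hb₁ _ fun _ hz hz' => hz hz'
          let C : S.Opens := ⟨(𝓘₁.support : Set S)ᶜ, 𝓘₁.support.isClosed.isOpen_compl⟩
          have hwC : b₁ w ∈ C := fun h => h1 (hwz ▸ h)
          have : (⟨w, hwC⟩ : (b₁ ⁻¹ᵁ C).toScheme) = ⟨b₂ z, h1⟩ :=
            (b₁ ∣_ C).homeomorph.injective (C.ι.isOpenEmbedding.injective (by
              show C.ι ((b₁ ∣_ C) _) = C.ι ((b₁ ∣_ C) _)
              rw [← Scheme.Hom.comp_apply, ← Scheme.Hom.comp_apply, morphismRestrict_ι]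
              exact hwz))
          have h2 : b₂ z = w := (congrArg Subtype.val this).symm
          show b₂ z ∈ (J.support : Set S₁)
          rw [h2]; exact hw
    · intro hz
      show b₁ (b₂ z) ∈ (K.support : Set S)
      rw [hKs]
      exact Or.inr ⟨b₂ z, hz, rfl⟩
  refine ⟨K, S₂, b₂ ≫ b₁, hK, hKadm, fun X' p₁ p₂ hpb G π hπ => ?_⟩
  let r : X' ⟶ pullback f b₁ := pullback.lift p₁ (p₂ ≫ b₂) (by rw [hpb.w, Category.assoc])
  have hr₁ : r ≫ q₁ = p₁ := pullback.lift_fst _ _ _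
  have hr₂ : r ≫ q₂ = p₂ ≫ b₂ := pullback.lift_snd _ _ _
  have hsq : IsPullback r p₂ q₂ b₂ := by
    refine IsPullback.of_right (h₁₂ := q₁) ?_ hr₂ hpb₁
    rw [hr₁]; exact hpb
  let O₁ : X'.Opens := r ⁻¹ᵁ X₁
  have hsq₁ : IsPullback (r ∣_ X₁) (O₁.ι ≫ p₂) g b₂ :=
    ((isPullback_morphismRestrict r X₁).flip.paste_horiz hsq.flip).flip
  let P := (Scheme.Modules.pullback p₁).obj F
  haveI : Coh.IsQCoh P := KFlatLib.isQCoh_pullback p₁ F
  haveI := hπ.1
  have hEfg : BlowUp.IsFiniteTypeIdeal ((K.comap f).comap p₁) := isFiniteTypeIdeal_comap (isFiniteTypeIdeal_comap hKfg f) p₁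
  haveI : Coh.IsQCoh G := isQCoh_strictTransform hEfg π hπ.2
  let e : (Scheme.Modules.pullback (r ∣_ X₁)).obj F₁ ≅ P.restrict O₁.ι :=
    (Scheme.Modules.pullbackComp (r ∣_ X₁) (X₁.ι ≫ q₁)).app F ≪≫
      (Scheme.Modules.pullbackCongr (show (r ∣_ X₁) ≫ X₁.ι ≫ q₁ = O₁.ι ≫ p₁ by
        rw [morphismRestrict_ι_assoc, hr₁])).app F ≪≫
      ((Scheme.Modules.pullbackComp O₁.ι p₁).app F).symm ≪≫
      ((Scheme.Modules.restrictFunctorIsoPullback O₁.ι).app P).symm
  have hstrict := strictTransform_restrict hπ O₁ (q := r ∣_ X₁) (F₀ := F₁) e (𝓙 := J.comap g) (by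
      refine Closeds.ext (Set.ext fun z => ?_)
      simp only [Scheme.IdealSheafData.support_comap, Closeds.coe_preimage, Set.mem_preimage, SetLike.mem_coe]
      have hsupp' : ∀ v : S₂, b₁ (b₂ v) ∈ K.support ↔ b₂ v ∈ J.support := fun v => by
        have := Set.ext_iff.1 hsupp v
        simp only [Scheme.IdealSheafData.support_comap, Closeds.coe_preimage, Set.mem_preimage] at this
        exact this
      rw [← Scheme.Hom.comp_apply p₁ f, hpb.w, ← Scheme.Hom.comp_apply (r ∣_ X₁) g, hsq₁.w]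
      exact hsupp' _)
    (isFiniteTypeIdeal_comap hEfg _) (isFiniteTypeIdeal_comap (isFiniteTypeIdeal_comap hJfg _) _)
  obtain ⟨hG₁, hG₁fl⟩ := hflat E₁ hE₁ hE₁U S₂ b₂ hb₂.1 _ (r ∣_ X₁) (O₁.ι ≫ p₂) hsq₁ _ _ hstrict
  have hGfp : CohB1.IsFP ((Scheme.Modules.pullback O₁.ι).obj G) :=
    Groth.Agent.PerfLib.isFP_of_iso' ((Scheme.Modules.restrictFunctorIsoPullback O₁.ι).app G) hG₁
  have hGfl : ∀ z ∈ O₁, FlatMod.IsFlatOverAt p₂ G z := fun z hz =>
    (RichLib.ModFlat.isFlatOverAt_congr O₁.ι (𝟙 S₂) (Category.comp_id (O₁.ι ≫ p₂))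
      ((Scheme.Modules.restrictFunctorIsoPullback O₁.ι).app G) ⟨z, hz⟩).1 (hG₁fl _)
  -- the open
  let 𝒱 : Set X'.Opens := {O | IsAffineOpen O ∧ O ≤ O₁ ∧ Module.Flat Γ(X', O) Γ(G, O)}
  let V : X'.Opens := sSup 𝒱
  have hV : V ≤ O₁ := sSup_le fun O hO => hO.2.1
  refine ⟨V, ?_, fun y => ?_⟩
  · refine Groth.Agent.S1688.isFinLocFree_of_isFP_of_flat ?_ fun z => ?_
    · exact Groth.Agent.PerfLib.isFP_of_iso' ((Scheme.Modules.pullbackComp (X'.homOfLE hV) O₁.ι).app G ≪≫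
        (Scheme.Modules.pullbackCongr (Scheme.homOfLE_ι X' hV)).app G) (RichLib.ModFlat.isFP_pullback _ hGfp)
    · obtain ⟨O, ⟨hOa, -, hOfl⟩, hzO⟩ := Opens.mem_sSup.1 (z.2 : z.1 ∈ sSup 𝒱)
      haveI := hOfl
      exact StrictModLib.isFlatAt_pullback V.ι G z (MiscFlat6.isFlat_of_flat_sections G hOa (x := z.1) hzO)
  -- the generic point of the fibre over `y`
  haveI : Surjective g := ⟨hgs⟩
  haveI : Surjective (O₁.ι ≫ p₂) := MorphismProperty.of_isPullback (P := @Surjective) hsq₁ inferInstance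
  obtain ⟨x, hx⟩ := Scheme.Hom.surjective (O₁.ι ≫ p₂) y
  haveI : IsAffineHom p₂ := MorphismProperty.of_isPullback (P := @IsAffineHom) hpb inferInstance
  haveI : GeometricallyIntegral p₂ := MorphismProperty.of_isPullback (P := @GeometricallyIntegral) hpb inferInstance
  haveI : Flat p₂ := MorphismProperty.of_isPullback (P := @Flat) hpb inferInstance
  obtain ⟨T, hT, hyT, -⟩ := exists_isAffineOpen_mem_and_subset (x := y) (U := ⊤) trivial
  let O : X'.Opens := p₂ ⁻¹ᵁ T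
  have hO : IsAffineOpen O := hT.preimage p₂
  letI : Algebra Γ(S₂, T) Γ(X', O) := (p₂.appLE T O le_rfl).hom.toAlgebra
  haveI : Module.Flat Γ(S₂, T) Γ(X', O) := p₂.flat_appLE hT hO le_rfl
  let p := (hT.primeIdealOf ⟨y, hyT⟩).asIdeal
  have hdC : IsDomain (p.ResidueField ⊗[Γ(S₂, T)] Γ(X', O)) := by
    have gen : ∀ (K : Type u) [Field K] [Algebra Γ(S₂, T) K], IsDomain (K ⊗[Γ(S₂, T)] Γ(X', O)) := fun K _ A => by
      have h0 := isDomain_fibre p₂ hT K (@algebraMap _ _ _ _ A)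
      have hA : (@algebraMap _ _ _ _ A).toAlgebra = A := Algebra.algebra_ext _ _ fun _ => rfl
      have cast : ∀ B : Algebra Γ(S₂, T) K, B = A →
          (letI := B; IsDomain (K ⊗[Γ(S₂, T)] Γ(X', p₂ ⁻¹ᵁ T))) → (letI := A; IsDomain (K ⊗[Γ(S₂, T)] Γ(X', O))) := by
        intro B hB h1
        subst hB
        exact h1
      exact cast (@algebraMap _ _ _ _ A).toAlgebra hA h0
    exact gen p.ResidueField
  obtain ⟨hq, hqp⟩ := isPrime_map_of_fibre (T := Γ(S₂, T)) (C := Γ(X', O)) p hdC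
  have hxO : x.1 ∈ O := by show p₂ x.1 ∈ T; rw [show p₂ x.1 = y from hx]; exact hyT
  let q : PrimeSpectrum Γ(X', O) := ⟨p.map (algebraMap Γ(S₂, T) Γ(X', O)), hq⟩
  let ξ := hO.fromSpec q
  have hξO : ξ ∈ O := hO.range_fromSpec.le ⟨q, rfl⟩
  have hqx : q ≤ hO.primeIdealOf ⟨x.1, hxO⟩ := by
    have h1 := IsAffineOpen.comap_primeIdealOf_appLE (f := p₂) T hT O hO le_rfl (x := x.1) hxO
    rw [show (⟨p₂ x.1, le_rfl (a := p₂ ⁻¹ᵁ T) hxO⟩ : T) = ⟨y, hyT⟩ from Subtype.ext hx] at h1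
    refine Ideal.map_le_iff_le_comap.2 (le_of_eq ?_)
    exact (congrArg PrimeSpectrum.asIdeal h1).symm
  have hsp : ξ ⤳ x.1 := by
    have h1 := ((PrimeSpectrum.le_iff_specializes q _).1 hqx).map hO.fromSpec.continuous
    rwa [hO.fromSpec_primeIdealOf] at h1
  have hξ₁ : ξ ∈ O₁ := hsp.mem_open O₁.isOpen x.2
  have hξy : p₂ ξ = y := by
    have h1 := IsAffineOpen.comap_primeIdealOf_appLE (f := p₂) T hT O hO le_rfl (x := ξ) hξO
    rw [show hO.primeIdealOf ⟨ξ, hξO⟩ = q from hO.fromSpec.isOpenEmbedding.injective (hO.fromSpec_primeIdealOf _)] at h1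
    have h3 := congrArg (fun w => hT.fromSpec w) (h1.symm.trans (PrimeSpectrum.ext hqp) :
      hT.primeIdealOf ⟨p₂ ξ, _⟩ = hT.primeIdealOf ⟨y, hyT⟩)
    simp only [hT.fromSpec_primeIdealOf] at h3
    exact h3
  obtain ⟨c, hc, hξc⟩ := hO.exists_basicOpen_le (V := O₁) ⟨ξ, hξ₁⟩ hξO
  let O' := X'.basicOpen c
  have hO' : IsAffineOpen O' := hO.basicOpen c
  have hO'T : O' ≤ p₂ ⁻¹ᵁ T := X'.basicOpen_le c
  letI : Algebra Γ(S₂, T) Γ(X', O') := (p₂.appLE T O' hO'T).hom.toAlgebra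
  letI : Algebra Γ(X', O) Γ(X', O') := (X'.presheaf.map (homOfLE (X'.basicOpen_le c)).op).hom.toAlgebra
  haveI : IsScalarTower Γ(S₂, T) Γ(X', O) Γ(X', O') := IsScalarTower.of_algebraMap_eq fun a =>
    (RingHom.congr_fun (congrArg CommRingCat.Hom.hom
      (Scheme.Hom.appLE_map p₂ (le_rfl : O ≤ p₂ ⁻¹ᵁ T) (homOfLE (X'.basicOpen_le c)).op)) a).symm
  haveI : IsLocalization.Away c Γ(X', O') := hO.isLocalization_basicOpen c
  letI : Module Γ(S₂, T) Γ(G, O') := Module.compHom _ (p₂.appLE T O' hO'T).hom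
  haveI : IsScalarTower Γ(S₂, T) Γ(X', O') Γ(G, O') := IsScalarTower.of_algebraMap_smul fun _ _ => rfl
  haveI : Module.Flat Γ(S₂, T) Γ(G, O') :=
    RichLib.IsFPAffine.flat_sections p₂ G hT hO' hO'T rfl fun z hz => hGfl z (hc hz)
  haveI : Module.FinitePresentation Γ(X', O') Γ(G, O') := finitePresentation_affine_of_pullback G hGfp hO' hc
  let ξ' := hO'.primeIdealOf ⟨ξ, hξc⟩
  have hq' : p.map (algebraMap Γ(S₂, T) Γ(X', O')) = ξ'.asIdeal := by
    have hcq : Disjoint (Submonoid.powers c : Set Γ(X', O)) (q.asIdeal : Set Γ(X', O)) := by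
      rw [Set.disjoint_left]
      rintro _ ⟨n, rfl⟩ hn
      have h1 := (RichLib.FlatLoci.mem_basicOpen_iff_primeIdealOf hO c ⟨ξ, hξO⟩).1 hξc
      rw [show hO.primeIdealOf ⟨ξ, hξO⟩ = q from hO.fromSpec.isOpenEmbedding.injective (hO.fromSpec_primeIdealOf _)] at h1
      exact h1 (q.isPrime.mem_of_pow_mem n hn)
    have h2 : ξ'.asIdeal.comap (algebraMap Γ(X', O) Γ(X', O')) = q.asIdeal := by
      have h3 := IsAffineOpen.comap_primeIdealOf_appLE (f := 𝟙 X') O hO O' hO' (X'.basicOpen_le c) (x := ξ) hξc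
      rw [show (⟨(𝟙 X' : X' ⟶ X') ξ, _⟩ : O) = ⟨ξ, hξO⟩ from rfl,
        show hO.primeIdealOf ⟨ξ, hξO⟩ = q from hO.fromSpec.isOpenEmbedding.injective (hO.fromSpec_primeIdealOf _)] at h3
      refine Eq.trans ?_ (congrArg PrimeSpectrum.asIdeal h3)
      show Ideal.comap _ _ = Ideal.comap _ _
      congr 1
    rw [IsScalarTower.algebraMap_eq Γ(S₂, T) Γ(X', O) Γ(X', O'), ← Ideal.map_map]
    refine Eq.trans ?_ (IsLocalization.map_under (Submonoid.powers c) Γ(X', O') ξ'.asIdeal)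
    rw [Ideal.under_def, h2]
  haveI : (p.map (algebraMap Γ(S₂, T) Γ(X', O'))).IsPrime := hq' ▸ ξ'.isPrime
  obtain ⟨t, ht, hfree⟩ := exists_free_near (T := Γ(S₂, T)) (C := Γ(X', O')) (M := Γ(G, O')) p
  haveI := hfree
  have hflt := flat_sections_basicOpen G hO' t
  have hξt : ξ ∈ X'.basicOpen t := (RichLib.FlatLoci.mem_basicOpen_iff_primeIdealOf hO' t ⟨ξ, hξc⟩).2 (hq' ▸ ht)
  have hmem : X'.basicOpen t ∈ 𝒱 := ⟨hO'.basicOpen t, (X'.basicOpen_le t).trans hc, hflt⟩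
  exact ⟨⟨ξ, Opens.mem_sSup.2 ⟨_, hmem, hξt⟩⟩, hξy⟩

end RGFlatLib

end
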