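import Mathlib
import Groth.Prelude.Def_FlatCA

/-!
# Freeness of a base change modulo torsion
-/

set_option autoImplicit false

noncomputable section

universe u

open TensorProduct

namespace RGFlatLib

/-- If `M ⊗ O → O^n` is surjective with kernel killed by powers of the ideal extended to `C = S'_g`,
then the localisation of `M ⊗ S'` modulo `a`-power torsion is free of rank `n`. -/
theorem free_quot_powTorsion {S O S' C : Type u} [CommRing S] [CommRing O] [CommRing S'] [CommRing C]
    [Algebra S O] [Algebra S S'] [Algebra S C] [Algebra S' C] [IsScalarTower S S' C] [Algebra O C]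
    [IsScalarTower S O C] (g : S') [IsLocalization.Away g C]
    {M P M' : Type u} [AddCommGroup M] [Module S M] [AddCommGroup P] [Module O P] [Module S P] [IsScalarTower S O P]
    [AddCommGroup M'] [Module S' M'] [Module S M'] [IsScalarTower S S' M']
    (ψ : M →ₗ[S] P) (hψ : IsBaseChange O ψ) (φ : M →ₗ[S] M') (hφ : IsBaseChange S' φ)
    {n : ℕ} (π : P →ₗ[O] (Fin n → O)) (hπ : Function.Surjective π)
    (a : S') (ha : algebraMap S' C a ∈ nonZeroDivisors C)
    (hker : ∀ k, π k = 0 → ∃ N : ℕ, algebraMap S' C a ^ N ∈
      Ideal.map (algebraMap O C) (LinearMap.ker (LinearMap.toSpanSingleton O P k))) [Nontrivial C] :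
    Module.Free (Localization.Away g) (LocalizedModule (Submonoid.powers g) (M' ⧸ FlatCA.powTorsion S' a M')) ∧
      Module.rank (Localization.Away g)
        (LocalizedModule (Submonoid.powers g) (M' ⧸ FlatCA.powTorsion S' a M')) = n := by
  classical
  -- `N = M'_g`
  let N := C ⊗[S] M
  let j : M →ₗ[S] N := TensorProduct.mk S C M 1
  have hjb : IsBaseChange C j := TensorProduct.isBaseChange S M C
  let c : C := algebraMap S' C a
  let T : Submodule C N := FlatCA.powTorsion C c N
  let i : M' →ₗ[S'] N := hφ.lift j
  have hi : ∀ m, i (φ m) = j m := hφ.lift_eq j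
  let L : P →ₗ[O] N := hψ.lift j
  have hL : ∀ m, L (ψ m) = j m := hψ.lift_eq j
  have hT : ∀ x : N, (∃ k : ℕ, c ^ k • x = 0) → x ∈ T := fun x ⟨k, hk⟩ =>
    Submodule.mem_iSup_of_mem k ((Submodule.mem_torsionBy_iff _ _).2 hk)
  have hLker : ∀ k, π k = 0 → L k ∈ T := fun k hk => by
    obtain ⟨e, he⟩ := hker k hk
    refine hT _ ⟨e, ?_⟩
    have h1 : Ideal.map (algebraMap O C) (LinearMap.ker (LinearMap.toSpanSingleton O P k)) ≤
        LinearMap.ker (LinearMap.toSpanSingleton C N (L k)) := Ideal.map_le_iff_le_comap.2 fun o ho => by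
      have ho' : o • k = 0 := ho
      show algebraMap O C o • L k = 0
      rw [algebraMap_smul, ← map_smul, ho', map_zero]
    exact h1 he
  -- the inverse map
  let y : Fin n → P := fun t => (hπ (Pi.single t 1)).choose
  have hy : ∀ t, π (y t) = Pi.single t 1 := fun t => (hπ (Pi.single t 1)).choose_spec
  let Ξ : (Fin n → C) →ₗ[C] N ⧸ T :=
    (Pi.basisFun C (Fin n)).constr C fun t => T.mkQ (L (y t))
  let π₀ : M →ₗ[S] (Fin n → C) :=
    { toFun := fun m t => algebraMap O C (π (ψ m) t)
      map_add' := fun x z => by ext t; simp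
      map_smul' := fun s x => by
        ext t
        rw [map_smul, LinearMap.map_smul_of_tower]
        simp [Algebra.smul_def, ← IsScalarTower.algebraMap_apply] }
  let Φ : M' →ₗ[S'] (Fin n → C) := hφ.lift π₀
  have hΦ : ∀ m, Φ (φ m) = π₀ m := hφ.lift_eq π₀
  have hΞ : ∀ x, Ξ (Φ x) = T.mkQ (i x) := by
    intro x
    induction x using hφ.inductionOn with
    | zero => rw [map_zero, map_zero, map_zero, map_zero]
    | smul s x hx =>
      rw [map_smul, LinearMap.map_smul_of_tower, hx, map_smul, LinearMap.map_smul_of_tower]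
    | add x z hx hz => rw [map_add, map_add, hx, hz, map_add, map_add]
    | tmul m =>
      rw [hΦ, hi, ← hL]
      simp only [Ξ, Module.Basis.constr_apply_fintype, Pi.basisFun_equivFun, LinearEquiv.refl_apply]
      have h2 : π (ψ m - ∑ t, π (ψ m) t • y t) = 0 := by
        rw [map_sub, map_sum]
        simp only [map_smul, hy]
        rw [sub_eq_zero]
        ext t
        simp [Finset.sum_apply, Pi.single_apply]
      have h3 : L (ψ m) - ∑ t, π (ψ m) t • L (y t) ∈ T := by
        have := hLker _ h2
        simpa [map_sub, map_sum, map_smul] using this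
      rw [← sub_eq_zero, ← neg_sub, neg_eq_zero]
      have h9 : (T.mkQ.restrictScalars O) (L (ψ m) - ∑ t, π (ψ m) t • L (y t)) = 0 :=
        (Submodule.Quotient.mk_eq_zero T).2 h3
      simpa [π₀, map_sub, map_sum, algebraMap_smul] using h9
  -- localisation
  haveI hloc : IsLocalizedModule (Submonoid.powers g) i := by
    rw [isLocalizedModule_iff_isBaseChange (Submonoid.powers g) C]
    exact IsBaseChange.of_comp hφ (by
      rw [show (i.restrictScalars S).comp φ = j from LinearMap.ext hi]
      exact hjb)
  have hΦker : ∀ x, Φ x = 0 → ∃ k, g ^ k • x ∈ FlatCA.powTorsion S' a M' := fun x hx => by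
    have h4 : i x ∈ T := by
      have := hΞ x
      rw [hx, map_zero, Submodule.mkQ_apply, eq_comm, Submodule.Quotient.mk_eq_zero] at this
      exact this
    replace h4 : i x ∈ ⨆ e : ℕ, Submodule.torsionBy C N (c ^ e) := h4
    rw [Submodule.mem_iSup_of_directed _ (directed_of_isDirected_le fun p q hpq z hz => by
      rw [Submodule.mem_torsionBy_iff] at hz ⊢
      rw [← Nat.sub_add_cancel hpq, pow_add, mul_smul, hz, smul_zero])] at h4
    obtain ⟨e, he⟩ := h4
    rw [Submodule.mem_torsionBy_iff, show c ^ e = algebraMap S' C (a ^ e) from (map_pow _ _ _).symm,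
      algebraMap_smul, ← map_smul] at he
    obtain ⟨⟨_, k, rfl⟩, hk⟩ := (IsLocalizedModule.eq_zero_iff (Submonoid.powers g) i).1 he
    refine ⟨k, Submodule.mem_iSup_of_mem e ((Submodule.mem_torsionBy_iff _ _).2 ?_)⟩
    rw [smul_comm]; exact hk
  let θ : (M' ⧸ FlatCA.powTorsion S' a M') →ₗ[S'] (Fin n → C) :=
    (FlatCA.powTorsion S' a M').liftQ Φ (iSup_le fun e x hx => by
      rw [Submodule.mem_torsionBy_iff] at hx
      rw [LinearMap.mem_ker]
      ext t
      refine (mem_nonZeroDivisors_iff_right.1 (pow_mem ha e) _ ?_)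
      have h5 := congrFun (congrArg Φ hx) t
      rw [map_smul, map_zero, Pi.smul_apply, Algebra.smul_def, map_pow] at h5
      rw [mul_comm]; exact h5)
  haveI : IsLocalizedModule (Submonoid.powers g) θ := by
    refine ⟨fun s => ?_, fun z => ?_, fun {x₁ x₂} h => ?_⟩
    · rw [Module.End.isUnit_iff]
      have hu := IsLocalization.map_units C s
      have he : ⇑(algebraMap S' (Module.End S' (Fin n → C)) s) = fun z : Fin n → C => algebraMap S' C s • z :=
        funext fun z => (algebraMap_smul C (s : S') z).symm
      rw [he]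
      exact ⟨fun p q hpq => hu.smul_left_cancel.1 hpq, fun z => ⟨(↑hu.unit⁻¹ : C) • z, by
        simp only [smul_smul, hu.mul_val_inv, one_smul]⟩⟩
    · -- surjectivity
      have hspan : ∀ t, ∃ (x : M') (s : Submonoid.powers g), (s : S') • (Pi.single t 1 : Fin n → C) = Φ x := by
        intro t
        suffices hP : ∀ p : P, ∃ (x : M') (s : Submonoid.powers g),
            (s : S') • (fun t' => algebraMap O C (π p t')) = Φ x by
          obtain ⟨x, s, hx⟩ := hP (y t)
          refine ⟨x, s, ?_⟩
          rw [← hx, hy]
          congr 1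
          ext t'
          by_cases h' : t' = t
          · subst h'; simp
          · simp [Pi.single_eq_of_ne h']
        intro p
        induction p using hψ.inductionOn with
        | zero => exact ⟨0, 1, by ext; simp⟩
        | tmul m => exact ⟨φ m, 1, by rw [hΦ, Submonoid.coe_one, one_smul]; rfl⟩
        | add p q hp hq =>
          obtain ⟨x, s, hx⟩ := hp
          obtain ⟨x', s', hx'⟩ := hq
          refine ⟨(s' : S') • x + (s : S') • x', s * s', ?_⟩
          rw [map_add Φ, map_smul Φ, map_smul Φ, ← hx, ← hx', smul_smul, smul_smul, Submonoid.coe_mul,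
            mul_comm (s' : S'), ← smul_add]
          congr 1
          ext t'
          simp
        | smul o p hp =>
          obtain ⟨x, s, hx⟩ := hp
          obtain ⟨⟨r, w⟩, hr⟩ := IsLocalization.surj (Submonoid.powers g) (algebraMap O C o)
          refine ⟨r • x, w * s, ?_⟩
          rw [map_smul Φ, ← hx]
          ext t'
          simp only [map_smul, Pi.smul_apply, smul_eq_mul, map_mul, Submonoid.coe_mul, Algebra.smul_def, Pi.mul_apply,
            Pi.algebraMap_apply]
          rw [← hr]
          ring
      choose x s hxs using hspan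
      have : z ∈ Submodule.span C (Set.range fun t => θ (Submodule.Quotient.mk (x t))) := by
        rw [pi_eq_sum_univ z]
        refine Submodule.sum_mem _ fun t _ => Submodule.smul_mem _ _ ?_
        have hu := IsLocalization.map_units C (s t)
        have h6 : θ (Submodule.Quotient.mk (x t)) = algebraMap S' C (s t) • (Pi.single t 1 : Fin n → C) := by
          rw [algebraMap_smul, hxs]; rfl
        have h7 : (fun t' => if t = t' then (1 : C) else 0) =
            (↑hu.unit⁻¹ : C) • θ (Submodule.Quotient.mk (x t)) := by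
          rw [h6, smul_smul, hu.val_inv_mul, one_smul]
          ext t'
          simp [Pi.single_apply, eq_comm]
        rw [h7]
        exact Submodule.smul_mem _ _ (Submodule.subset_span ⟨t, rfl⟩)
      induction this using Submodule.span_induction with
      | mem w hw => obtain ⟨t, rfl⟩ := hw; exact ⟨⟨_, 1⟩, one_smul _ _⟩
      | zero => exact ⟨⟨0, 1⟩, by simp⟩
      | add p q _ _ hp hq =>
        obtain ⟨⟨p', s₁⟩, hp⟩ := hp
        obtain ⟨⟨q', s₂⟩, hq⟩ := hq
        refine ⟨⟨(s₂ : S') • p' + (s₁ : S') • q', s₁ * s₂⟩, ?_⟩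
        simp only [Submonoid.smul_def] at hp hq ⊢
        rw [map_add, map_smul, map_smul, ← hp, ← hq, smul_smul, smul_smul, Submonoid.coe_mul, mul_comm (s₂ : S'),
          smul_add]
      | smul r p _ hp =>
        obtain ⟨⟨p', s₁⟩, hp⟩ := hp
        obtain ⟨⟨r', w⟩, hr⟩ := IsLocalization.surj (Submonoid.powers g) r
        refine ⟨⟨r' • p', w * s₁⟩, ?_⟩
        simp only [Submonoid.smul_def] at hp ⊢
        rw [map_smul, ← hp, Submonoid.coe_mul]
        ext t'
        simp only [Pi.smul_apply, Algebra.smul_def, map_mul, smul_eq_mul, Pi.mul_apply, Pi.algebraMap_apply,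
          Algebra.algebraMap_self, RingHom.id_apply]
        rw [← hr]
        ring
    · obtain ⟨x₁, rfl⟩ := Submodule.Quotient.mk_surjective _ x₁
      obtain ⟨x₂, rfl⟩ := Submodule.Quotient.mk_surjective _ x₂
      obtain ⟨k, hk⟩ := hΦker (x₁ - x₂) (by rw [map_sub, sub_eq_zero]; exact h)
      refine ⟨⟨g ^ k, k, rfl⟩, ?_⟩
      simp only [Submonoid.smul_def]
      rw [← Submodule.Quotient.mk_smul, ← Submodule.Quotient.mk_smul, Submodule.Quotient.eq, ← smul_sub]
      exact hk
  -- transport to the standard models
  let A := Localization.Away g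
  let e : C ≃ₐ[S'] A := IsLocalization.algEquiv (Submonoid.powers g) C A
  letI : Module A (Fin n → C) := Module.compHom _ e.symm.toRingEquiv.toRingHom
  haveI : IsScalarTower S' A (Fin n → C) := IsScalarTower.of_algebraMap_smul fun s z => by
    show e.symm (algebraMap S' A s) • z = _
    rw [AlgEquiv.commutes, algebraMap_smul]
  let l := (IsLocalizedModule.iso (Submonoid.powers g) θ).extendScalarsOfIsLocalization (Submonoid.powers g) A
  let b : Module.Basis (Fin n) A (Fin n → C) := (Pi.basisFun C (Fin n)).mapCoeffs e.toRingEquiv fun r z => by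
    show e.symm (e r) • z = _
    rw [AlgEquiv.symm_apply_apply]
  haveI : Nontrivial A := e.toRingEquiv.symm.surjective.nontrivial
  exact ⟨Module.Free.of_basis (b.map l.symm),
    by rw [rank_eq_card_basis (b.map l.symm), Fintype.card_fin]⟩

/-- the rank of the free quotient is the rank at a prime below -/
theorem rank_eq_of_fibre {S O K : Type u} [CommRing S] [CommRing O] [Field K] [Algebra S O] [Algebra S K]
    [Algebra O K] [IsScalarTower S O K]
    {M P : Type u} [AddCommGroup M] [Module S M] [AddCommGroup P] [Module O P] [Module S P] [IsScalarTower S O P]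
    (ψ : M →ₗ[S] P) (hψ : IsBaseChange O ψ) {n : ℕ} (π : P →ₗ[O] (Fin n → O)) (hπ : Function.Surjective π)
    (hker : ∀ k, π k = 0 → ∃ c : O, c • k = 0 ∧ algebraMap O K c ≠ 0)
    (q : Ideal S) [q.IsPrime] (hq : RingHom.ker (algebraMap S K) ≤ q) {r : ℕ}
    (hfree : Module.Free (Localization.AtPrime q) (LocalizedModule q.primeCompl M))
    (hrank : Module.rank (Localization.AtPrime q) (LocalizedModule q.primeCompl M) = r) : n = r := by
  classical
  let Sq := Localization.AtPrime q
  let Mq := LocalizedModule q.primeCompl M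
  haveI := hfree
  let e : Sq →+* K := IsLocalization.lift (M := q.primeCompl) (g := algebraMap S K) fun t =>
    isUnit_iff_ne_zero.2 fun h => t.2 (hq h)
  letI : Algebra Sq K := e.toAlgebra
  haveI : IsScalarTower S Sq K := IsScalarTower.of_algebraMap_eq fun s => (IsLocalization.lift_eq _ s).symm
  have hb : IsBaseChange Sq (LocalizedModule.mkLinearMap q.primeCompl M) :=
    IsLocalizedModule.isBaseChange q.primeCompl Sq _
  haveI : Module.Finite Sq Mq := by
    have h1 : Module.rank Sq Mq < Cardinal.aleph0 := hrank ▸ Cardinal.nat_lt_aleph0 r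
    exact Module.rank_lt_aleph0_iff.1 h1
  have hr : Module.finrank K (K ⊗[S] M) = r := by
    have e1 : K ⊗[Sq] Mq ≃ₗ[K] K ⊗[S] M :=
      (TensorProduct.AlgebraTensorModule.congr (LinearEquiv.refl K K) hb.equiv.symm).trans
        (TensorProduct.AlgebraTensorModule.cancelBaseChange S Sq K K M)
    rw [← e1.finrank_eq, Module.finrank_baseChange, Module.finrank, hrank, Cardinal.toNat_natCast]
  have hn : Module.finrank K (K ⊗[S] M) = n := by
    have e2 : K ⊗[O] P ≃ₗ[K] K ⊗[S] M :=
      (TensorProduct.AlgebraTensorModule.congr (LinearEquiv.refl K K) hψ.equiv.symm).trans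
        (TensorProduct.AlgebraTensorModule.cancelBaseChange S O K K M)
    have hinj : Function.Injective (π.baseChange K) := by
      refine (injective_iff_map_eq_zero _).2 fun z hz => ?_
      have hex := lTensor_exact K (LinearMap.exact_subtype_ker_map π) hπ
      obtain ⟨w, rfl⟩ := (hex z).1 hz
      induction w with
      | zero => rw [map_zero]
      | add w w' hw hw' => rw [map_add, hw (by
          have hz0 : ∀ v, (π.baseChange K) ((LinearMap.lTensor K π.ker.subtype) v) = 0 := fun v =>
            (hex _).2 ⟨v, rfl⟩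
          exact hz0 w), hw' ((hex _).2 ⟨w', rfl⟩), add_zero]
      | tmul x k =>
        obtain ⟨c, hc, hc0⟩ := hker k.1 k.2
        rw [LinearMap.lTensor_tmul]
        have h2 : x = c • (x * (algebraMap O K c)⁻¹) := by
          rw [Algebra.smul_def, mul_comm, mul_assoc, inv_mul_cancel₀ hc0, mul_one]
        rw [h2, smul_tmul]
        show _ ⊗ₜ[O] (c • k.1) = 0
        rw [hc, tmul_zero]
    haveI : Nontrivial O := (algebraMap O K).domain_nontrivial
    have hsurj : Function.Surjective (π.baseChange K) := LinearMap.lTensor_surjective K hπ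
    rw [← e2.finrank_eq, (LinearEquiv.ofBijective (π.baseChange K) ⟨hinj, hsurj⟩).finrank_eq,
      Module.finrank_baseChange, Module.finrank_fin_fun]
  exact hn.symm.trans hr

end RGFlatLib

end
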