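import Mathlib
import Groth.Agent.RGFlatLib.GenFinish
import Groth.Agent.RGFlatLib.RingFreeAlg
import Groth.Agent.RGFlatLib.StrictExists
import Groth.Agent.RankLocusLib.Tilde
import Groth.Agent.BlowUpLib.Chart
import Groth.Agent.MiscFlat6.TildeFin
import Groth.Agent.CohCmpLib.Good

/-!
# Making a module free near the fibres by an affine blow-up
-/

set_option autoImplicit false
set_option maxHeartbeats 1000000

noncomputable section

universe u

open CategoryTheory CategoryTheory.Limits AlgebraicGeometry TensorProduct TopologicalSpace Opposite BlowUpLib CohBCLib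

namespace RGFlatLib

variable {R S : Type u} [CommRing R] [CommRing S] [Algebra R S]

/-- the rings of the geometric fibres are domains -/
theorem isDomain_tensor (hgi : FlatCA.GeomIntegralFibres R S) (K : Type u) [Field K] [Algebra R K] :
    IsDomain (K ⊗[R] S) := by
  haveI := hgi
  let b := Spec.map (CommRingCat.ofHom (algebraMap R K))
  let φm := Spec.map (CommRingCat.ofHom (algebraMap R S))
  haveI : IsIntegral (pullback φm b) :=
    GeometricallyIntegral.geometrically_isIntegral b _ _ (IsPullback.of_hasPullback φm b)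
  let i := pullbackSymmetry φm b ≪≫ pullbackSpecIso R K S
  haveI : IsIntegral (Spec (CommRingCat.of (K ⊗[R] S))) := by
    haveI : Nonempty ↥(Spec (CommRingCat.of (K ⊗[R] S))) := ⟨i.hom (Classical.arbitrary ↥(pullback φm b))⟩
    exact isIntegral_of_isOpenImmersion i.inv
  exact (affine_isIntegral_iff (CommRingCat.of (K ⊗[R] S))).1 inferInstance

/-- ideal sheaves of products -/
theorem specIdeal_mul (I J : Ideal R) : specIdeal (I * J) = specIdeal I * specIdeal J := by
  refine Scheme.IdealSheafData.ext_of_isAffine ?_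
  rw [Scheme.IdealSheafData.ideal_mul, Pi.mul_apply, specIdeal_top, specIdeal_top, specIdeal_top, Ideal.map_mul]

/-- the support of an ideal sheaf on a spectrum -/
theorem mem_support_specIdeal (I : Ideal R) (x : Spec (CommRingCat.of R)) :
    x ∈ (specIdeal I).support ↔ I ≤ x.asIdeal := by
  rw [Scheme.IdealSheafData.mem_support_iff_of_mem (U := ⟨⊤, isAffineOpen_top _⟩) (show x ∈ (⊤ : (Spec (CommRingCat.of R)).Opens) from trivial),
    Scheme.mem_zeroLocus_iff]
  constructor
  · intro h r hr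
    by_contra hrx
    refine h ((Scheme.ΓSpecIso (CommRingCat.of R)).inv r) (by rw [specIdeal_top]; exact Ideal.mem_map_of_mem _ hr) ?_
    rw [basicOpen_eq_of_affine]; exact hrx
  · intro h c hc
    rw [specIdeal_top] at hc
    obtain ⟨r, rfl⟩ := (Scheme.ΓSpecIso (CommRingCat.of R)).commRingCatIsoToRingEquiv.symm.surjective c
    obtain ⟨r', hr', e⟩ := (Ideal.mem_map_iff_of_surjective _
      (ConcreteCategory.bijective_of_isIso (Scheme.ΓSpecIso (CommRingCat.of R)).inv).2).1 hc
    have e' : r' = r := (ConcreteCategory.bijective_of_isIso (Scheme.ΓSpecIso (CommRingCat.of R)).inv).1 e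
    show x ∉ (Spec (CommRingCat.of R)).basicOpen ((Scheme.ΓSpecIso (CommRingCat.of R)).inv r)
    rw [basicOpen_eq_of_affine]
    exact fun hx => hx (h (e' ▸ hr'))

variable (M : Type u) [AddCommGroup M] [Module S M]

/-- flatness of a module sheaf at a point -/
theorem isFlatAt_tilde (x : Spec (CommRingCat.of S))
    [Module.Flat (Localization.AtPrime x.asIdeal) (LocalizedModule x.asIdeal.primeCompl M)] :
    FlatMod.IsFlatAt (tilde (R := CommRingCat.of S) (ModuleCat.of S M)) x := by
  let X := Spec (CommRingCat.of S)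
  let F : X.Modules := tilde (R := CommRingCat.of S) (ModuleCat.of S M)
  haveI : Coh.IsQCoh F := MiscFlat6.isQCoh_tilde _
  let ε := (Scheme.ΓSpecIso (CommRingCat.of S)).inv.hom
  have hU : IsAffineOpen (⊤ : X.Opens) := isAffineOpen_top X
  have hx : x ∈ (⊤ : X.Opens) := trivial
  let pr := (hU.primeIdealOf ⟨x, hx⟩).asIdeal
  have hmem : ∀ s : S, ε s ∈ pr ↔ s ∈ x.asIdeal := fun s => by
    have h1 := RichLib.FlatLoci.mem_basicOpen_iff_primeIdealOf hU (ε s) ⟨x, hx⟩
    rw [show X.basicOpen (ε s) = PrimeSpectrum.basicOpen s from basicOpen_eq_of_affine (R := CommRingCat.of S) s] at h1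
    exact not_iff_not.1 h1.symm
  letI : Algebra Γ(X, ⊤) (X.presheaf.stalk x) := (X.presheaf.germ ⊤ x hx).hom.toAlgebra
  letI := Module.compHom (F.presheaf.stalk x) (X.presheaf.germ ⊤ x hx).hom
  haveI : IsScalarTower Γ(X, ⊤) (X.presheaf.stalk x) (F.presheaf.stalk x) :=
    IsScalarTower.of_algebraMap_smul fun _ _ => rfl
  haveI : IsLocalization.AtPrime (X.presheaf.stalk x) pr := hU.isLocalization_stalk ⟨x, hx⟩
  haveI hgl := FlatLib.isLocalizedModule_germLin F hU hx
  letI : Module S (F.presheaf.stalk x) := Module.compHom _ ε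
  let te := MiscFlat6.topEquiv (R := CommRingCat.of S) (ModuleCat.of S M)
  let l : M →ₗ[S] (F.presheaf.stalk x) :=
    { toFun := fun m => FlatLib.germLin F hx (te m)
      map_add' := fun a b => by rw [map_add, map_add]
      map_smul' := fun s m => (congrArg _ (MiscFlat6.topEquiv_smul (R := CommRingCat.of S) _ s m)).trans
        ((FlatLib.germLin F hx).map_smul _ _) }
  haveI : IsLocalizedModule x.asIdeal.primeCompl l := by
    refine ⟨fun s => ?_, fun z => ?_, fun {a b} h => ?_⟩
    · have h1 := hgl.map_units ⟨ε s.1, fun h => s.2 ((hmem _).1 h)⟩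
      rw [Module.End.isUnit_iff] at h1 ⊢
      exact h1
    · obtain ⟨⟨m, s⟩, hms⟩ := hgl.surj z
      obtain ⟨m', rfl⟩ := te.surjective m
      obtain ⟨s', hs'⟩ := (ConcreteCategory.bijective_of_isIso (Scheme.ΓSpecIso (CommRingCat.of S)).inv).2 s.1
      exact ⟨⟨m', ⟨s', fun h => s.2 (hs' ▸ (hmem s').2 h)⟩⟩,
        (congrArg (fun r : Γ(X, ⊤) => r • z) hs').trans hms⟩
    · obtain ⟨s, hs⟩ := hgl.exists_of_eq h
      obtain ⟨s', hs'⟩ := (ConcreteCategory.bijective_of_isIso (Scheme.ΓSpecIso (CommRingCat.of S)).inv).2 s.1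
      refine ⟨⟨s', fun h => s.2 (hs' ▸ (hmem s').2 h)⟩, te.injective ?_⟩
      refine (MiscFlat6.topEquiv_smul (R := CommRingCat.of S) (ModuleCat.of S M) s' a).trans
        (Eq.trans ?_ (MiscFlat6.topEquiv_smul (R := CommRingCat.of S) (ModuleCat.of S M) s' b).symm)
      rw [show (Scheme.ΓSpecIso (CommRingCat.of S)).inv s' = s.1 from hs']
      exact hs
  haveI : Module.Flat S (LocalizedModule x.asIdeal.primeCompl M) :=
    Module.Flat.trans S (Localization.AtPrime x.asIdeal) _
  haveI : Module.Flat S (F.presheaf.stalk x) :=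
    Module.Flat.of_linearEquiv (IsLocalizedModule.iso x.asIdeal.primeCompl l).symm
  haveI : Module.Flat Γ(X, ⊤) (F.presheaf.stalk x) :=
    (RichLib.ModFlat.flat_iff_of_semilinear (Scheme.ΓSpecIso (CommRingCat.of S)).commRingCatIsoToRingEquiv.symm
      (AddEquiv.refl (F.presheaf.stalk x)) fun _ _ => rfl).1 ‹_›
  exact (Module.flat_iff_of_isLocalization (X.presheaf.stalk x) pr.primeCompl (F.presheaf.stalk x)).2 ‹_›

/-- the pulled back module is finitely presented over the open where a localisation is -/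
theorem isFP_tilde_open (c : S) [Module.FinitePresentation (Localization.Away c) (LocalizedModule (Submonoid.powers c) M)]
    (O : (Spec (CommRingCat.of S)).Opens) (hO : O = PrimeSpectrum.basicOpen c) :
    CohB1.IsFP ((Scheme.Modules.pullback O.ι).obj (tilde (R := CommRingCat.of S) (ModuleCat.of S M))) := by
  haveI : Coh.IsQCoh (tilde (R := CommRingCat.of S) (ModuleCat.of S M)) := MiscFlat6.isQCoh_tilde _
  haveI : Coh.IsQCoh ((Scheme.Modules.pullback O.ι).obj (tilde (R := CommRingCat.of S) (ModuleCat.of S M))) :=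
    KFlatLib.isQCoh_pullback _ _
  have hOa : IsAffineOpen O := hO ▸ IsAffineOpen.Spec_basicOpen (R := CommRingCat.of S) c
  haveI : IsAffine O.toScheme := hOa
  refine RichLib.IsFPAffine.isFP_of_finitePresentation _ fun p => ⟨⊤, isAffineOpen_top _, trivial, ?_⟩
  let Z := O.toScheme
  let A := Localization.Away c
  letI : Algebra S Γ(Z, ⊤) := (secA O.ι ⊤).toAlgebra
  have hu : IsUnit (algebraMap S Γ(Z, ⊤) c) := by
    let X := Spec (CommRingCat.of S)
    let ε := (Scheme.ΓSpecIso (CommRingCat.of S)).inv.hom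
    have hle : O ≤ X.basicOpen (ε c) := by
      rw [hO]; exact (basicOpen_eq_of_affine (R := CommRingCat.of S) c).ge
    have h1 : IsUnit ((X.presheaf.map (homOfLE (le_top : O ≤ ⊤)).op).hom (ε c)) := by
      have h2 := (RingedSpace.isUnit_res_basicOpen X.toRingedSpace (ε c)).map (X.presheaf.map (homOfLE hle).op).hom
      convert h2 using 1
      rw [show homOfLE (le_top : O ≤ ⊤) = homOfLE hle ≫ homOfLE le_top from rfl, op_comp, Functor.map_comp]
      rfl
    have e : (⊤ : Z.Opens) ≤ O.ι ⁻¹ᵁ O := fun z _ => z.2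
    have h3 := h1.map (O.ι.appLE O ⊤ e).hom
    rwa [← RingHom.comp_apply, ← CommRingCat.hom_comp, Scheme.Hom.map_appLE] at h3
  let α : A →+* Γ(Z, ⊤) := IsLocalization.Away.lift c hu
  letI : Algebra A Γ(Z, ⊤) := α.toAlgebra
  haveI : IsScalarTower S A Γ(Z, ⊤) :=
    IsScalarTower.of_algebraMap_eq fun s => (IsLocalization.Away.lift_eq c hu s).symm
  let P := (Scheme.Modules.pullback O.ι).obj (tilde (R := CommRingCat.of S) (ModuleCat.of S M))
  letI : Module S Γ(P, ⊤) := Module.compHom _ (secA O.ι ⊤)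
  haveI : IsScalarTower S Γ(Z, ⊤) Γ(P, ⊤) := IsScalarTower.of_algebraMap_smul fun _ _ => rfl
  letI : Module A Γ(P, ⊤) := Module.compHom _ α
  haveI : IsScalarTower A Γ(Z, ⊤) Γ(P, ⊤) := IsScalarTower.of_algebraMap_smul fun _ _ => rfl
  haveI : IsScalarTower S A Γ(P, ⊤) := IsScalarTower.of_algebraMap_smul fun s m => by
    show α (algebraMap S A s) • m = _
    rw [IsLocalization.Away.lift_eq]; rfl
  obtain ⟨ψ, hψ⟩ := RankLocusLib.exists_baseChange_tilde O.ι (ModuleCat.of S M) (isAffineOpen_top Z)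
  let j := LocalizedModule.mkLinearMap (Submonoid.powers c) M
  have hj : IsBaseChange A j := IsLocalizedModule.isBaseChange (Submonoid.powers c) A j
  have hL : IsBaseChange Γ(Z, ⊤) (hj.lift ψ) := IsBaseChange.of_comp hj (by
    rw [show ((hj.lift ψ).restrictScalars S).comp j = ψ from LinearMap.ext (hj.lift_eq ψ)]
    exact hψ)
  exact Module.FinitePresentation.of_equiv hL.equiv

/-- sections over affine opens of finite locally free sheaves -/
theorem exists_basis_affine {X : Scheme.{u}} (G : X.Modules) (V : X.Opens)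
    (h : FlatMod.IsFinLocFree ((Scheme.Modules.pullback V.ι).obj G)) {x : X} (hx : x ∈ V) :
    ∃ (O : X.Opens) (n : ℕ), IsAffineOpen O ∧ x ∈ O ∧ O ≤ V ∧
      Nonempty (Module.Basis (Fin n) Γ(X, O) Γ(G, O)) := by
  obtain ⟨W, n, hxW, e⟩ := h ⟨x, hx⟩
  have h1 : RankLocusLib.FreeAlong n G (W.ι ≫ V.ι) :=
    (RankLocusLib.freeAlong_pullback_iff V.ι W.ι).1 ((RankLocusLib.freeAlong_restrict_iff _ W).2 e)
  obtain ⟨O, hO, hxO, hOW⟩ := exists_isAffineOpen_mem_and_subset (x := x) (U := V.ι ''ᵁ W) ⟨_, hxW, rfl⟩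
  have hr : Set.range O.ι ⊆ Set.range (W.ι ≫ V.ι) := by
    rintro _ ⟨z, rfl⟩
    obtain ⟨w, hw, hwz⟩ := hOW z.2
    exact ⟨⟨w, hw⟩, hwz⟩
  have h2 : RankLocusLib.FreeAlong n G O.ι := by
    rw [← IsOpenImmersion.lift_fac (W.ι ≫ V.ι) O.ι hr]
    exact RankLocusLib.freeAlong_comp h1 _
  refine ⟨O, n, hO, hxO, ?_, RankLocusLib.nonempty_basis_of_freeAlong G h2⟩
  intro z hz
  obtain ⟨w, _, rfl⟩ := hOW hz
  exact w.2

end RGFlatLib

end
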