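import Mathlib
import Groth.Agent.RGFlatLib.RingFree
import Groth.Agent.S4666

/-!
# Making a module free of given rank near the fibres by an affine blow-up
-/

set_option autoImplicit false
set_option maxHeartbeats 1000000

noncomputable section

universe u

open CategoryTheory CategoryTheory.Limits AlgebraicGeometry TensorProduct TopologicalSpace Opposite BlowUpLib CohBCLib

namespace RGFlatLib

variable {R S : Type u} [CommRing R] [CommRing S] [Algebra R S]

/-- global sections of a morphism of spectra -/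
theorem secA_spec {A B : Type u} [CommRing A] [CommRing B] (φ : A →+* B) (a : A) :
    secA (Spec.map (CommRingCat.ofHom φ)) ⊤ a = (Scheme.ΓSpecIso (CommRingCat.of B)).inv (φ a) := by
  show ((Scheme.ΓSpecIso (CommRingCat.of A)).inv ≫ (Spec.map (CommRingCat.ofHom φ)).appLE ⊤ ⊤ le_top).hom a = _
  rw [show (Spec.map (CommRingCat.ofHom φ)).appLE ⊤ ⊤ le_top = (Spec.map (CommRingCat.ofHom φ)).appTop from
    Scheme.Hom.appLE_eq_app _, ← Scheme.ΓSpecIso_inv_naturality]
  rfl

/-- in a base change with integral fibres, minimal-type primes contract to extended primes -/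
theorem comap_le_map_of_pushout {T S' : Type u} [CommRing T] [CommRing S'] [Algebra R T] [Algebra S S']
    [Algebra T S'] [Algebra R S'] [IsScalarTower R S S'] [IsScalarTower R T S'] [Algebra.IsPushout R S T S']
    [Module.Flat R S] (hgi : FlatCA.GeomIntegralFibres R S) (σ : Ideal T) [σ.IsPrime] :
    (σ.map (algebraMap T S')).IsPrime ∧ (σ.map (algebraMap T S')).comap (algebraMap T S') = σ ∧
      ((σ.map (algebraMap T S')).comap (algebraMap S S') ≤ (σ.comap (algebraMap R T)).map (algebraMap R S)) := by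
  haveI : Algebra.IsPushout R T S S' := Algebra.IsPushout.symm ‹_›
  haveI : Module.Flat T S' := Module.Flat.of_linearEquiv (Algebra.IsPushout.equiv R T S S').symm.toLinearEquiv
  let κ := σ.ResidueField
  let E : κ ⊗[T] S' ≃ₐ[T] κ ⊗[R] S :=
    (Algebra.TensorProduct.congr (AlgEquiv.refl : κ ≃ₐ[T] κ) (Algebra.IsPushout.equiv R T S S').symm).trans
      (Algebra.TensorProduct.cancelBaseChange R T T κ S)
  have hd : IsDomain (κ ⊗[T] S') := by
    haveI := isDomain_tensor hgi κ
    exact MulEquiv.isDomain (κ ⊗[R] S) E.toRingEquiv.toMulEquiv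
  obtain ⟨h1, h2⟩ := isPrime_map_of_fibre σ hd
  refine ⟨h1, h2, fun s hs => ?_⟩
  by_contra hns
  haveI := isDomain_tensor hgi (σ.comap (algebraMap R T)).ResidueField
  obtain ⟨hp1, hp2⟩ := isPrime_map_of_fibre (σ.comap (algebraMap R T)) (C := S) (isDomain_tensor hgi _)
  refine one_tmul_ne_zero (A := R) (B := S) (K := κ) (q := (σ.comap (algebraMap R T)).map (algebraMap R S)) ?_ hns ?_
  · rw [hp2]
    ext x
    rw [Ideal.mem_comap, RingHom.mem_ker, IsScalarTower.algebraMap_apply R T κ,
      Ideal.algebraMap_residueField_eq_zero]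
  · have hz : ∀ y ∈ σ.map (algebraMap T S'), (1 : κ) ⊗ₜ[T] y = 0 := fun y hy => by
      have hle : σ.map (algebraMap T S') ≤
          RingHom.ker (Algebra.TensorProduct.includeRight : S' →ₐ[T] κ ⊗[T] S') := by
        refine Ideal.map_le_iff_le_comap.2 fun t ht => ?_
        show Algebra.TensorProduct.includeRight (algebraMap T S' t) = (0 : κ ⊗[T] S')
        rw [AlgHom.commutes, Algebra.TensorProduct.algebraMap_apply, Ideal.algebraMap_residueField_eq_zero.mpr ht,
          zero_tmul]
      exact hle hy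
    have h3 := congrArg E (hz _ hs)
    rw [map_zero] at h3
    rw [← h3]
    simp [E, Algebra.IsPushout.equiv_symm_algebraMap_right]

/-- the property of the centre used below -/
def GoodCentre (M : Type u) [AddCommGroup M] [Module S M] (K : (Spec (CommRingCat.of R)).IdealSheafData)
    {S₂ : Scheme.{u}} (b : S₂ ⟶ Spec (CommRingCat.of R)) : Prop :=
  ∀ (X' : Scheme.{u}) (p₁ : X' ⟶ Spec (CommRingCat.of S)) (p₂ : X' ⟶ S₂),
    IsPullback p₁ p₂ (Spec.map (CommRingCat.ofHom (algebraMap R S))) b →
  ∀ (G : X'.Modules) (π : (Scheme.Modules.pullback p₁).obj (tilde (R := CommRingCat.of S) (ModuleCat.of S M)) ⟶ G),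
    BlowUp.IsStrictTransform p₁ (K.comap (Spec.map (CommRingCat.ofHom (algebraMap R S))))
      (tilde (R := CommRingCat.of S) (ModuleCat.of S M)) G π →
    ∃ V : X'.Opens, FlatMod.IsFinLocFree ((Scheme.Modules.pullback V.ι).obj G) ∧
      Function.Surjective (V.ι ≫ p₂).base

/-- the centre -/
theorem exists_centre [Algebra.FinitePresentation R S] [Module.Flat R S]
    (hgi : FlatCA.GeomIntegralFibres R S) (f : R) (r : ℕ)
    (M : Type u) [AddCommGroup M] [Module S M] [Module.Finite S M]
    (hfp : Module.FinitePresentation (Localization.Away (algebraMap R S f))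
      (LocalizedModule (Submonoid.powers (algebraMap R S f)) M))
    (hfree : ∀ (p : Ideal R) [p.IsPrime] [(p.map (algebraMap R S)).IsPrime], f ∉ p →
      Module.Free (Localization.AtPrime (p.map (algebraMap R S))) (LocalizedModule (p.map (algebraMap R S)).primeCompl M) ∧
      Module.rank (Localization.AtPrime (p.map (algebraMap R S)))
        (LocalizedModule (p.map (algebraMap R S)).primeCompl M) = r) :
    ∃ (K₀ : Ideal R) (S₂ : Scheme.{u}) (b : S₂ ⟶ Spec (CommRingCat.of R)),
      K₀.FG ∧ BlowUp.IsFiniteTypeIdeal (specIdeal K₀) ∧ (∀ q : Ideal R, q.IsPrime → K₀ ≤ q → f ∈ q) ∧ BlowUp.IsBlowUp b (specIdeal K₀) ∧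
      GoodCentre (S := S) M (specIdeal K₀) b := by
  classical
  let B := Spec (CommRingCat.of R)
  let X := Spec (CommRingCat.of S)
  let φm : X ⟶ B := Spec.map (CommRingCat.ofHom (algebraMap R S))
  haveI : LocallyOfFinitePresentation φm :=
    (HasRingHomProperty.Spec_iff (P := @LocallyOfFinitePresentation)).2
      (RingHom.finitePresentation_algebraMap.2 inferInstance)
  haveI : Flat φm := (HasRingHomProperty.Spec_iff (P := @Flat)).2 (RingHom.flat_algebraMap_iff.2 inferInstance)
  haveI : GeometricallyIntegral φm := hgi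
  let U : B.Opens := PrimeSpectrum.basicOpen f
  have hU : IsCompact (U : Set B) := (IsAffineOpen.Spec_basicOpen (R := CommRingCat.of R) f).isCompact
  let F : X.Modules := tilde (R := CommRingCat.of S) (ModuleCat.of S M)
  haveI : Coh.IsQCoh F := MiscFlat6.isQCoh_tilde _
  have hft : CohB1.IsFT F := (MiscFlat6.isFT_iff (R := CommRingCat.of S) (ModuleCat.of S M)).2 ‹_›
  haveI := hfp
  have hfpU : CohB1.IsFP ((Scheme.Modules.pullback (φm ⁻¹ᵁ U).ι).obj F) :=
    isFP_tilde_open M (algebraMap R S f) _ rfl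
  have hfl : ∀ x : X, φm x ∈ U → closure ({φm.asFiber x} : Set (φm.fiber (φm x))) = Set.univ →
      FlatMod.IsFlatOverAt φm F x := by
    intro x hx hc
    let p : Ideal R := x.asIdeal.comap (algebraMap R S)
    obtain ⟨hq1, hq2⟩ := isPrime_map_of_fibre p (isDomain_tensor hgi p.ResidueField)
    let z : X := ⟨p.map (algebraMap R S), hq1⟩
    have hz : φm z = φm x := PrimeSpectrum.ext hq2
    obtain ⟨ζ, hζ⟩ : z ∈ Set.range (φm.fiberι (φm x)) := by
      rw [φm.range_fiberι]; exact hz
    have hsp : φm.asFiber x ⤳ ζ := specializes_iff_mem_closure.2 (hc ▸ Set.mem_univ ζ)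
    have h1 := hsp.map (φm.fiberι (φm x)).continuous
    rw [φm.fiberι_asFiber x, hζ] at h1
    have heq : x.asIdeal = p.map (algebraMap R S) :=
      le_antisymm ((PrimeSpectrum.le_iff_specializes x z).2 h1) (Ideal.map_le_iff_le_comap.2 le_rfl)
    have hflatM : ∀ (q : Ideal S) [q.IsPrime], q = p.map (algebraMap R S) →
        Module.Flat (Localization.AtPrime q) (LocalizedModule q.primeCompl M) := by
      rintro q _ rfl
      haveI := (hfree p hx).1
      infer_instance
    haveI := hflatM x.asIdeal heq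
    have hat : FlatMod.IsFlatAt F x := isFlatAt_tilde M x
    letI := FlatMod.moduleStalkOver φm F x
    letI : Algebra (B.presheaf.stalk (φm x)) (X.presheaf.stalk x) := (φm.stalkMap x).hom.toAlgebra
    haveI : Module.Flat (B.presheaf.stalk (φm x)) (X.presheaf.stalk x) := Flat.stalkMap φm x
    haveI : IsScalarTower (B.presheaf.stalk (φm x)) (X.presheaf.stalk x) (F.presheaf.stalk x) :=
      IsScalarTower.of_algebraMap_smul fun _ _ => rfl
    haveI : Module.Flat (X.presheaf.stalk x) (F.presheaf.stalk x) := hat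
    exact Module.Flat.trans (B.presheaf.stalk (φm x)) (X.presheaf.stalk x) (F.presheaf.stalk x)
  obtain ⟨K, S₂, b, hb, hKadm, hG⟩ := exists_finLocFree_open φm U hU F hft hfpU hfl
  -- the ideal
  let K₀ : Ideal R := (K.ideal ⟨⊤, isAffineOpen_top _⟩).comap (Scheme.ΓSpecIso (CommRingCat.of R)).inv.hom
  have hK : specIdeal K₀ = K := by
    refine Scheme.IdealSheafData.ext_of_isAffine ?_
    rw [specIdeal_top]
    exact Ideal.map_comap_of_surjective _
      (ConcreteCategory.bijective_of_isIso (Scheme.ΓSpecIso (CommRingCat.of R)).inv).2 _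
  have hK₀fg : K₀.FG := by
    have h1 : K₀ = (K.ideal ⟨⊤, isAffineOpen_top _⟩).map
        (Scheme.ΓSpecIso (CommRingCat.of R)).commRingCatIsoToRingEquiv := by
      show Ideal.comap (Scheme.ΓSpecIso (CommRingCat.of R)).commRingCatIsoToRingEquiv.symm _ = _
      rw [Ideal.comap_symm]
    rw [h1]
    exact (hKadm.1 ⟨⊤, isAffineOpen_top _⟩).map _
  have hK₀f : ∀ q : Ideal R, q.IsPrime → K₀ ≤ q → f ∈ q := fun q hq hle => by
    by_contra hfq
    refine Set.disjoint_left.1 hKadm.2 ?_ (show (⟨q, hq⟩ : B) ∈ U from hfq)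
    rw [← hK]
    exact (mem_support_specIdeal K₀ _).2 hle
  refine ⟨K₀, S₂, b, hK₀fg, hK.symm ▸ hKadm.1, hK₀f, ?_, ?_⟩
  · rw [hK]; exact hb
  · rw [hK]; exact hG

/-- the rank at a minimal prime of the chart -/
theorem rank_chart [Algebra.FinitePresentation R S] [Module.Flat R S]
    (hgi : FlatCA.GeomIntegralFibres R S) (f : R) (r : ℕ)
    (M : Type u) [AddCommGroup M] [Module S M] [Module.Finite S M]
    (hfp : Module.FinitePresentation (Localization.Away (algebraMap R S f))
      (LocalizedModule (Submonoid.powers (algebraMap R S f)) M))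
    (hfree : ∀ (p : Ideal R) [p.IsPrime] [(p.map (algebraMap R S)).IsPrime], f ∉ p →
      Module.Free (Localization.AtPrime (p.map (algebraMap R S))) (LocalizedModule (p.map (algebraMap R S)).primeCompl M) ∧
      Module.rank (Localization.AtPrime (p.map (algebraMap R S)))
        (LocalizedModule (p.map (algebraMap R S)).primeCompl M) = r)
    {T S' C O : Type u} [CommRing T] [CommRing S'] [CommRing C] [CommRing O] [Algebra R T] [Algebra S S']
    [Algebra T S'] [Algebra R S'] [IsScalarTower R S S'] [IsScalarTower R T S'] [Algebra.IsPushout R S T S']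
    [Algebra S C] [Algebra S' C] [IsScalarTower S S' C] [Algebra T C] [IsScalarTower T S' C]
    [Algebra R C] [IsScalarTower R S' C] [IsScalarTower R T C] [Algebra S O] [Algebra O C] [IsScalarTower S O C]
    (g : S') [IsLocalization.Away g C] [Nontrivial C] (a : R) (haf : a ∈ Ideal.span {f})
    (hanzd : algebraMap R C a ∈ nonZeroDivisors C)
    {P : Type u} [AddCommGroup P] [Module O P] [Module S P] [IsScalarTower S O P]
    (ψ : M →ₗ[S] P) (hψ : IsBaseChange O ψ) {n : ℕ} (πl : P →ₗ[O] (Fin n → O)) (hπl : Function.Surjective πl)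
    (hker : ∀ k, πl k = 0 → ∃ N : ℕ, algebraMap R C a ^ N ∈
      Ideal.map (algebraMap O C) (LinearMap.ker (LinearMap.toSpanSingleton O P k))) : n = r := by
  obtain ⟨Pm, hPm⟩ := Ideal.nonempty_minimalPrimes (R := C) (I := ⊥) bot_ne_top
  haveI := hPm.1.1
  have haPm : algebraMap R C a ∉ Pm := fun h =>
    Set.disjoint_left.1 (Ideal.disjoint_nonZeroDivisors_of_mem_minimalPrimes (by simpa [minimalPrimes] using hPm)) h hanzd
  let σ : Ideal T := Pm.comap (algebraMap T C)
  obtain ⟨hσ1, -, hσ3⟩ := comap_le_map_of_pushout (S := S) (S' := S') hgi σ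
  have hσle : σ.map (algebraMap T S') ≤ Pm.comap (algebraMap S' C) := by
    refine Ideal.map_le_iff_le_comap.2 fun t ht => ?_
    show algebraMap S' C (algebraMap T S' t) ∈ Pm
    rw [← IsScalarTower.algebraMap_apply]; exact ht
  have hgσ : Disjoint (Submonoid.powers g : Set S') (σ.map (algebraMap T S') : Set S') := by
    rw [Set.disjoint_left]
    rintro _ ⟨k, rfl⟩ hk
    exact hPm.1.1.ne_top (Ideal.eq_top_of_isUnit_mem _ (hσle hk)
      (by rw [map_pow]; exact (IsLocalization.Away.algebraMap_isUnit g).pow k))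
  haveI hPm' : ((σ.map (algebraMap T S')).map (algebraMap S' C)).IsPrime :=
    IsLocalization.isPrime_of_isPrime_disjoint (Submonoid.powers g) C _ hσ1 hgσ
  have hPmeq : Pm ≤ (σ.map (algebraMap T S')).map (algebraMap S' C) :=
    hPm.2 ⟨hPm', bot_le⟩ (Ideal.map_le_iff_le_comap.2 hσle)
  let p : Ideal R := σ.comap (algebraMap R T)
  obtain ⟨hq1, -⟩ := isPrime_map_of_fibre p (C := S) (isDomain_tensor hgi p.ResidueField)
  have hfp' : f ∉ p := by
    intro hfP
    obtain ⟨c, hc⟩ := Ideal.mem_span_singleton.1 haf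
    refine haPm ?_
    have h1 : algebraMap T C (algebraMap R T a) ∈ Pm :=
      show algebraMap R T a ∈ σ from p.mem_of_dvd ⟨c, hc⟩ hfP
    rwa [← IsScalarTower.algebraMap_apply] at h1
  have hcontr : Pm.comap (algebraMap S C) ≤ p.map (algebraMap R S) := fun x hx => by
    refine hσ3 ?_
    show algebraMap S S' x ∈ σ.map (algebraMap T S')
    have h1 : algebraMap S' C (algebraMap S S' x) ∈ (σ.map (algebraMap T S')).map (algebraMap S' C) := by
      rw [← IsScalarTower.algebraMap_apply]; exact hPmeq hx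
    have h2 := IsLocalization.comap_map_of_isPrime_disjoint (Submonoid.powers g) C hσ1 hgσ
    exact h2.le h1
  let κ := Pm.ResidueField
  refine rank_eq_of_fibre (K := κ) ψ hψ πl hπl (fun k hk => ?_) (p.map (algebraMap R S)) ?_ (hfree p hfp').1 (hfree p hfp').2
  · obtain ⟨N, hN⟩ := hker k hk
    by_contra! hall
    have hle : Ideal.map (algebraMap O C)
        (LinearMap.ker (LinearMap.toSpanSingleton O P k)) ≤ Pm :=
      Ideal.map_le_iff_le_comap.2 fun c hc => by
        show algebraMap O C c ∈ Pm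
        rw [← Ideal.algebraMap_residueField_eq_zero, ← IsScalarTower.algebraMap_apply]
        exact hall c hc
    exact haPm (hPm.1.1.mem_of_pow_mem N (hle hN))
  · intro x hx
    rw [RingHom.mem_ker, IsScalarTower.algebraMap_apply S C κ, Ideal.algebraMap_residueField_eq_zero] at hx
    exact hcontr hx

/-- freeness near one prime of the chart -/
theorem free_at_prime [Algebra.FinitePresentation R S] [Module.Flat R S]
    (hgi : FlatCA.GeomIntegralFibres R S) (f : R) (r : ℕ)
    (M : Type u) [AddCommGroup M] [Module S M] [Module.Finite S M]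
    (hfp : Module.FinitePresentation (Localization.Away (algebraMap R S f))
      (LocalizedModule (Submonoid.powers (algebraMap R S f)) M))
    (hfree : ∀ (p : Ideal R) [p.IsPrime] [(p.map (algebraMap R S)).IsPrime], f ∉ p →
      Module.Free (Localization.AtPrime (p.map (algebraMap R S))) (LocalizedModule (p.map (algebraMap R S)).primeCompl M) ∧
      Module.rank (Localization.AtPrime (p.map (algebraMap R S)))
        (LocalizedModule (p.map (algebraMap R S)).primeCompl M) = r)
    (K₀ : Ideal R) (hKfg : BlowUp.IsFiniteTypeIdeal (specIdeal K₀)) {S₂ : Scheme.{u}} (b : S₂ ⟶ Spec (CommRingCat.of R))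
    (hG : GoodCentre (S := S) M (specIdeal K₀) b) (T : Type u) [CommRing T] [Algebra R T] (a : R) (haK : a ∈ K₀)
    (haf : a ∈ Ideal.span {f}) (haT : algebraMap R T a ∈ nonZeroDivisors T)
    (hh : Spec (CommRingCat.of T) ⟶ S₂) (hhb : hh ≫ b = Spec.map (CommRingCat.ofHom (algebraMap R T)))
    (S' M' : Type u) [CommRing S'] [Algebra S S'] [Algebra T S'] [Algebra R S'] [IsScalarTower R S S']
    [IsScalarTower R T S'] [Algebra.IsPushout R S T S']
    [AddCommGroup M'] [Module S' M'] [Module S M'] [IsScalarTower S S' M']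
    (φ : M →ₗ[S] M') (hφ : IsBaseChange S' φ) (p' : Ideal T) [p'.IsPrime] :
    ∃ g : S', g ∉ p'.map (algebraMap T S') ∧
      Module.Free (Localization.Away g)
        (LocalizedModule (Submonoid.powers g) (M' ⧸ FlatCA.powTorsion S' (algebraMap R S' a) M')) ∧
      Module.rank (Localization.Away g)
        (LocalizedModule (Submonoid.powers g) (M' ⧸ FlatCA.powTorsion S' (algebraMap R S' a) M')) = r := by
  let B := Spec (CommRingCat.of R)
  let X := Spec (CommRingCat.of S)
  let φm : X ⟶ B := Spec.map (CommRingCat.ofHom (algebraMap R S))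
  let gT : Spec (CommRingCat.of T) ⟶ B := Spec.map (CommRingCat.ofHom (algebraMap R T))
  let F : X.Modules := tilde (R := CommRingCat.of S) (ModuleCat.of S M)
  haveI : Coh.IsQCoh F := MiscFlat6.isQCoh_tilde _
  let K := specIdeal K₀
  let qT : Spec (CommRingCat.of S') ⟶ Spec (CommRingCat.of T) := Spec.map (CommRingCat.ofHom (algebraMap T S'))
  let qS : Spec (CommRingCat.of S') ⟶ X := Spec.map (CommRingCat.ofHom (algebraMap S S'))
  have hout : IsPullback qS qT φm gT :=
    isPullback_SpecMap_of_isPushout _ _ _ _ (CommRingCat.isPushout_of_isPushout R S T S')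
  let p₁ := pullback.fst φm b
  let p₂ := pullback.snd φm b
  let m : Spec (CommRingCat.of S') ⟶ pullback φm b :=
    pullback.lift qS (qT ≫ hh) (by rw [Category.assoc, hhb, hout.w])
  have hm₁ : m ≫ p₁ = qS := pullback.lift_fst _ _ _
  have hm₂ : m ≫ p₂ = qT ≫ hh := pullback.lift_snd _ _ _
  have hsq : IsPullback m qT p₂ hh := by
    refine IsPullback.of_right (h₁₂ := p₁) ?_ hm₂ (IsPullback.of_hasPullback φm b)
    rw [hm₁, hhb]; exact hout
  -- a strict transform
  let P := (Scheme.Modules.pullback p₁).obj F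
  haveI : Coh.IsQCoh P := KFlatLib.isQCoh_pullback p₁ F
  have hEfg : BlowUp.IsFiniteTypeIdeal ((K.comap φm).comap p₁) :=
    isFiniteTypeIdeal_comap (isFiniteTypeIdeal_comap hKfg φm) p₁
  obtain ⟨G, π, hπe, hπ⟩ := exists_strictTransform_mod hEfg P
  haveI := hπe
  haveI : Coh.IsQCoh G := isQCoh_strictTransform hEfg π hπ
  obtain ⟨V, hVfree, hVsurj⟩ := hG _ p₁ p₂ (IsPullback.of_hasPullback φm b) G π ⟨hπe, hπ⟩
  -- the point
  let y'' : Spec (CommRingCat.of T) := ⟨p', inferInstance⟩
  obtain ⟨v, hv⟩ := hVsurj (hh y'')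
  obtain ⟨z'', hz₁, hz₂⟩ := Scheme.exists_preimage_of_isPullback hsq (V.ι v) y'' hv
  obtain ⟨hτ, hτc, -⟩ := comap_le_map_of_pushout (S := S) (S' := S') hgi p'
  let ξ : Spec (CommRingCat.of S') := ⟨p'.map (algebraMap T S'), hτ⟩
  have hξV : m ξ ∈ V := by
    have hle : p'.map (algebraMap T S') ≤ z''.asIdeal := by
      refine Ideal.map_le_iff_le_comap.2 (le_of_eq ?_)
      exact (congrArg PrimeSpectrum.asIdeal hz₂).symm
    exact (((PrimeSpectrum.le_iff_specializes (R := S') ξ z'').1 hle).map m.continuous).mem_open V.isOpen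
      (hz₁ ▸ v.2)
  obtain ⟨O, n, hO, hξO, hOV, ⟨bas⟩⟩ := exists_basis_affine G V hVfree hξV
  obtain ⟨_, ⟨_, ⟨g, rfl⟩, rfl⟩, hξg, hgO⟩ := PrimeSpectrum.isBasis_basic_opens.exists_subset_of_mem_open
    (show ξ ∈ (m ⁻¹ᵁ O : Set _) from hξO) (m ⁻¹ᵁ O).isOpen
  refine ⟨g, hξg, ?_⟩
  let C := Localization.Away g
  let mC : Spec (CommRingCat.of C) ⟶ pullback φm b := Spec.map (CommRingCat.ofHom (algebraMap S' C)) ≫ m
  have eC : (⊤ : (Spec (CommRingCat.of C)).Opens) ≤ mC ⁻¹ᵁ O := fun w _ => by
    refine hgO ?_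
    show g ∉ _
    intro hw
    exact w.isPrime.ne_top (Ideal.eq_top_of_isUnit_mem _ hw (IsLocalization.Away.algebraMap_isUnit g))
  let ρ : Γ(pullback φm b, O) →+* C :=
    (Scheme.ΓSpecIso (CommRingCat.of C)).hom.hom.comp (mC.appLE O ⊤ eC).hom
  have hρ : ∀ {A : Type u} [CommRing A] (u : pullback φm b ⟶ Spec (CommRingCat.of A)) (φA : A →+* C),
      mC ≫ u = Spec.map (CommRingCat.ofHom φA) → ∀ x, ρ (secA u O x) = φA x := by
    intro A _ u φA hu x
    show (Scheme.ΓSpecIso (CommRingCat.of C)).hom (mC.appLE O ⊤ eC (secA u O x)) = _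
    rw [CohCmpLib.secA_comp, hu, secA_spec, Iso.inv_hom_id_apply]
  have hmC : mC ≫ p₁ = Spec.map (CommRingCat.ofHom (algebraMap S C)) := by
    rw [Category.assoc, hm₁, ← Spec.map_comp, ← CommRingCat.ofHom_comp, ← IsScalarTower.algebraMap_eq]
  letI : Algebra S Γ(pullback φm b, O) := (secA p₁ O).toAlgebra
  letI : Algebra Γ(pullback φm b, O) C := ρ.toAlgebra
  haveI : IsScalarTower S Γ(pullback φm b, O) C :=
    IsScalarTower.of_algebraMap_eq fun x => (hρ p₁ _ hmC x).symm
  letI : Module S Γ(P, O) := Module.compHom _ (secA p₁ O)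
  haveI : IsScalarTower S Γ(pullback φm b, O) Γ(P, O) := IsScalarTower.of_algebraMap_smul fun _ _ => rfl
  obtain ⟨ψ, hψ⟩ := RankLocusLib.exists_baseChange_tilde p₁ (ModuleCat.of S M) hO
  let πl : Γ(P, O) →ₗ[Γ(pullback φm b, O)] (Fin n → Γ(pullback φm b, O)) :=
    bas.equivFun.toLinearMap ∘ₗ QCohLib.appLin π O
  have hπl : Function.Surjective πl :=
    bas.equivFun.surjective.comp (RichLib.IsFPAffine.appLin_surjective π hO)
  -- the image of `a`
  let I' := algebraMap R S' a
  haveI : Algebra.IsPushout R T S S' := Algebra.IsPushout.symm ‹_›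
  haveI : Module.Flat T S' := Module.Flat.of_linearEquiv (Algebra.IsPushout.equiv R T S S').symm.toLinearEquiv
  haveI : Module.Flat T C := Module.Flat.trans T S' C
  have hanzd : algebraMap S' C I' ∈ nonZeroDivisors C := by
    have := nzd_of_flat (algebraMap T C) (RingHom.flat_algebraMap_iff.2 inferInstance) haT
    rwa [← IsScalarTower.algebraMap_apply R T C, IsScalarTower.algebraMap_apply R S' C] at this
  haveI hCnt : Nontrivial C := ⟨⟨1, 0, fun h => hξg (by
    obtain ⟨⟨_, k, rfl⟩, hk⟩ := (IsLocalization.map_eq_zero_iff (Submonoid.powers g) C (1 : S')).1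
      (by rw [map_one]; exact h)
    rw [mul_one] at hk
    refine ξ.isPrime.mem_of_pow_mem k ?_
    rw [show g ^ k = 0 from hk]
    exact Ideal.zero_mem _)⟩⟩
  have hker : ∀ k, πl k = 0 → ∃ N : ℕ, algebraMap S' C I' ^ N ∈
      Ideal.map (algebraMap Γ(pullback φm b, O) C)
        (LinearMap.ker (LinearMap.toSpanSingleton Γ(pullback φm b, O) Γ(P, O) k)) := by
    intro k hk
    have hk' : π.app O k = 0 := by
      have := bas.equivFun.map_eq_zero_iff.1 (show bas.equivFun (QCohLib.appLin π O k) = 0 from hk)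
      exact this
    obtain ⟨N, hN⟩ := (hπ ⟨O, hO⟩ k).1 hk'
    refine ⟨N, ?_⟩
    let c : Γ(pullback φm b, O) := secA (p₁ ≫ φm) O a
    have hc : c ∈ ((K.comap φm).comap p₁).ideal ⟨O, hO⟩ := by
      rw [← Scheme.IdealSheafData.comap_comp, Groth.Agent.S4666.ideal_comap_eq _ _ ⟨⊤, isAffineOpen_top _⟩ ⟨O, hO⟩ le_top]
      refine Ideal.mem_map_of_mem _ ?_
      rw [specIdeal_top]
      exact Ideal.mem_map_of_mem _ haK
    have hcC : algebraMap Γ(pullback φm b, O) C c = algebraMap S' C I' := by
      refine (hρ (p₁ ≫ φm) (algebraMap R C) ?_ a).trans (IsScalarTower.algebraMap_apply R S' C a)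
      rw [← Category.assoc, hmC, ← Spec.map_comp, ← CommRingCat.ofHom_comp, ← IsScalarTower.algebraMap_eq]
    rw [← hcC, ← map_pow]
    refine Ideal.mem_map_of_mem _ ?_
    exact hN _ (by rw [Scheme.IdealSheafData.ideal_pow, Pi.pow_apply]; exact Ideal.pow_mem_pow hc N)
  obtain ⟨hfreeQ, hrankQ⟩ :=
    free_quot_powTorsion (C := C) g ψ hψ φ hφ πl hπl I' hanzd hker
  refine ⟨hfreeQ, ?_⟩
  -- the rank
  rw [hrankQ]
  congr 1
  refine rank_chart hgi f r M hfp hfree (T := T) (C := C) g a haf ?_ ψ hψ πl hπl ?_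
  · rwa [IsScalarTower.algebraMap_apply R S' C]
  · intro k hk
    rw [IsScalarTower.algebraMap_apply R S' C]
    exact hker k hk

/-- The theorem in ring form. -/
theorem exists_free_rank_near [Algebra.FinitePresentation R S] [Module.Flat R S]
    (hgi : FlatCA.GeomIntegralFibres R S) (f : R) (r : ℕ)
    (M : Type u) [AddCommGroup M] [Module S M] [Module.Finite S M]
    (hfp : Module.FinitePresentation (Localization.Away (algebraMap R S f))
      (LocalizedModule (Submonoid.powers (algebraMap R S f)) M))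
    (hfree : ∀ (p : Ideal R) [p.IsPrime] [(p.map (algebraMap R S)).IsPrime], f ∉ p →
      Module.Free (Localization.AtPrime (p.map (algebraMap R S))) (LocalizedModule (p.map (algebraMap R S)).primeCompl M) ∧
      Module.rank (Localization.AtPrime (p.map (algebraMap R S)))
        (LocalizedModule (p.map (algebraMap R S)).primeCompl M) = r) :
    ∃ I : Ideal R, I.FG ∧ I.radical = (Ideal.span {f}).radical ∧ ∀ a ∈ I,
      ∀ (S' M' : Type u) [CommRing S'] [Algebra S S'] [Algebra (BlowUp.affineAlgebra R I a) S'] [Algebra R S']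
        [IsScalarTower R S S'] [IsScalarTower R (BlowUp.affineAlgebra R I a) S']
        [Algebra.IsPushout R S (BlowUp.affineAlgebra R I a) S']
        [AddCommGroup M'] [Module S' M'] [Module S M'] [IsScalarTower S S' M']
        (φ : M →ₗ[S] M'), IsBaseChange S' φ →
        ∀ (p' : Ideal (BlowUp.affineAlgebra R I a)) [p'.IsPrime],
          ∃ g : S', g ∉ p'.map (algebraMap (BlowUp.affineAlgebra R I a) S') ∧
            Module.Free (Localization.Away g)
              (LocalizedModule (Submonoid.powers g) (M' ⧸ FlatCA.powTorsion S' (algebraMap R S' a) M')) ∧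
            Module.rank (Localization.Away g)
              (LocalizedModule (Submonoid.powers g) (M' ⧸ FlatCA.powTorsion S' (algebraMap R S' a) M')) = r := by
  obtain ⟨K₀, S₂, b, hK₀fg, hKft, hK₀f, hb, hG⟩ := exists_centre hgi f r M hfp hfree
  refine ⟨Ideal.span {f} * K₀, (Submodule.fg_span_singleton f).mul hK₀fg, ?_, ?_⟩
  · refine le_antisymm (Ideal.radical_mono Ideal.mul_le_left) ?_
    refine Ideal.IsRadical.radical_le_iff (Ideal.radical_isRadical _) |>.2 ?_
    rw [Ideal.span_singleton_le_iff_mem, Ideal.radical_eq_sInf]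
    refine Submodule.mem_sInf.2 fun q ⟨hle, hq⟩ => ?_
    rcases hq.mul_le.1 hle with h | h
    · exact h (Ideal.mem_span_singleton_self f)
    · exact hK₀f q hq h
  intro a ha S' M' _ _ _ _ _ _ _ _ _ _ _ φ hφ p' _
  have hch := isChart_affineAlgebra (A := R) (I := Ideal.span {f} * K₀) ha
  have hcart : BlowUp.IsEffCartierIdeal
      ((specIdeal K₀).comap (Spec.map (CommRingCat.ofHom
        (algebraMap R (BlowUp.affineAlgebra R (Ideal.span {f} * K₀) a))))) := by
    have h1 : BlowUp.IsEffCartierIdeal ((specIdeal (Ideal.span {f} * K₀)).comap (Spec.map (CommRingCat.ofHom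
        (algebraMap R (BlowUp.affineAlgebra R (Ideal.span {f} * K₀) a))))) := by
      rw [comap_specIdeal, hch.span]
      exact isEffCartier_specIdeal hch.nzd
    rw [specIdeal_mul, comap_mul] at h1
    exact isEffCartier_of_mul h1
  obtain ⟨hh, hhb, -⟩ := hb.2 _ _ hcart
  exact free_at_prime hgi f r M hfp hfree K₀ hKft b hG (BlowUp.affineAlgebra R (Ideal.span {f} * K₀) a) a
    (Ideal.mul_le_right ha) (Ideal.mul_le_left ha) hch.nzd hh hhb S' M' φ hφ p'

end RGFlatLib

end
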